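/-
Norm-one scalars, trace values and small facts about unitary transvections.
-/
import Cfsg.Agent.Lib.Transvec.UnitarySub
import Cfsg.Agent.Lib.Transvec.HermForm

set_option autoImplicit false

namespace CfsgLib.Classical22.UDecomp

open Matrix CfsgLib.Transvec CfsgLib.Transvec.Unitary
open scoped MatrixGroups

/-- The standing hypotheses on the field: `σ` is the `q`-power map of order two on the field with `q²` elements. -/
structure QField {F : Type*} [Field F] (σ : F ≃+* F) (q : ℕ) : Prop where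
  card : Nat.card F = q ^ 2
  pow : ∀ x, σ x = x ^ q
  inv : ∀ x, σ (σ x) = x
  ne : σ ≠ RingEquiv.refl F

variable {F : Type*} [Field F] [Fintype F] {σ : F ≃+* F} {q : ℕ}

lemma QField.two_le (h : QField σ q) : 2 ≤ q := by
  have h1 := h.card
  rw [Nat.card_eq_fintype_card] at h1
  have h2 : 1 < Fintype.card F := Fintype.one_lt_card
  by_contra hq
  interval_cases q <;> simp_all

lemma QField.four_le (h : QField σ q) : 4 ≤ Fintype.card F := by
  have h1 := h.card
  rw [Nat.card_eq_fintype_card] at h1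
  rw [h1, pow_two]
  exact Nat.mul_le_mul h.two_le h.two_le

lemma ne_zero_of_norm_one {l : F} (hl : l * σ l = 1) : l ≠ 0 := left_ne_zero_of_mul_eq_one hl

lemma norm_inv {l : F} (hl : l * σ l = 1) : l⁻¹ * σ l⁻¹ = 1 := by rw [map_inv₀, ← mul_inv, hl, inv_one]

lemma inv_eq_conj {l : F} (hl : l * σ l = 1) : l⁻¹ = σ l := inv_eq_of_mul_eq_one_right hl

lemma norm_mul {l l' : F} (hl : l * σ l = 1) (hl' : l' * σ l' = 1) : l * l' * σ (l * l') = 1 := by
  rw [map_mul]; linear_combination (l' * σ l') * hl + hl'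

/-- The fixed set has at most `q` elements. -/
lemma QField.card_fixed_le (h : QField σ q) [DecidableEq F] :
    (Finset.univ.filter fun r : F => σ r = r).card ≤ q := by
  have hq := h.two_le
  refine le_trans (Finset.card_le_card fun r hr => ?_) ((Multiset.toFinset_card_le _).trans
    ((Polynomial.card_roots' (Polynomial.X ^ q - Polynomial.X : Polynomial F)).trans
      (FiniteField.X_pow_card_sub_X_natDegree_eq F hq).le))
  rw [Finset.mem_filter] at hr
  rw [Multiset.mem_toFinset, Polynomial.mem_roots (FiniteField.X_pow_card_sub_X_ne_zero F hq)]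
  simp [← h.pow, hr.2]

/-- There are at least `q + 1` scalars of norm one. -/
lemma QField.card_norm_one (h : QField σ q) [DecidableEq F] :
    q + 1 ≤ (Finset.univ.filter fun l : F => l * σ l = 1).card := by
  have hq := h.two_le
  obtain ⟨S, hS⟩ : ∃ S : Finset F, S = Finset.univ.erase 0 := ⟨_, rfl⟩
  have h1 : S.card ≤ (q - 1) * (S.image fun a => σ a / a).card := by
    refine Finset.card_le_mul_card_image _ _ fun b hb => ?_
    obtain ⟨a, ha, rfl⟩ := Finset.mem_image.mp hb
    have ha0 : a ≠ 0 := Finset.ne_of_mem_erase (hS ▸ ha)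
    refine le_trans (Finset.card_le_card_of_injOn (fun c => c / a) (t := (Finset.univ.filter fun r : F => σ r = r).erase 0)
      (fun c hc => ?_) (fun c _ d _ hcd => (div_left_inj' ha0).mp hcd)) ?_
    · rw [Finset.mem_coe, Finset.mem_filter] at hc
      have hc0 : c ≠ 0 := Finset.ne_of_mem_erase (hS ▸ hc.1)
      rw [Finset.mem_coe, Finset.mem_erase, Finset.mem_filter]
      refine ⟨div_ne_zero hc0 ha0, Finset.mem_univ _, ?_⟩
      have h2 := hc.2
      rw [div_eq_div_iff hc0 ha0] at h2
      rw [map_div₀, div_eq_div_iff ((map_ne_zero_iff _ σ.injective).mpr ha0) ha0]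
      linear_combination h2
    · rw [Finset.card_erase_of_mem (by simp)]
      exact Nat.sub_le_sub_right h.card_fixed_le 1
  have h2 : S.card = q ^ 2 - 1 := by
    rw [hS, Finset.card_erase_of_mem (Finset.mem_univ _), Finset.card_univ, ← Nat.card_eq_fintype_card, h.card]
  have h3 : (S.image fun a => σ a / a) ⊆ Finset.univ.filter fun l : F => l * σ l = 1 := by
    intro b hb
    obtain ⟨a, ha, rfl⟩ := Finset.mem_image.mp hb
    have ha0 : a ≠ 0 := Finset.ne_of_mem_erase (hS ▸ ha)
    have hσ : σ a ≠ 0 := (map_ne_zero_iff _ σ.injective).mpr ha0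
    rw [Finset.mem_filter]
    refine ⟨Finset.mem_univ _, ?_⟩
    rw [map_div₀, h.inv]
    field_simp
  refine le_trans ?_ (Finset.card_le_card h3)
  have h4 : q ^ 2 - 1 = (q - 1) * (q + 1) := by
    obtain ⟨a, rfl⟩ : ∃ a, q = a + 1 := ⟨q - 1, by omega⟩
    simp only [Nat.add_sub_cancel]
    rw [show (a + 1) ^ 2 = a * (a + 1 + 1) + 1 by ring, Nat.add_sub_cancel]
  rw [h2, h4] at h1
  exact Nat.le_of_mul_le_mul_left h1 (by omega)

/-- A norm-one scalar outside a set of at most `q` elements. -/
lemma QField.exists_norm_one_notMem (h : QField σ q) {S : Finset F} (hS : S.card ≤ q) :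
    ∃ l : F, l * σ l = 1 ∧ l ∉ S := by
  classical
  by_contra hc
  push Not at hc
  have := (h.card_norm_one).trans (Finset.card_le_card (t := S) fun l hl => hc l (Finset.mem_filter.mp hl).2)
  omega

/-- An additive subgroup of fixed elements filling more than half of the fixed field is the whole of it. -/
lemma QField.addSubgroup_fixed_eq (h : QField σ q) [DecidableEq F] (R : AddSubgroup F) (hR : ∀ r ∈ R, σ r = r)
    {S : Finset F} (hS : ∀ s ∈ S, s ∈ R) (hcard : q < 2 * S.card) {r : F} (hr : σ r = r) : r ∈ R := by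
  let K : AddSubgroup F := AddMonoidHom.eqLocus σ.toAddMonoidHom (AddMonoidHom.id F)
  have hK : ∀ {x}, x ∈ K ↔ σ x = x := Iff.rfl
  have hle : R ≤ K := fun x hx => hK.mpr (hR x hx)
  have hKcard : Nat.card K ≤ q := by
    rw [show Nat.card K = Nat.card {x : F // σ x = x} from rfl, Nat.card_eq_fintype_card, Fintype.card_subtype]
    exact h.card_fixed_le
  have hRcard : S.card ≤ Nat.card R := by
    rw [show Nat.card R = Nat.card {x : F // x ∈ R} from rfl]
    classical
    rw [Nat.card_eq_fintype_card, Fintype.card_subtype]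
    exact Finset.card_le_card fun s hs => Finset.mem_filter.mpr ⟨Finset.mem_univ _, hS s hs⟩
  have hdvd := AddSubgroup.card_dvd_of_le hle
  have hpos : 0 < Nat.card K := Nat.card_pos
  have heq : Nat.card R = Nat.card K := by
    obtain ⟨d, hd⟩ := hdvd
    rcases Nat.lt_or_ge d 2 with hd2 | hd2
    · interval_cases d <;> omega
    · have : 2 * Nat.card R ≤ Nat.card K := by rw [hd, mul_comm]; exact Nat.mul_le_mul_left _ hd2
      omega
  have := AddSubgroup.eq_of_le_of_card_ge hle heq.ge
  rw [this]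
  exact hK.mpr hr

/-- A map whose fibres on the norm-one scalars have at most two elements has more than `q / 2` values. -/
lemma QField.lt_two_mul_image (h : QField σ q) [DecidableEq F] (g : F → F)
    (hg : ∀ l, l * σ l = 1 → ∃ a b, ∀ l', l' * σ l' = 1 → g l' = g l → l' = a ∨ l' = b) :
    q < 2 * ((Finset.univ.filter fun l : F => l * σ l = 1).image g).card := by
  have h1 := h.card_norm_one
  refine lt_of_lt_of_le h1 (Finset.card_le_mul_card_image _ 2 fun b hb => ?_)
  obtain ⟨l, hl, rfl⟩ := Finset.mem_image.mp hb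
  obtain ⟨a, b, hab⟩ := hg l (Finset.mem_filter.mp hl).2
  refine le_trans (Finset.card_le_card (t := {a, b}) fun l' hl' => ?_) Finset.card_le_two
  rw [Finset.mem_filter, Finset.mem_filter] at hl'
  rw [Finset.mem_insert, Finset.mem_singleton]
  exact hab l' hl'.1.2 hl'.2

/-- Two norm conditions and one trace condition can be met. -/
lemma QField.exists_norms_trace (h : QField σ q) {a b C : F} (ha : σ a = a) (hb : σ b = b) (hC : σ C = C)
    (ha0 : a ≠ 0) (hb0 : b ≠ 0) :
    ∃ p r : F, p * σ p = a ∧ r * σ r = b ∧ p + σ p + (r + σ r) = C := by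
  classical
  obtain ⟨a₀, ha₀⟩ := exists_norm_eq h.ne h.inv ha
  obtain ⟨b₀, hb₀⟩ := exists_norm_eq h.ne h.inv hb
  have key : ∀ {e e₀ : F}, e₀ * σ e₀ = e → e ≠ 0 →
      q < 2 * ((Finset.univ.filter fun l : F => l * σ l = 1).image fun l => e₀ * l + σ (e₀ * l)).card := by
    intro e e₀ he he0
    have he₀ : e₀ ≠ 0 := fun h0 => he0 (by rw [← he, h0, zero_mul])
    refine h.lt_two_mul_image _ fun l hl => ⟨l, σ (e₀ * l) / e₀, fun l' hl' heq => ?_⟩
    have hp : e₀ * l * σ (e₀ * l) = e := by rw [map_mul]; linear_combination (e₀ * σ e₀) * hl + he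
    have hp' : e₀ * l' * σ (e₀ * l') = e := by rw [map_mul]; linear_combination (e₀ * σ e₀) * hl' + he
    have hzero : (e₀ * l' - e₀ * l) * (e₀ * l' - σ (e₀ * l)) = 0 := by
      linear_combination hp - hp' + (e₀ * l') * heq
    rcases mul_eq_zero.mp hzero with h0 | h0
    · exact Or.inl (mul_left_cancel₀ he₀ (sub_eq_zero.mp h0))
    · exact Or.inr (by rw [← sub_eq_zero.mp h0, mul_div_cancel_left₀ _ he₀])
  obtain ⟨A, hA⟩ : ∃ A : Finset F, A = ((Finset.univ.filter fun l : F => l * σ l = 1).image
      fun l => a₀ * l + σ (a₀ * l)) := ⟨_, rfl⟩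
  obtain ⟨B, hB⟩ : ∃ B : Finset F, B = ((Finset.univ.filter fun l : F => l * σ l = 1).image
      fun l => b₀ * l + σ (b₀ * l)) := ⟨_, rfl⟩
  have hA2 := key ha₀ ha0
  have hB2 := key hb₀ hb0
  rw [← hA] at hA2
  rw [← hB] at hB2
  have hAK : A ⊆ Finset.univ.filter fun r : F => σ r = r := fun x hx => by
    rw [hA, Finset.mem_image] at hx
    obtain ⟨l, -, rfl⟩ := hx
    simp [h.inv, add_comm]
  have hBK : B.image (fun x => C - x) ⊆ Finset.univ.filter fun r : F => σ r = r := fun x hx => by
    rw [Finset.mem_image] at hx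
    obtain ⟨y, hy, rfl⟩ := hx
    rw [hB, Finset.mem_image] at hy
    obtain ⟨l, -, rfl⟩ := hy
    simp [h.inv, add_comm, hC]
  obtain ⟨x, hx⟩ : (A ∩ B.image fun x => C - x).Nonempty := by
    rw [← Finset.card_pos]
    have h1 := Finset.card_union_add_card_inter A (B.image fun x => C - x)
    have h2 := (Finset.card_le_card (Finset.union_subset hAK hBK)).trans h.card_fixed_le
    have h3 : (B.image fun x => C - x).card = B.card :=
      Finset.card_image_of_injective _ fun u v huv => sub_right_injective huv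
    omega
  rw [Finset.mem_inter, hA, hB, Finset.mem_image, Finset.mem_image] at hx
  obtain ⟨⟨l, hl, hlx⟩, y, hy, hyx⟩ := hx
  obtain ⟨m, hm, rfl⟩ := Finset.mem_image.mp hy
  rw [Finset.mem_filter] at hl hm
  refine ⟨a₀ * l, b₀ * m, ?_, ?_, ?_⟩
  · rw [map_mul]; linear_combination (a₀ * σ a₀) * hl.2 + ha₀
  · rw [map_mul]; linear_combination (b₀ * σ b₀) * hm.2 + hb₀
  · linear_combination hlx - hyx

variable {ι : Type} [Fintype ι] [DecidableEq ι] {f : (ι → F) → (ι → F) → F}

/-- Scaling the centre of a transvection. -/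
lemma uT_smul (hf : Cfsg.Geo.IsUnitaryForm σ f) {v : ι → F} (hv : f v v = 0) (a c : F) :
    uT f (a • v) c = uT f v (a * σ a * c) := by
  have hi : f (a • v) (a • v) = 0 := by rw [hf.smul_left, smul_right' hf, hv]; ring
  refine gl_ext fun x => ?_
  rw [uT_mulVec hf hi, uT_mulVec hf hv, smul_right' hf, smul_smul]
  congr 2
  ring

lemma uT_mul (hf : Cfsg.Geo.IsUnitaryForm σ f) {v : ι → F} (hv : f v v = 0) (a b : F) :
    uT f v a * uT f v b = uT f v (a + b) := by
  refine gl_ext fun x => ?_
  rw [mul_mulVec, uT_mulVec hf hv, uT_mulVec hf hv, uT_mulVec hf hv, hf.add_left, hf.smul_left, hv, mul_zero,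
    add_zero, add_assoc, ← add_smul]
  congr 2
  ring

lemma uT_zero (hf : Cfsg.Geo.IsUnitaryForm σ f) {v : ι → F} (hv : f v v = 0) : uT f v 0 = 1 :=
  gl_ext fun x => by rw [uT_mulVec hf hv]; simp

/-- An isometry of determinant one moving every vector inside one line is a transvection. -/
lemma exists_uT_of_line (hf : Cfsg.Geo.IsUnitaryForm σ f) {T : GL ι F} (hT : Iso f T)
    (hdet : (T : Matrix ι ι F).det = 1) {u : ι → F} (hu : u ≠ 0)
    (h : ∀ x, ∃ c : F, (T : Matrix ι ι F) *ᵥ x = x + c • u) (h1 : T ≠ 1) :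
    ∃ c, c ≠ 0 ∧ c + σ c = 0 ∧ f u u = 0 ∧ T = uT f u c := by
  choose φ hφ using h
  obtain ⟨z, hz⟩ := (hf.nondegenerate u hu).1
  have hkey : ∀ x y, σ (φ y) * f x u + φ x * f u y + φ x * σ (φ y) * f u u = 0 := by
    intro x y
    have := hT x y
    rw [hφ, hφ, hf.add_left, Unitary.add_right' hf, Unitary.add_right' hf, hf.smul_left, hf.smul_left,
      Unitary.smul_right' hf, Unitary.smul_right' hf] at this
    linear_combination this
  obtain ⟨c, hc⟩ : ∃ c, ∀ x, φ x = c * f x u := by
    by_cases hz0 : f u z + σ (φ z) * f u u = 0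
    · refine ⟨0, fun x => ?_⟩
      have hσz : σ (φ z) = 0 := by
        by_contra hne
        have h2 := hkey z z
        have h3 : σ (φ z) * f z u = 0 := by linear_combination h2 - (φ z) * hz0
        exact mul_ne_zero hne hz h3
      rw [hσz, zero_mul, add_zero] at hz0
      exact absurd ((eq_zero_comm hf).mp hz0) hz
    · refine ⟨-σ (φ z) / (f u z + σ (φ z) * f u u), fun x => ?_⟩
      rw [div_mul_eq_mul_div, eq_div_iff hz0]
      linear_combination hkey x z
  have hc0 : c ≠ 0 := by
    rintro rfl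
    exact h1 (gl_ext fun x => by rw [hφ, hc, zero_mul, zero_smul, add_zero, Units.val_one, one_mulVec])
  have hform : ∀ x, (T : Matrix ι ι F) *ᵥ x = x + ((c • uvec f u) ⬝ᵥ x) • u := fun x => by
    rw [hφ, hc, smul_dotProduct, uvec_dot hf, smul_eq_mul]
  have hmat : (T : Matrix ι ι F) = 1 + vecMulVec u (c • uvec f u) :=
    Matrix.ext_of_mulVec_single fun i => by
      rw [hform, add_mulVec, one_mulVec, vecMulVec_mulVec, op_smul_eq_smul]
  have huu : f u u = 0 := by
    rw [hmat, vecMulVec_eq Unit, det_one_add_replicateCol_mul_replicateRow, smul_dotProduct, uvec_dot hf,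
      smul_eq_mul] at hdet
    exact (mul_eq_zero.mp (by linear_combination hdet : c * f u u = 0)).resolve_left hc0
  refine ⟨c, hc0, ?_, huu, gl_ext fun x => by rw [uT_mulVec hf huu, hφ, hc]⟩
  have h2 := hkey z z
  rw [hc, map_mul, ← hf.herm, huu] at h2
  have hz' : f u z ≠ 0 := fun h0 => hz ((eq_zero_comm hf).mp h0)
  exact (mul_eq_zero.mp (by linear_combination h2 : (c + σ c) * (f z u * f u z) = 0)).resolve_right (mul_ne_zero hz hz')

end CfsgLib.Classical22.UDecomp
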