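/-
One transvection, together with a torus of pseudo-reflections acting on two unit vectors, gives a full centre.
-/
import Cfsg.Agent.Lib.Classical22.UDecomp.Scalars

set_option autoImplicit false

namespace CfsgLib.Classical22.UDecomp

open Matrix CfsgLib.Transvec CfsgLib.Transvec.Unitary
open scoped MatrixGroups

variable {ι : Type} [Fintype ι] [DecidableEq ι] {F : Type*} [Field F] [Fintype F] {σ : F ≃+* F} {q : ℕ}
  {f : (ι → F) → (ι → F) → F} {M : Subgroup (GL ι F)}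

lemma torus_mulVec (hf : Cfsg.Geo.IsUnitaryForm σ f) {b b' : ι → F} (hb : f b b = 1) (hb' : f b' b' = 1)
    (hbb : f b b' = 0) {l m : F} (hl : l * σ l = 1) (hm : m * σ m = 1) (y : ι → F) :
    ((qR f b l * qR f b' m : GL ι F) : Matrix ι ι F) *ᵥ y =
      y + ((l - 1) * f y b) • b + ((m - 1) * f y b') • b' := by
  rw [mul_mulVec, qR_mulVec hf hb' hm, qR_mulVec hf hb hl, hf.add_left, hf.smul_left,
    (eq_zero_comm hf).mp hbb, mul_zero, add_zero, add_right_comm]

/-- The conjugation step. -/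
lemma uT_step (hf : Cfsg.Geo.IsUnitaryForm σ f) {u b b' : ι → F} (hu : f u u = 0) (hb : f b b = 1)
    (hb' : f b' b' = 1) (hbb : f b b' = 0) (hub' : f u b' = 0)
    (hd : ∀ l, l * σ l = 1 → qR f b l * qR f b' l⁻¹ ∈ M) {a c l : F} (ha : a + σ a = 0) (hc : c + σ c = 0)
    (hl : l * σ l = 1) (hax : uT f u a ∈ M) (hcx : uT f u c ∈ M) :
    uT f u (c * (1 + a * (f u b * σ (f u b)) * (σ l - l) -
      a ^ 2 * (f u b * σ (f u b)) ^ 2 * (2 - (l + σ l)))) ∈ M := by
  obtain ⟨t, ht⟩ : ∃ t, t = f u b * σ (f u b) := ⟨_, rfl⟩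
  rw [← ht]
  have hσt : σ t = t := by rw [ht, map_mul, hf.involutive, mul_comm]
  have hσa : σ a = -a := by linear_combination ha
  obtain ⟨α, hα⟩ : ∃ α, α = a * ((σ l - 1) * t) := ⟨_, rfl⟩
  have hμ : (1 + α) * σ (1 + α) = 1 + a * t * (σ l - l) - a ^ 2 * t ^ 2 * (2 - (l + σ l)) := by
    rw [hα, map_add, map_one, map_mul, map_mul, map_sub, map_one, hf.involutive, hσa, hσt]
    linear_combination (-(a ^ 2 * t ^ 2)) * hl
  have heqN : (1 + α * l) * σ (1 + α * l) = (1 + α) * σ (1 + α) := by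
    rw [hα, map_add, map_one, map_mul, map_add, map_one, map_mul, map_mul, map_sub, map_one, hf.involutive, hσa,
      hσt]
    linear_combination (-(a ^ 2 * t ^ 2 * ((σ l - 1) * (l - 1)))) * hl
  by_cases hl1 : l = 1
  · subst hl1
    have : α = 0 := by rw [hα, map_one, sub_self, zero_mul, mul_zero]
    rw [map_one, sub_self, mul_zero, add_zero, show (2 : F) - (1 + 1) = 0 by ring, mul_zero, sub_zero, mul_one]
    exact hcx
  have hρ : 1 + α ≠ 0 := by
    intro h0
    rw [h0, zero_mul, mul_eq_zero, map_eq_zero_iff _ σ.injective, or_self] at heqN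
    have h2 : α * (l - 1) = 0 := by linear_combination heqN - h0
    rcases mul_eq_zero.mp h2 with h3 | h3
    · rw [h3, add_zero] at h0; exact one_ne_zero h0
    · exact hl1 (sub_eq_zero.mp h3)
  obtain ⟨l', hl'def⟩ : ∃ l', l' = (1 + α * l) / (1 + α) := ⟨_, rfl⟩
  have hl' : l' * σ l' = 1 := by
    rw [hl'def, map_div₀, div_mul_div_comm, heqN, div_self (mul_ne_zero hρ ((map_ne_zero_iff _ σ.injective).mpr hρ))]
  obtain ⟨d, hd'⟩ : ∃ d, d = qR f b l * qR f b' l⁻¹ := ⟨_, rfl⟩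
  obtain ⟨e, he⟩ : ∃ e, e = qR f b l' * qR f b' l'⁻¹ := ⟨_, rfl⟩
  have hdu : (d : Matrix ι ι F) *ᵥ u = u + ((l - 1) * f u b) • b := by
    rw [hd', torus_mulVec hf hb hb' hbb hl (norm_inv hl), hub', mul_zero, zero_smul, add_zero]
  have heu : (e : Matrix ι ι F) *ᵥ u = u + ((l' - 1) * f u b) • b := by
    rw [he, torus_mulVec hf hb hb' hbb hl' (norm_inv hl'), hub', mul_zero, zero_smul, add_zero]
  have hdi : Iso f d := hd' ▸ (iso_qR hf hb hl).mul (iso_qR hf hb' (norm_inv hl))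
  have hei : Iso f e := he ▸ (iso_qR hf hb hl').mul (iso_qR hf hb' (norm_inv hl'))
  have hdM : d ∈ M := hd' ▸ hd l hl
  have heM : e ∈ M := he ▸ hd l' hl'
  have hduu : f ((d : Matrix ι ι F) *ᵥ u) ((d : Matrix ι ι F) *ᵥ u) = 0 := by rw [hdi, hu]
  have h1 : uT f ((d : Matrix ι ι F) *ᵥ u) a ∈ M := by
    rw [← conj_uT hf hdi hu]
    exact M.mul_mem (M.mul_mem hdM hax) (M.inv_mem hdM)
  have h2 := M.mul_mem (M.mul_mem h1 hcx) (M.inv_mem h1)
  rw [conj_uT hf (iso_uT hf hduu ha) hu, uT_mulVec hf hduu] at h2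
  have hfud : f u ((d : Matrix ι ι F) *ᵥ u) = (σ l - 1) * t := by
    rw [hdu, Unitary.add_right' hf, Unitary.smul_right' hf, hu, map_mul, map_sub, map_one, ht]; ring
  rw [hfud, ← hα] at h2
  have hcentre : u + α • ((d : Matrix ι ι F) *ᵥ u) = (1 + α) • ((e : Matrix ι ι F) *ᵥ u) := by
    have hlρ : (1 + α) * (l' - 1) = α * (l - 1) := by
      rw [mul_sub, hl'def, mul_div_cancel₀ _ hρ]; ring
    rw [hdu, heu, smul_add, smul_add, smul_smul, smul_smul, ← mul_assoc (1 + α), hlρ, add_smul, one_smul,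
      ← mul_assoc, add_assoc]
  rw [hcentre, uT_smul hf (by rw [hei, hu]), hμ] at h2
  have h3 := M.mul_mem (M.mul_mem (M.inv_mem heM) h2) heM
  have h4 := conj_uT hf hei hu ((1 + a * t * (σ l - l) - a ^ 2 * t ^ 2 * (2 - (l + σ l))) * c)
  rw [← h4, mul_assoc e⁻¹, mul_assoc (e * _), inv_mul_cancel, mul_one, inv_mul_cancel_left] at h3
  rwa [mul_comm c]

/-- A single transvection and the torus make the centre full. -/
theorem full_of_single (h : QField σ q) (hf : Cfsg.Geo.IsUnitaryForm σ f) {u b b' : ι → F} (hu : f u u = 0)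
    (hb : f b b = 1) (hb' : f b' b' = 1) (hbb : f b b' = 0) (hub : f u b ≠ 0) (hub' : f u b' = 0)
    (hd : ∀ l, l * σ l = 1 → qR f b l * qR f b' l⁻¹ ∈ M) {a : F} (ha : a + σ a = 0) (ha0 : a ≠ 0)
    (hax : uT f u a ∈ M) (hne : (2 : F) ≠ 0 ∨ 1 + a * (f u b * σ (f u b)) ≠ 0) : UFull σ f M u := by
  classical
  obtain ⟨t, ht⟩ : ∃ t, t = f u b * σ (f u b) := ⟨_, rfl⟩
  rw [← ht] at hne
  have ht0 : t ≠ 0 := ht ▸ mul_ne_zero hub ((map_ne_zero_iff _ σ.injective).mpr hub)
  have hσt : σ t = t := by rw [ht, map_mul, hf.involutive, mul_comm]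
  have hσa : σ a = -a := by linear_combination ha
  let R : AddSubgroup F :=
    { carrier := {r | σ r = r ∧ ∀ c, c + σ c = 0 → uT f u c ∈ M → uT f u (c * r) ∈ M}
      zero_mem' := ⟨map_zero σ, fun c _ _ => by rw [mul_zero, uT_zero hf hu]; exact M.one_mem⟩
      add_mem' := fun {r s} hr hs => ⟨by rw [map_add, hr.1, hs.1], fun c hc hm => by
        rw [mul_add, ← uT_mul hf hu]; exact M.mul_mem (hr.2 c hc hm) (hs.2 c hc hm)⟩
      neg_mem' := fun {r} hr => ⟨by rw [map_neg, hr.1], fun c hc hm => by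
        have h1 := M.inv_mem (hr.2 c hc hm)
        have h2 : uT f u (c * r) * uT f u (c * -r) = 1 := by
          rw [uT_mul hf hu, mul_neg, add_neg_cancel, uT_zero hf hu]
        rwa [inv_eq_of_mul_eq_one_right h2] at h1⟩ }
  have hone : (1 : F) ∈ R := ⟨map_one σ, fun c _ hm => by rwa [mul_one]⟩
  have hmu : ∀ l, l * σ l = 1 →
      1 + a * t * (σ l - l) - a ^ 2 * t ^ 2 * (2 - (l + σ l)) ∈ R := fun l hl => by
    refine ⟨?_, fun c hc hm => ?_⟩
    · simp only [map_add, map_sub, map_mul, map_pow, map_one, map_ofNat, hf.involutive, hσa, hσt]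
      ring
    · rw [ht]
      exact uT_step hf hu hb hb' hbb hub' hd ha hc hl hax hm
  obtain ⟨g, hgR, hg2⟩ : ∃ g : F → F, (∀ l, l * σ l = 1 → g l ∈ R) ∧
      ∀ l, l * σ l = 1 → ∃ x y, ∀ l', l' * σ l' = 1 → g l' = g l → l' = x ∨ l' = y := by
    by_cases h2 : (2 : F) = 0
    · have hk : 1 + a * t ≠ 0 := hne.resolve_left (fun hh => hh h2)
      refine ⟨fun l => a * t * (1 + a * t) * (l + σ l), fun l hl => ?_, fun l hl => ⟨l, σ l, fun l' hl' he => ?_⟩⟩
      · have h1 := R.sub_mem (hmu l hl) hone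
        convert h1 using 1
        linear_combination (a * t * l + a ^ 2 * t ^ 2) * h2
      · have he' : l' + σ l' = l + σ l := mul_left_cancel₀ (mul_ne_zero (mul_ne_zero ha0 ht0) hk) he
        have hz : (l' - l) * (l' - σ l) = 0 := by linear_combination hl - hl' + l' * he'
        exact (mul_eq_zero.mp hz).imp sub_eq_zero.mp sub_eq_zero.mp
    · refine ⟨fun l => 2 * (a * t * (σ l - l)), fun l hl => ?_, fun l hl => ⟨l, -σ l, fun l' hl' he => ?_⟩⟩
      · have h1 := R.sub_mem (hmu l hl) (hmu (σ l) (by rw [h.inv, mul_comm]; exact hl))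
        rw [h.inv] at h1
        convert h1 using 1
        ring
      · have he' : σ l' - l' = σ l - l := mul_left_cancel₀ (mul_ne_zero ha0 ht0) (mul_left_cancel₀ h2 he)
        have hz : (l' - l) * (l' - -σ l) = 0 := by linear_combination hl' - hl - l' * he'
        exact (mul_eq_zero.mp hz).imp sub_eq_zero.mp sub_eq_zero.mp
  refine ⟨hu, fun c hc => ?_⟩
  have hr : σ (c / a) = c / a := by
    rw [map_div₀, hσa, show σ c = -c by linear_combination hc, neg_div_neg_eq]
  have hmem := h.addSubgroup_fixed_eq R (fun r hr => hr.1) (fun s hs => by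
      obtain ⟨l, hl, rfl⟩ := Finset.mem_image.mp hs
      exact hgR l (Finset.mem_filter.mp hl).2) (h.lt_two_mul_image g hg2) hr
  have := hmem.2 a ha hax
  rwa [mul_div_cancel₀ _ ha0] at this

end CfsgLib.Classical22.UDecomp
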