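/-
Coordinates for the standard hermitian form: monomial unitary maps.
-/
import Cfsg.Agent.Lib.Classical22.UDecomp.FullOne
import Cfsg.Agent.Lib.Classical22.Monomial

set_option autoImplicit false

namespace CfsgLib.Classical22.UDecomp

open Matrix CfsgLib.Transvec CfsgLib.Transvec.Unitary CfsgLib.Classical22.Monomial
open scoped MatrixGroups

variable {F : Type*} [Field F] [Fintype F] {σ : F ≃+* F} {q n : ℕ}

lemma QField.unitary (h : QField σ q) : Cfsg.Geo.IsUnitaryForm σ (Cfsg.hermForm n F q) :=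
  isUnitaryForm_hermForm h.pow h.inv h.ne

lemma QField.form_eq (h : QField σ q) (u v : Fin n → F) : Cfsg.hermForm n F q u v = ∑ i, u i * σ (v i) :=
  hermForm_eq h.pow u v

lemma QField.form_single_right (h : QField σ q) (v : Fin n → F) (i : Fin n) :
    Cfsg.hermForm n F q v (Pi.single i 1) = v i := by
  rw [h.form_eq, Finset.sum_eq_single i (fun k _ hk => by simp [hk]) (fun hh => absurd (Finset.mem_univ i) hh)]
  simp

lemma QField.form_basis (h : QField σ q) (i j : Fin n) :
    Cfsg.hermForm n F q (Pi.single i 1) (Pi.single j 1) = if i = j then 1 else 0 := hermForm_basis h.pow i j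

lemma QField.form_unit (h : QField σ q) (i : Fin n) :
    Cfsg.hermForm n F q (Pi.single i 1) (Pi.single i 1) = 1 := by rw [h.form_basis, if_pos rfl]

lemma QField.form_ne (h : QField σ q) {i j : Fin n} (hij : i ≠ j) :
    Cfsg.hermForm n F q (Pi.single i 1) (Pi.single j 1) = 0 := by rw [h.form_basis, if_neg hij]

/-- The torus on two coordinates. -/
lemma QField.torus_apply (h : QField σ q) {i j : Fin n} (hij : i ≠ j) {l m : F} (hl : l * σ l = 1)
    (hm : m * σ m = 1) (y : Fin n → F) (k : Fin n) :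
    (((qR (Cfsg.hermForm n F q) (Pi.single i 1) l * qR (Cfsg.hermForm n F q) (Pi.single j 1) m : GL (Fin n) F) :
      Matrix (Fin n) (Fin n) F) *ᵥ y) k = if k = i then l * y k else if k = j then m * y k else y k := by
  rw [torus_mulVec h.unitary (h.form_unit i) (h.form_unit j) (h.form_ne hij) hl hm,
    h.form_single_right, h.form_single_right]
  by_cases hki : k = i
  · subst hki; simp [hij]; ring
  · by_cases hkj : k = j
    · subst hkj; simp [hki]; ring
    · simp [hki, hkj]

/-- The torus lies in the monomial part. -/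
lemma QField.torus_mem_mono (h : QField σ q) {i j : Fin n} (hij : i ≠ j) {l : F} (hl : l * σ l = 1) :
    Iso (Cfsg.hermForm n F q) (qR (Cfsg.hermForm n F q) (Pi.single i 1) l * qR (Cfsg.hermForm n F q) (Pi.single j 1) l⁻¹)
    ∧ ((qR (Cfsg.hermForm n F q) (Pi.single i 1) l * qR (Cfsg.hermForm n F q) (Pi.single j 1) l⁻¹ : GL (Fin n) F) :
      Matrix (Fin n) (Fin n) F).det = 1
    ∧ IsMono (qR (Cfsg.hermForm n F q) (Pi.single i 1) l * qR (Cfsg.hermForm n F q) (Pi.single j 1) l⁻¹) := by
  refine ⟨(iso_qR h.unitary (h.form_unit i) hl).mul (iso_qR h.unitary (h.form_unit j) (norm_inv hl)), ?_, fun c =>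
    ⟨c, fun r hr => ?_⟩⟩
  · rw [Units.val_mul, det_mul, det_qR h.unitary (h.form_unit i) hl, det_qR h.unitary (h.form_unit j) (norm_inv hl),
      mul_inv_cancel₀ (ne_zero_of_norm_one hl)]
  · have e := h.torus_apply hij hl (norm_inv hl) (Pi.single c 1) r
    rw [Matrix.mulVec_single_one] at e
    rw [show (((qR (Cfsg.hermForm n F q) (Pi.single i 1) l * qR (Cfsg.hermForm n F q) (Pi.single j 1) l⁻¹ :
      GL (Fin n) F) : Matrix (Fin n) (Fin n) F)) r c = _ from e]
    simp [hr]

lemma QField.iso_mono (h : QField σ q) (π : Equiv.Perm (Fin n)) (d : Fin n → Fˣ)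
    (hd : ∀ i, (d i : F) * σ (d i) = 1) : Iso (Cfsg.hermForm n F q) (mono π d) := fun x y => by
  rw [h.form_eq, h.form_eq, ← Equiv.sum_comp π]
  refine Finset.sum_congr rfl fun i _ => ?_
  rw [mono_mulVec, mono_mulVec, map_mul]
  linear_combination (x i * σ (y i)) * hd i

lemma sign_cast_norm (π : Equiv.Perm (Fin n)) :
    ((Equiv.Perm.sign π : ℤ) : F) * σ ((Equiv.Perm.sign π : ℤ) : F) = 1 := by
  rcases Int.units_eq_one_or (Equiv.Perm.sign π) with hs | hs <;> rw [hs] <;> simp

/-- Prescribed norm-one phases on some coordinates extend to a monomial map of determinant one. -/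
lemma QField.exists_mono (h : QField σ q) (π : Equiv.Perm (Fin n)) (e : Fin n → F) (he : ∀ i, e i * σ (e i) = 1)
    (k : Fin n) : ∃ g : GL (Fin n) F, Iso (Cfsg.hermForm n F q) g ∧ (g : Matrix (Fin n) (Fin n) F).det = 1 ∧
      IsMono g ∧ ∃ c : F, c * σ c = 1 ∧ ∀ y : Fin n → F, ∀ i,
        ((g : Matrix (Fin n) (Fin n) F) *ᵥ y) (π i) = (if i = k then c else e i) * y i := by
  classical
  obtain ⟨s, hs⟩ : ∃ s : F, s = ((Equiv.Perm.sign π : ℤ) : F) * ∏ i, e i := ⟨_, rfl⟩
  have hsn : s * σ s = 1 := by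
    rw [hs, map_mul, map_prod]
    have : (∏ i, e i) * ∏ i, σ (e i) = 1 := by rw [← Finset.prod_mul_distrib]; exact Finset.prod_eq_one fun i _ => he i
    linear_combination (((Equiv.Perm.sign π : ℤ) : F) * σ ((Equiv.Perm.sign π : ℤ) : F)) * this +
      sign_cast_norm (σ := σ) π
  obtain ⟨e', he'⟩ : ∃ e' : Fin n → F, e' = Function.update e k (e k * s⁻¹) := ⟨_, rfl⟩
  have hn' : ∀ i, e' i * σ (e' i) = 1 := fun i => by
    rw [he']
    by_cases hi : i = k
    · subst hi; rw [Function.update_self]; exact norm_mul (he i) (norm_inv hsn)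
    · rw [Function.update_of_ne hi]; exact he i
  refine ⟨mono π fun i => Units.mk0 (e' i) (ne_zero_of_norm_one (hn' i)),
    h.iso_mono π _ (fun i => by simpa using hn' i), ?_, isMono_mono _ _, e k * s⁻¹,
    norm_mul (he k) (norm_inv hsn), fun y i => ?_⟩
  · rw [det_mono]
    simp only [Units.val_mk0]
    have : ∏ i, e' i = (∏ i, e i) * s⁻¹ := by
      rw [he', ← Finset.mul_prod_erase _ _ (Finset.mem_univ k), ← Finset.mul_prod_erase _ e (Finset.mem_univ k),
        Function.update_self, Finset.prod_congr rfl fun j hj => Function.update_of_ne (Finset.ne_of_mem_erase hj) _ _]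
      ring
    rw [this, ← mul_assoc, ← hs, mul_inv_cancel₀ (ne_zero_of_norm_one hsn)]
  · rw [mono_mulVec, Units.val_mk0, he']
    by_cases hi : i = k
    · subst hi; rw [Function.update_self, if_pos rfl]
    · rw [Function.update_of_ne hi, if_neg hi]

/-- A permutation sending a pair to a pair. -/
lemma exists_perm_pair {α : Type*} [DecidableEq α] {a b c d : α} (hab : a ≠ b) (hcd : c ≠ d) :
    ∃ π : Equiv.Perm α, π a = c ∧ π b = d := by
  refine ⟨(Equiv.swap a c).trans (Equiv.swap (Equiv.swap a c b) d), ?_, ?_⟩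
  · have h1 : Equiv.swap a c b ≠ c := fun h =>
      hab ((Equiv.swap a c).injective (by rw [h, Equiv.swap_apply_left]))
    rw [Equiv.trans_apply, Equiv.swap_apply_left, Equiv.swap_apply_of_ne_of_ne h1.symm hcd]
  · rw [Equiv.trans_apply, Equiv.swap_apply_left]

/-- The coordinates in which a vector does not vanish. -/
noncomputable def csupp (x : Fin n → F) : Finset (Fin n) :=
  haveI := Classical.decEq F
  Finset.univ.filter fun i => x i ≠ 0

omit [Fintype F] in
lemma mem_csupp {x : Fin n → F} {i : Fin n} : i ∈ csupp x ↔ x i ≠ 0 := by simp [csupp]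

lemma QField.form_self (h : QField σ q) (x : Fin n → F) :
    Cfsg.hermForm n F q x x = ∑ i, x i * σ (x i) := h.form_eq x x

/-- The form on a vector supported in two coordinates. -/
lemma QField.form_pair (h : QField σ q) {i j : Fin n} (hij : i ≠ j) {x : Fin n → F}
    (hx : ∀ k, k ≠ i → k ≠ j → x k = 0) (y : Fin n → F) :
    Cfsg.hermForm n F q x y = x i * σ (y i) + x j * σ (y j) := by
  rw [h.form_eq, ← Finset.add_sum_erase _ _ (Finset.mem_univ i),
    ← Finset.add_sum_erase _ _ (Finset.mem_erase.mpr ⟨hij.symm, Finset.mem_univ j⟩), Finset.sum_eq_zero fun k hk => ?_,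
    add_zero]
  obtain ⟨hkj, hki, -⟩ : k ≠ j ∧ k ≠ i ∧ k ∈ Finset.univ := by simpa [Finset.mem_erase] using hk
  rw [hx k hki hkj, zero_mul]

lemma QField.natCast_q' (h : QField σ q) : (q : F) = 0 := by
  have h1 : ((q : F)) ^ 2 = 0 := by
    rw [← Nat.cast_pow, ← h.card, Nat.card_eq_fintype_card, FiniteField.cast_card_eq_zero]
  exact eq_zero_of_pow_eq_zero h1

end CfsgLib.Classical22.UDecomp
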