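/-
Vectors inside one block of coordinates of a unitary space.
-/
import Cfsg.Agent.Lib.Classical22.UDecomp.Coord
import Cfsg.Agent.Lib.Classical22.DecompBlocks

set_option autoImplicit false

namespace CfsgLib.Classical22.UDecomp

open Matrix CfsgLib.Transvec CfsgLib.Transvec.Unitary CfsgLib.Classical22.DecompBlocks
open scoped MatrixGroups

variable {F : Type*} [Field F] [Fintype F] {σ : F ≃+* F} {q n t : ℕ} {blk : Fin n → Fin t}

local notation "𝕗" => Cfsg.hermForm n F q
local notation:max "𝕖" i:max => (Pi.single i 1 : Fin n → F)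

/-- The coordinates of one block, as a subspace. -/
def blockSpace (blk : Fin n → Fin t) (b : Fin t) : Submodule F (Fin n → F) where
  carrier := {x | InBlk blk b x}
  zero_mem' := fun _ _ => rfl
  add_mem' := fun hx hy l hl => by simp [hx l hl, hy l hl]
  smul_mem' := fun c _ hx => InBlk.smul hx c

omit [Fintype F] in
lemma mem_blockSpace {b : Fin t} {x : Fin n → F} : x ∈ blockSpace blk b ↔ InBlk blk b x := Iff.rfl

omit [Fintype F] in
lemma single_mem {b : Fin t} {s : Fin n} (hs : blk s = b) (c : F) :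
    (Pi.single s c : Fin n → F) ∈ blockSpace blk b := inBlk_single hs c

omit [Fintype F] in
lemma comp_mem (b : Fin t) (x : Fin n → F) : DecompBlocks.comp blk b x ∈ blockSpace blk b := inBlk_comp b x

omit [Fintype F] in
lemma comp_eq_self {b : Fin t} {x : Fin n → F} (hx : x ∈ blockSpace blk b) : DecompBlocks.comp blk b x = x := by
  funext l
  by_cases hl : blk l = b
  · simp [DecompBlocks.comp, hl]
  · simp [DecompBlocks.comp, hl, hx l hl]

omit [Fintype F] in
lemma comp_eq_zero {b c : Fin t} (hbc : c ≠ b) {x : Fin n → F} (hx : x ∈ blockSpace blk b) : DecompBlocks.comp blk c x = 0 := by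
  funext l
  by_cases hl : blk l = c
  · rw [DecompBlocks.comp, if_pos hl, hx l (hl ▸ hbc), Pi.zero_apply]
  · simp [DecompBlocks.comp, hl]

omit [Fintype F] in
lemma sum_comp (x : Fin n → F) : ∑ b, DecompBlocks.comp blk b x = x := by
  funext l; simp [Finset.sum_apply, DecompBlocks.comp]

omit [Fintype F] in
lemma comp_add (b : Fin t) (x y : Fin n → F) : DecompBlocks.comp blk b (x + y) = DecompBlocks.comp blk b x + DecompBlocks.comp blk b y := by
  funext l; by_cases hl : blk l = b <;> simp [DecompBlocks.comp, hl]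

omit [Fintype F] in
lemma comp_sub (b : Fin t) (x y : Fin n → F) : DecompBlocks.comp blk b (x - y) = DecompBlocks.comp blk b x - DecompBlocks.comp blk b y := by
  funext l; by_cases hl : blk l = b <;> simp [DecompBlocks.comp, hl]

omit [Fintype F] in
lemma comp_smul (b : Fin t) (c : F) (x : Fin n → F) : DecompBlocks.comp blk b (c • x) = c • DecompBlocks.comp blk b x := by
  funext l; by_cases hl : blk l = b <;> simp [DecompBlocks.comp, hl]

lemma QField.form_cross (h : QField σ q) {b c : Fin t} (hbc : b ≠ c) {x y : Fin n → F}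
    (hx : x ∈ blockSpace blk b) (hy : y ∈ blockSpace blk c) : 𝕗 x y = 0 := by
  rw [h.form_eq]
  refine Finset.sum_eq_zero fun l _ => ?_
  by_cases hl : blk l = b
  · rw [hy l (hl ▸ hbc), map_zero, mul_zero]
  · rw [hx l hl, zero_mul]

lemma QField.form_comp_right (h : QField σ q) {b : Fin t} {x : Fin n → F} (hx : x ∈ blockSpace blk b)
    (y : Fin n → F) : 𝕗 x (DecompBlocks.comp blk b y) = 𝕗 x y := by
  rw [h.form_eq, h.form_eq]
  refine Finset.sum_congr rfl fun l _ => ?_
  by_cases hl : blk l = b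
  · simp [DecompBlocks.comp, hl]
  · rw [hx l hl, zero_mul, zero_mul]

lemma QField.form_comp_left (h : QField σ q) {b : Fin t} {y : Fin n → F} (hy : y ∈ blockSpace blk b)
    (x : Fin n → F) : 𝕗 (DecompBlocks.comp blk b x) y = 𝕗 x y := by
  rw [h.unitary.herm, h.form_comp_right hy, ← h.unitary.herm]

lemma QField.form_sum_comp (h : QField σ q) (x y : Fin n → F) :
    𝕗 x y = ∑ b, 𝕗 (DecompBlocks.comp blk b x) (DecompBlocks.comp blk b y) := by
  rw [h.form_eq, ← Finset.sum_fiberwise Finset.univ blk]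
  refine Finset.sum_congr rfl fun b _ => ?_
  rw [h.form_eq, Finset.sum_filter]
  refine Finset.sum_congr rfl fun l _ => ?_
  by_cases hl : blk l = b <;> simp [DecompBlocks.comp, hl]

lemma QField.exists_coord_ne (h : QField σ q) {b : Fin t} {y : Fin n → F} (hy : y ∈ blockSpace blk b) (hy0 : y ≠ 0) :
    ∃ s, blk s = b ∧ y s ≠ 0 := by
  obtain ⟨s, hs⟩ := Function.ne_iff.mp hy0
  exact ⟨s, by by_contra hne; exact hs (hy s hne), hs⟩

/-- An isotropic vector in a block pairing to one with a given vector. -/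
lemma QField.exists_iso_pair (h : QField σ q) {b : Fin t} (hk : 2 ≤ (Finset.univ.filter fun l => blk l = b).card)
    {a : Fin n → F} (ha : a ∈ blockSpace blk b) (ha0 : a ≠ 0) :
    ∃ z ∈ blockSpace blk b, 𝕗 z z = 0 ∧ 𝕗 a z = 1 := by
  classical
  obtain ⟨s, hs, has⟩ := h.exists_coord_ne ha ha0
  obtain ⟨s', hs', hne⟩ : ∃ s' ∈ Finset.univ.filter (fun l => blk l = b), s' ≠ s :=
    Finset.exists_mem_ne (by omega) s
  rw [Finset.mem_filter] at hs'
  obtain ⟨e, he⟩ := exists_norm_eq h.ne h.inv (b := (-1 : F)) (by rw [map_neg, map_one])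
  have hbad : (Finset.univ.filter fun l : F => l * σ l = 1 ∧ a s + a s' * σ (e * l) = 0).card ≤ 1 := by
    refine Finset.card_le_one.mpr fun l hl l' hl' => ?_
    simp only [Finset.mem_filter, Finset.mem_univ, true_and] at hl hl'
    have h3 : a s' * σ e * (σ l - σ l') = 0 := by
      rw [map_mul] at hl hl'; linear_combination hl.2 - hl'.2
    rcases mul_eq_zero.mp h3 with h4 | h4
    · have : a s = 0 := by rw [map_mul] at hl; linear_combination hl.2 - σ l * h4
      exact absurd this has
    · exact σ.injective (sub_eq_zero.mp h4)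
  obtain ⟨l, hl, hlS⟩ := h.exists_norm_one_notMem (S := Finset.univ.filter fun l : F => l * σ l = 1 ∧
      a s + a s' * σ (e * l) = 0) (hbad.trans (by have := h.two_le; omega))
  simp only [Finset.mem_filter, Finset.mem_univ, true_and, hl] at hlS
  obtain ⟨z, hz⟩ : ∃ z, z = 𝕖 s + Pi.single s' (e * l) := ⟨_, rfl⟩
  have hz0 : ∀ r, r ≠ s → r ≠ s' → z r = 0 := fun r h1 h3 => by simp [hz, h1, h3]
  have hzs : z s = 1 := by simp [hz, hne.symm]
  have hzs' : z s' = e * l := by simp [hz, hne]
  have hzz : 𝕗 z z = 0 := by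
    rw [h.form_pair hne.symm hz0, hzs, hzs', map_one, map_mul]
    linear_combination (e * σ e) * hl + he
  have haz : 𝕗 a z = a s + a s' * σ (e * l) := by
    rw [h.unitary.herm, h.form_pair hne.symm hz0, hzs, hzs', one_mul, map_add, map_mul, h.inv, h.inv]
    ring
  refine ⟨σ (𝕗 a z)⁻¹ • z, Submodule.smul_mem _ _ (hz ▸ add_mem (single_mem hs 1) (single_mem hs'.2 _)), ?_, ?_⟩
  · rw [h.unitary.smul_left, Unitary.smul_right' h.unitary, hzz, mul_zero, mul_zero]
  · rw [Unitary.smul_right' h.unitary, h.inv, inv_mul_cancel₀ (haz ▸ hlS)]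

/-- A vector in a block pairing non-trivially with two given ones. -/
lemma QField.exists_pair_two (h : QField σ q) {b : Fin t} {a c : Fin n → F} (ha : a ∈ blockSpace blk b)
    (hc : c ∈ blockSpace blk b) (ha0 : a ≠ 0) (hc0 : c ≠ 0) :
    ∃ x ∈ blockSpace blk b, 𝕗 x a ≠ 0 ∧ 𝕗 x c ≠ 0 := by
  obtain ⟨s, hs, has⟩ := h.exists_coord_ne ha ha0
  obtain ⟨s', hs', hcs⟩ := h.exists_coord_ne hc hc0
  have hσ : ∀ {y : F}, y ≠ 0 → σ y ≠ 0 := fun hy => (map_ne_zero_iff _ σ.injective).mpr hy
  by_cases h1 : c s = 0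
  swap
  · exact ⟨𝕖 s, single_mem hs 1, by rw [hermForm_single h.pow]; exact hσ has,
      by rw [hermForm_single h.pow]; exact hσ h1⟩
  by_cases h3 : a s' = 0
  swap
  · exact ⟨𝕖 s', single_mem hs' 1, by rw [hermForm_single h.pow]; exact hσ h3,
      by rw [hermForm_single h.pow]; exact hσ hcs⟩
  refine ⟨𝕖 s + 𝕖 s', add_mem (single_mem hs 1) (single_mem hs' 1), ?_, ?_⟩
  · rw [h.unitary.add_left, hermForm_single h.pow, hermForm_single h.pow, h3, map_zero, add_zero]; exact hσ has
  · rw [h.unitary.add_left, hermForm_single h.pow, hermForm_single h.pow, h1, map_zero, zero_add]; exact hσ hcs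

/-- An anisotropic vector in a block orthogonal to an anisotropic one. -/
lemma QField.exists_aniso_perp (h : QField σ q) {b : Fin t} (hk : 2 ≤ (Finset.univ.filter fun l => blk l = b).card)
    {a : Fin n → F} (ha : a ∈ blockSpace blk b) (hta : 𝕗 a a ≠ 0) :
    ∃ y ∈ blockSpace blk b, 𝕗 y a = 0 ∧ 𝕗 y y ≠ 0 := by
  classical
  by_contra hc
  push Not at hc
  obtain ⟨P, hP⟩ : ∃ P : (Fin n → F) → (Fin n → F), ∀ y, P y = y - (𝕗 y a / 𝕗 a a) • a := ⟨_, fun _ => rfl⟩
  have hPa : ∀ y, 𝕗 (P y) a = 0 := fun y => by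
    rw [hP, Unitary.sub_left' h.unitary, h.unitary.smul_left, div_mul_cancel₀ _ hta, sub_self]
  have hPb : ∀ y ∈ blockSpace blk b, P y ∈ blockSpace blk b := fun y hy => by
    rw [hP]; exact sub_mem hy (Submodule.smul_mem _ _ ha)
  have hpol : ∀ u ∈ blockSpace blk b, 𝕗 u a = 0 → ∀ w ∈ blockSpace blk b, 𝕗 w a = 0 → 𝕗 u w = 0 := by
    intro u hu hua w hw hwa
    by_contra hne
    obtain ⟨e, he⟩ := exists_trace_ne_zero (σ := σ) h.ne
    have h0 := hc (u + σ (e / 𝕗 u w) • w) (add_mem hu (Submodule.smul_mem _ _ hw))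
      (by rw [h.unitary.add_left, h.unitary.smul_left, hua, hwa, mul_zero, add_zero])
    rw [h.unitary.add_left, Unitary.add_right' h.unitary, Unitary.add_right' h.unitary, h.unitary.smul_left,
      h.unitary.smul_left, Unitary.smul_right' h.unitary, Unitary.smul_right' h.unitary, hc u hu hua, hc w hw hwa,
      h.inv, h.unitary.herm w u, ← map_mul σ, div_mul_cancel₀ _ hne] at h0
    exact he (by linear_combination h0)
  have hzero : ∀ y ∈ blockSpace blk b, P y = 0 := by
    intro y hy
    funext l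
    by_cases hl : blk l = b
    swap
    · exact hPb y hy l hl
    have h1 := hpol _ (hPb y hy) (hPa y) _ (hPb _ (single_mem hl 1)) (hPa _)
    rw [hP (𝕖 l), Unitary.sub_right' h.unitary, Unitary.smul_right' h.unitary, hPa, mul_zero, sub_zero,
      h.form_single_right] at h1
    exact h1
  obtain ⟨s, hs, has⟩ := h.exists_coord_ne ha (fun e => hta (by rw [e, zero_left' h.unitary]))
  obtain ⟨s', hs', hne⟩ : ∃ s' ∈ Finset.univ.filter (fun l => blk l = b), s' ≠ s :=
    Finset.exists_mem_ne (by omega) s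
  rw [Finset.mem_filter] at hs'
  have h3 := congrFun (hzero _ (single_mem hs'.2 1)) s
  rw [hP, Pi.sub_apply, Pi.single_eq_of_ne hne.symm, Pi.smul_apply, Pi.zero_apply, smul_eq_mul, zero_sub, neg_eq_zero,
    mul_eq_zero, or_iff_left has] at h3
  have h4 := congrFun (hzero _ (single_mem hs'.2 1)) s'
  rw [hP, h3, zero_smul, sub_zero, Pi.single_eq_same] at h4
  exact one_ne_zero h4

/-- A prescribed product with a given vector and a prescribed norm. -/
lemma QField.exists_vec (h : QField σ q) {b : Fin t} (hk : 2 ≤ (Finset.univ.filter fun l => blk l = b).card)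
    {a : Fin n → F} (ha : a ∈ blockSpace blk b) (ha0 : a ≠ 0) {γ β : F} (hβ : σ β = β)
    (hγ : 𝕗 a a = 0 → γ ≠ 0) : ∃ a' ∈ blockSpace blk b, 𝕗 a' a = γ ∧ 𝕗 a' a' = β := by
  by_cases hta : 𝕗 a a = 0
  · obtain ⟨z, hz, hzz, haz⟩ := h.exists_iso_pair hk ha ha0
    have hza : 𝕗 z a = 1 := by rw [h.unitary.herm, haz, map_one]
    obtain ⟨s, hs⟩ := exists_trace_eq h.ne h.inv hβ
    refine ⟨γ • z + σ (s / γ) • a, add_mem (Submodule.smul_mem _ _ hz) (Submodule.smul_mem _ _ ha), ?_, ?_⟩
    · rw [h.unitary.add_left, h.unitary.smul_left, h.unitary.smul_left, hza, hta]; ring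
    · rw [h.unitary.add_left, Unitary.add_right' h.unitary, Unitary.add_right' h.unitary, h.unitary.smul_left,
        h.unitary.smul_left, h.unitary.smul_left, h.unitary.smul_left, Unitary.smul_right' h.unitary,
        Unitary.smul_right' h.unitary, Unitary.smul_right' h.unitary, Unitary.smul_right' h.unitary,
        hzz, hta, hza, haz, h.inv, map_div₀]
      have hσγ : σ γ ≠ 0 := (map_ne_zero_iff _ σ.injective).mpr (hγ hta)
      field_simp [hγ hta]
      linear_combination (σ γ * γ) * hs
  · obtain ⟨y, hy, hya, hyy⟩ := h.exists_aniso_perp hk ha hta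
    have hay : 𝕗 a y = 0 := (eq_zero_comm h.unitary).mp hya
    obtain ⟨e, he⟩ := exists_norm_eq h.ne h.inv (b := (β - γ * σ γ / 𝕗 a a) / 𝕗 y y)
      (by rw [map_div₀, map_sub, map_div₀, map_mul, h.inv, hβ, self_fixed h.unitary, self_fixed h.unitary,
        mul_comm (σ γ)])
    rw [eq_div_iff hyy] at he
    refine ⟨(γ / 𝕗 a a) • a + e • y, add_mem (Submodule.smul_mem _ _ ha) (Submodule.smul_mem _ _ hy), ?_, ?_⟩
    · rw [h.unitary.add_left, h.unitary.smul_left, h.unitary.smul_left, hya, mul_zero, add_zero, div_mul_cancel₀ _ hta]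
    · rw [h.unitary.add_left, Unitary.add_right' h.unitary, Unitary.add_right' h.unitary, h.unitary.smul_left,
        h.unitary.smul_left, h.unitary.smul_left, h.unitary.smul_left, Unitary.smul_right' h.unitary,
        Unitary.smul_right' h.unitary, Unitary.smul_right' h.unitary, Unitary.smul_right' h.unitary, hya, hay,
        map_div₀, self_fixed h.unitary]
      have e2 : γ / 𝕗 a a * (σ γ / 𝕗 a a * 𝕗 a a) = γ * σ γ / 𝕗 a a := by field_simp
      linear_combination e2 + he

/-- A unit vector of the block orthogonal to a given one, in dimension at least three or for anisotropic vectors. -/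
lemma QField.exists_spare (h : QField σ q) {b : Fin t} (hk : 2 ≤ (Finset.univ.filter fun l => blk l = b).card)
    {a : Fin n → F} (ha : a ∈ blockSpace blk b)
    (hor : 3 ≤ (Finset.univ.filter fun l => blk l = b).card ∨ a = 0 ∨ 𝕗 a a ≠ 0) :
    ∃ y ∈ blockSpace blk b, 𝕗 y a = 0 ∧ 𝕗 y y = 1 := by
  classical
  obtain ⟨y, hy, hya, hyy⟩ : ∃ y ∈ blockSpace blk b, 𝕗 y a = 0 ∧ 𝕗 y y ≠ 0 := by
    by_cases ha0 : a = 0
    · obtain ⟨s, hs⟩ := Finset.card_pos.mp (show 0 < (Finset.univ.filter fun l => blk l = b).card by omega)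
      exact ⟨𝕖 s, single_mem (Finset.mem_filter.mp hs).2 1, by rw [ha0, zero_right' h.unitary],
        by rw [h.form_unit]; exact one_ne_zero⟩
    by_cases hta : 𝕗 a a = 0
    swap
    · exact h.exists_aniso_perp hk ha hta
    have h3 := hor.resolve_right (by tauto)
    by_contra hc
    push Not at hc
    obtain ⟨z, hz, hzz, haz⟩ := h.exists_iso_pair hk ha ha0
    have hza : 𝕗 z a = 1 := by rw [h.unitary.herm, haz, map_one]
    obtain ⟨P, hP⟩ : ∃ P : (Fin n → F) → (Fin n → F), ∀ y, P y = y - 𝕗 y a • z - 𝕗 y z • a := ⟨_, fun _ => rfl⟩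
    have hPa : ∀ y, 𝕗 (P y) a = 0 := fun y => by
      rw [hP, Unitary.sub_left' h.unitary, Unitary.sub_left' h.unitary, h.unitary.smul_left, h.unitary.smul_left,
        hza, hta]; ring
    have hPz : ∀ y, 𝕗 (P y) z = 0 := fun y => by
      rw [hP, Unitary.sub_left' h.unitary, Unitary.sub_left' h.unitary, h.unitary.smul_left, h.unitary.smul_left,
        haz, hzz]; ring
    have hPb : ∀ y ∈ blockSpace blk b, P y ∈ blockSpace blk b := fun y hy => by
      rw [hP]; exact sub_mem (sub_mem hy (Submodule.smul_mem _ _ hz)) (Submodule.smul_mem _ _ ha)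
    have hpol : ∀ u ∈ blockSpace blk b, 𝕗 u a = 0 → ∀ w ∈ blockSpace blk b, 𝕗 w a = 0 → 𝕗 u w = 0 := by
      intro u hu hua w hw hwa
      by_contra hne
      obtain ⟨e, he⟩ := exists_trace_ne_zero (σ := σ) h.ne
      have h0 := hc (u + σ (e / 𝕗 u w) • w) (add_mem hu (Submodule.smul_mem _ _ hw))
        (by rw [h.unitary.add_left, h.unitary.smul_left, hua, hwa, mul_zero, add_zero])
      rw [h.unitary.add_left, Unitary.add_right' h.unitary, Unitary.add_right' h.unitary, h.unitary.smul_left,
        h.unitary.smul_left, Unitary.smul_right' h.unitary, Unitary.smul_right' h.unitary, hc u hu hua, hc w hw hwa,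
        h.inv, h.unitary.herm w u, ← map_mul σ, div_mul_cancel₀ _ hne] at h0
      exact he (by linear_combination h0)
    have hzero : ∀ y ∈ blockSpace blk b, P y = 0 := fun y hy => by
      funext l
      by_cases hl : blk l = b
      swap
      · exact hPb y hy l hl
      have h1 := hpol _ (hPb y hy) (hPa y) _ (hPb _ (single_mem hl 1)) (hPa _)
      rw [hP (𝕖 l), Unitary.sub_right' h.unitary, Unitary.sub_right' h.unitary, Unitary.smul_right' h.unitary,
        Unitary.smul_right' h.unitary, hPa, hPz, mul_zero, mul_zero, sub_zero, sub_zero, h.form_single_right] at h1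
      exact h1
    obtain ⟨s, hs, s', hs', s'', hs'', h12, h13, h23⟩ := Finset.two_lt_card.mp h3
    rw [Finset.mem_filter] at hs hs' hs''
    have hspan : ∀ l, blk l = b → (𝕖 l) ∈ Submodule.span F ({z, a} : Set (Fin n → F)) := fun l hl => by
      have := hzero _ (single_mem hl 1)
      rw [hP, sub_sub, sub_eq_zero] at this
      rw [this]; exact Submodule.mem_span_pair.mpr ⟨_, _, rfl⟩
    have hli : LinearIndependent F (fun r : ({s, s', s''} : Finset (Fin n)) => (𝕖 (r : Fin n))) := by
      rw [Fintype.linearIndependent_iff]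
      intro c hc r
      have h1 := congrFun hc (r : Fin n)
      rw [Finset.sum_apply, Finset.sum_eq_single r (fun r' _ hr' => by
        rw [Pi.smul_apply, Pi.single_eq_of_ne (fun e => hr' (Subtype.ext e.symm)), smul_zero])
        (fun hh => absurd (Finset.mem_univ r) hh), Pi.smul_apply, Pi.single_eq_same, smul_eq_mul, mul_one] at h1
      exact h1
    have h5 := finrank_span_eq_card hli
    have h6 : Submodule.span F (Set.range fun r : ({s, s', s''} : Finset (Fin n)) => (𝕖 (r : Fin n))) ≤
        Submodule.span F {z, a} := by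
      rw [Submodule.span_le]
      rintro _ ⟨⟨r, hr⟩, rfl⟩
      refine hspan r ?_
      simp only [Finset.mem_insert, Finset.mem_singleton] at hr
      rcases hr with rfl | rfl | rfl
      · exact hs.2
      · exact hs'.2
      · exact hs''.2
    have h7 := Submodule.finrank_mono h6
    have h8 : Module.finrank F (Submodule.span F ({z, a} : Set (Fin n → F))) ≤ 2 := by
      refine le_trans (finrank_span_le_card _) ?_
      rw [Set.toFinset_insert, Set.toFinset_singleton]
      exact Finset.card_le_two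
    rw [h5, Fintype.card_coe, Finset.card_insert_of_notMem (by simp [h12, h13]),
      Finset.card_insert_of_notMem (by simp [h23]), Finset.card_singleton] at h7
    omega
  obtain ⟨e, he⟩ := exists_norm_eq h.ne h.inv (b := (𝕗 y y)⁻¹) (by rw [map_inv₀, self_fixed h.unitary])
  refine ⟨e • y, Submodule.smul_mem _ _ hy, by rw [h.unitary.smul_left, hya, mul_zero], ?_⟩
  rw [h.unitary.smul_left, Unitary.smul_right' h.unitary, ← mul_assoc, he, inv_mul_cancel₀ hyy]

end CfsgLib.Classical22.UDecomp
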