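/-
Transitivity inside the blocks of an orthogonal decomposition.
-/
import Cfsg.Agent.Lib.Classical22.UDecomp.Block
import Cfsg.Agent.Lib.Classical22.UnitaryThree

set_option autoImplicit false

namespace CfsgLib.Classical22.UDecomp

open Matrix CfsgLib.Transvec CfsgLib.Transvec.Unitary CfsgLib.Classical22.DecompBlocks
open scoped MatrixGroups

variable {F : Type*} [Field F] [Fintype F] {σ : F ≃+* F} {q n t : ℕ} {blk : Fin n → Fin t}

local notation "𝕗" => Cfsg.hermForm n F q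
local notation:max "𝕖" i:max => (Pi.single i 1 : Fin n → F)

/-- An isometry acting inside one block only. -/
structure BlkIso (q : ℕ) (blk : Fin n → Fin t) (j : Fin t) (g : GL (Fin n) F) : Prop where
  iso : Iso (Cfsg.hermForm n F q) g
  fix : ∀ v, (∀ y ∈ blockSpace blk j, Cfsg.hermForm n F q v y = 0) → (g : Matrix (Fin n) (Fin n) F) *ᵥ v = v
  diff : ∀ v, (g : Matrix (Fin n) (Fin n) F) *ᵥ v - v ∈ blockSpace blk j

omit [Fintype F] in
lemma BlkIso.one (j : Fin t) : BlkIso q blk j (1 : GL (Fin n) F) :=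
  ⟨iso_one _, fun v _ => by simp, fun v => by simp⟩

omit [Fintype F] in
lemma BlkIso.mul {j : Fin t} {g h : GL (Fin n) F} (hg : BlkIso q blk j g) (hh : BlkIso q blk j h) :
    BlkIso q blk j (g * h) := by
  refine ⟨hg.iso.mul hh.iso, fun v hv => by rw [mul_mulVec, hh.fix v hv, hg.fix v hv], fun v => ?_⟩
  rw [mul_mulVec]
  have := add_mem (hg.diff ((h : Matrix (Fin n) (Fin n) F) *ᵥ v)) (hh.diff v)
  rwa [sub_add_sub_cancel] at this

lemma QField.blkIso_uT (h : QField σ q) {j : Fin t} {v : Fin n → F} (hv : v ∈ blockSpace blk j) (hvv : 𝕗 v v = 0)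
    {c : F} (hc : c + σ c = 0) : BlkIso q blk j (uT 𝕗 v c) := by
  refine ⟨iso_uT h.unitary hvv hc, fun x hx => ?_, fun x => ?_⟩
  · rw [uT_mulVec h.unitary hvv, hx v hv, mul_zero, zero_smul, add_zero]
  · rw [uT_mulVec h.unitary hvv, add_sub_cancel_left]
    exact Submodule.smul_mem _ _ hv

lemma QField.blkIso_qR (h : QField σ q) {j : Fin t} {y : Fin n → F} (hy : y ∈ blockSpace blk j) (hyy : 𝕗 y y = 1)
    {l : F} (hl : l * σ l = 1) : BlkIso q blk j (qR 𝕗 y l) := by
  refine ⟨iso_qR h.unitary hyy hl, fun x hx => ?_, fun x => ?_⟩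
  · rw [qR_mulVec h.unitary hyy hl, hx y hy, mul_zero, zero_smul, add_zero]
  · rw [qR_mulVec h.unitary hyy hl, add_sub_cancel_left]
    exact Submodule.smul_mem _ _ hy

lemma BlkIso.preserves (h : QField σ q) {j : Fin t} {g : GL (Fin n) F} (hg : BlkIso q blk j g) {l : Fin t}
    {v : Fin n → F} (hv : InBlk blk l v) : InBlk blk l ((g : Matrix (Fin n) (Fin n) F) *ᵥ v) := by
  by_cases hlj : l = j
  · subst hlj
    have := add_mem (hg.diff v) (show v ∈ blockSpace blk l from hv)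
    rwa [sub_add_cancel] at this
  · rw [hg.fix v fun y hy => h.form_cross hlj hv hy]
    exact hv

lemma BlkIso.comp_self (h : QField σ q) {j : Fin t} {g : GL (Fin n) F} (hg : BlkIso q blk j g) (v : Fin n → F) :
    DecompBlocks.comp blk j ((g : Matrix (Fin n) (Fin n) F) *ᵥ v) =
      (g : Matrix (Fin n) (Fin n) F) *ᵥ DecompBlocks.comp blk j v := by
  have h1 : (g : Matrix (Fin n) (Fin n) F) *ᵥ (v - DecompBlocks.comp blk j v) = v - DecompBlocks.comp blk j v := by
    refine hg.fix _ fun y hy => ?_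
    rw [Unitary.sub_left' h.unitary, h.form_comp_left hy, sub_self]
  rw [mulVec_sub, sub_eq_iff_eq_add] at h1
  rw [h1, comp_add, comp_sub, comp_eq_self (comp_mem j v), sub_self, zero_add,
    comp_eq_self (hg.preserves h (inBlk_comp j v) : _ ∈ blockSpace blk j)]

lemma BlkIso.comp_other {j l : Fin t} (hlj : l ≠ j) {g : GL (Fin n) F} (hg : BlkIso q blk j g)
    (v : Fin n → F) : DecompBlocks.comp blk l ((g : Matrix (Fin n) (Fin n) F) *ᵥ v) = DecompBlocks.comp blk l v := by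
  have := comp_eq_zero hlj (hg.diff v)
  rwa [comp_sub, sub_eq_zero] at this

/-- One step of transitivity. -/
lemma QField.exists_step (h : QField σ q) {j : Fin t} {a b : Fin n → F} (ha : a ∈ blockSpace blk j)
    (hb : b ∈ blockSpace blk j) (hab : 𝕗 b b = 𝕗 a a) (hne : 𝕗 a b ≠ 𝕗 a a) :
    ∃ g : GL (Fin n) F, BlkIso q blk j g ∧ (g : Matrix (Fin n) (Fin n) F) *ᵥ a = b := by
  obtain ⟨d, hd⟩ : ∃ d, d = b - a := ⟨_, rfl⟩
  have hdb : d ∈ blockSpace blk j := hd ▸ sub_mem hb ha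
  have hfad : 𝕗 a d ≠ 0 := by rw [hd, Unitary.sub_right' h.unitary, sub_ne_zero]; exact hne
  have hsum : 𝕗 a d + σ (𝕗 a d) + 𝕗 d d = 0 := by
    rw [← h.unitary.herm, hd]
    simp only [Unitary.sub_left' h.unitary, Unitary.sub_right' h.unitary, hab]
    ring
  have hσ : σ (𝕗 a d) ≠ 0 := (map_ne_zero_iff _ σ.injective).mpr hfad
  by_cases hD : 𝕗 d d = 0
  · rw [hD, add_zero] at hsum
    refine ⟨uT 𝕗 d (𝕗 a d)⁻¹, h.blkIso_uT hdb hD ?_, ?_⟩
    · rw [map_inv₀]; field_simp; linear_combination hsum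
    · rw [uT_mulVec h.unitary hD, inv_mul_cancel₀ hfad, one_smul, hd, add_sub_cancel]
  · have hσD : σ (𝕗 d d) = 𝕗 d d := self_fixed h.unitary d
    obtain ⟨κ, hκ⟩ := exists_norm_eq h.ne h.inv (b := (𝕗 d d)⁻¹) (by rw [map_inv₀, hσD])
    obtain ⟨l, hl⟩ : ∃ l, l = 1 + 𝕗 d d / 𝕗 a d := ⟨_, rfl⟩
    have hln : l * σ l = 1 := by
      rw [hl, map_add, map_one, map_div₀, hσD]
      field_simp
      linear_combination (𝕗 d d) * hsum
    have hyy : 𝕗 (κ • d) (κ • d) = 1 := by
      rw [h.unitary.smul_left, Unitary.smul_right' h.unitary, ← mul_assoc, hκ, inv_mul_cancel₀ hD]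
    refine ⟨qR 𝕗 (κ • d) l, h.blkIso_qR (Submodule.smul_mem _ _ hdb) hyy hln, ?_⟩
    have e : (l - 1) * 𝕗 a (κ • d) * κ = 1 := by
      rw [Unitary.smul_right' h.unitary, hl, add_sub_cancel_left,
        show 𝕗 d d / 𝕗 a d * (σ κ * 𝕗 a d) * κ = (κ * σ κ) * (𝕗 d d / 𝕗 a d * 𝕗 a d) by ring, hκ,
        div_mul_cancel₀ _ hfad, inv_mul_cancel₀ hD]
    rw [qR_mulVec h.unitary hyy hln, smul_smul, e, one_smul, hd, add_sub_cancel]

/-- Transitivity on the non-zero vectors of given norm in one block. -/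
lemma QField.exists_move (h : QField σ q) {j : Fin t} {a b : Fin n → F} (ha : a ∈ blockSpace blk j)
    (hb : b ∈ blockSpace blk j) (ha0 : a ≠ 0) (hb0 : b ≠ 0) (hab : 𝕗 b b = 𝕗 a a) :
    ∃ g : GL (Fin n) F, BlkIso q blk j g ∧ (g : Matrix (Fin n) (Fin n) F) *ᵥ a = b := by
  classical
  by_cases hne : 𝕗 a b = 𝕗 a a
  swap
  · exact h.exists_step ha hb hab hne
  obtain ⟨z, hz, hzz, h1, h2⟩ : ∃ z ∈ blockSpace blk j, 𝕗 z z = 𝕗 a a ∧ 𝕗 a z ≠ 𝕗 a a ∧ 𝕗 z b ≠ 𝕗 z z := by
    by_cases hA : 𝕗 a a = 0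
    · obtain ⟨x, hx, hxa, hxb⟩ := h.exists_pair_two ha hb ha0 hb0
      obtain ⟨s, hs⟩ := exists_trace_eq h.ne h.inv (b := -𝕗 x x) (by rw [map_neg, self_fixed h.unitary])
      have hax : 𝕗 a x ≠ 0 := fun e => hxa ((eq_zero_comm h.unitary).mp e)
      have hz0 : 𝕗 (x + (s / 𝕗 a x) • a) (x + (s / 𝕗 a x) • a) = 0 := by
        rw [h.unitary.add_left, Unitary.add_right' h.unitary, Unitary.add_right' h.unitary, h.unitary.smul_left,
          h.unitary.smul_left, Unitary.smul_right' h.unitary, Unitary.smul_right' h.unitary, hA, map_div₀,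
          ← h.unitary.herm x a, mul_zero, mul_zero, add_zero, div_mul_cancel₀ _ hxa, div_mul_cancel₀ _ hax]
        linear_combination hs
      refine ⟨x + (s / 𝕗 a x) • a, add_mem hx (Submodule.smul_mem _ _ ha), hz0.trans hA.symm, ?_, ?_⟩
      · rw [Unitary.add_right' h.unitary, Unitary.smul_right' h.unitary, hA, mul_zero, add_zero]
        exact hax
      · rw [hz0, h.unitary.add_left, h.unitary.smul_left, hne, hA, mul_zero, add_zero]
        exact hxb
    · obtain ⟨l, hl, hl1⟩ := h.exists_norm_one_notMem (S := ({1} : Finset F))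
        (by rw [Finset.card_singleton]; have := h.two_le; omega)
      rw [Finset.mem_singleton] at hl1
      refine ⟨l • a, Submodule.smul_mem _ _ ha, ?_, fun e => hl1 ?_, fun e => hl1 ?_⟩
      · rw [h.unitary.smul_left, Unitary.smul_right' h.unitary, ← mul_assoc, hl, one_mul]
      · rw [Unitary.smul_right' h.unitary, mul_eq_right₀ hA] at e
        exact σ.injective (e.trans (map_one σ).symm)
      · rw [h.unitary.smul_left, h.unitary.smul_left, Unitary.smul_right' h.unitary, hne, ← mul_assoc, hl, one_mul,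
          mul_eq_right₀ hA] at e
        exact e
  obtain ⟨g, hg, hga⟩ := h.exists_step ha hz hzz h1
  obtain ⟨g', hg', hga'⟩ := h.exists_step hz hb (hab.trans hzz.symm) h2
  exact ⟨g' * g, hg'.mul hg, by rw [mul_mulVec, hga, hga']⟩

lemma QField.det_norm (h : QField σ q) {g : GL (Fin n) F} (hg : Iso 𝕗 g) :
    (g : Matrix (Fin n) (Fin n) F).det * σ (g : Matrix (Fin n) (Fin n) F).det = 1 := by
  have hF : Fintype.card F = q ^ 2 := by rw [← Nat.card_eq_fintype_card, h.card]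
  have := UnitaryThree.det_norm_one hF (g := g) hg
  rw [Matrix.GeneralLinearGroup.val_det_apply] at this
  rw [h.pow, ← pow_succ', this]

/-- Vectors with blockwise equal norms are conjugate under the part fixing all blocks. -/
lemma QField.exists_move_all (h : QField σ q) {M : Subgroup (GL (Fin n) F)}
    (hM : ∀ g : GL (Fin n) F, Iso 𝕗 g → (g : Matrix (Fin n) (Fin n) F).det = 1 →
      (∃ π : Equiv.Perm (Fin t), ∀ i v, InBlk blk i v → InBlk blk (π i) ((g : Matrix (Fin n) (Fin n) F) *ᵥ v)) → g ∈ M)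
    {x x' : Fin n → F}
    (hz : ∀ l, DecompBlocks.comp blk l x = 0 ↔ DecompBlocks.comp blk l x' = 0)
    (hn : ∀ l, 𝕗 (DecompBlocks.comp blk l x') (DecompBlocks.comp blk l x') =
      𝕗 (DecompBlocks.comp blk l x) (DecompBlocks.comp blk l x))
    {b : Fin t} {y : Fin n → F} (hy : y ∈ blockSpace blk b) (hyy : 𝕗 y y = 1) (hyx : 𝕗 y x' = 0) :
    ∃ g ∈ M, Iso 𝕗 g ∧ (g : Matrix (Fin n) (Fin n) F) *ᵥ x = x' := by
  classical
  have key : ∀ S : Finset (Fin t), ∃ g : GL (Fin n) F, Iso 𝕗 g ∧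
      (∀ i v, InBlk blk i v → InBlk blk i ((g : Matrix (Fin n) (Fin n) F) *ᵥ v)) ∧
      ∀ l, DecompBlocks.comp blk l ((g : Matrix (Fin n) (Fin n) F) *ᵥ x) =
        if l ∈ S then DecompBlocks.comp blk l x' else DecompBlocks.comp blk l x := by
    intro S
    induction S using Finset.induction_on with
    | empty => exact ⟨1, iso_one _, fun i v hv => by simpa using hv, fun l => by simp⟩
    | insert j S hj ih =>
      obtain ⟨g, hg, hgb, hgx⟩ := ih
      obtain ⟨k, hk, hkx⟩ : ∃ k : GL (Fin n) F, BlkIso q blk j k ∧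
          (k : Matrix (Fin n) (Fin n) F) *ᵥ DecompBlocks.comp blk j x = DecompBlocks.comp blk j x' := by
        by_cases h0 : DecompBlocks.comp blk j x = 0
        · exact ⟨1, BlkIso.one j, by rw [h0, (hz j).mp h0, mulVec_zero]⟩
        · exact h.exists_move (comp_mem j x) (comp_mem j x') h0 (fun e => h0 ((hz j).mpr e)) (hn j)
      refine ⟨k * g, hk.iso.mul hg, fun i v hv => by rw [mul_mulVec]; exact hk.preserves h (hgb i v hv), fun l => ?_⟩
      rw [mul_mulVec]
      by_cases hl : l = j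
      · subst hl
        rw [hk.comp_self h, hgx, if_neg hj, hkx, if_pos (Finset.mem_insert_self l S)]
      · rw [hk.comp_other hl, hgx]
        simp [hl]
  obtain ⟨g, hg, hgb, hgx⟩ := key Finset.univ
  have hgx' : (g : Matrix (Fin n) (Fin n) F) *ᵥ x = x' := by
    rw [← sum_comp (blk := blk) ((g : Matrix (Fin n) (Fin n) F) *ᵥ x), ← sum_comp (blk := blk) x']
    exact Finset.sum_congr rfl fun l _ => by rw [hgx, if_pos (Finset.mem_univ l)]
  have hd := norm_inv (h.det_norm hg)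
  have hR := h.blkIso_qR hy hyy hd
  refine ⟨qR 𝕗 y (g : Matrix (Fin n) (Fin n) F).det⁻¹ * g, hM _ (hR.iso.mul hg) ?_ ⟨1, fun i v hv => ?_⟩,
    hR.iso.mul hg, ?_⟩
  · rw [Units.val_mul, det_mul, det_qR h.unitary hyy hd,
      inv_mul_cancel₀ (ne_zero_of_norm_one (h.det_norm hg))]
  · rw [mul_mulVec]; exact hR.preserves h (hgb i v hv)
  · rw [mul_mulVec, hgx', qR_mulVec h.unitary hyy hd, (eq_zero_comm h.unitary).mp hyx, mul_zero, zero_smul, add_zero]

end CfsgLib.Classical22.UDecomp
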