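/-
Overgroups in SU of the stabiliser of an orthogonal decomposition into blocks of size at least two.
-/
import Cfsg.Agent.Lib.Classical22.UDecomp.Move

set_option autoImplicit false

namespace CfsgLib.Classical22.UDecomp

open Matrix CfsgLib.Transvec CfsgLib.Transvec.Unitary CfsgLib.Classical22.DecompBlocks
open scoped MatrixGroups

variable {F : Type*} [Field F] [Fintype F] {σ : F ≃+* F} {q n t k : ℕ} {blk : Fin n → Fin t}
  {M : Subgroup (GL (Fin n) F)}

local notation "𝕗" => Cfsg.hermForm n F q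
local notation:max "𝕖" i:max => (Pi.single i 1 : Fin n → F)
local notation "𝕔" => DecompBlocks.comp blk

/-- A group of isometries of determinant one containing everything which permutes the blocks. -/
structure BlockOver (q k : ℕ) (blk : Fin n → Fin t) (M : Subgroup (GL (Fin n) F)) : Prop where
  equiv : ∃ e : Fin t × Fin k ≃ Fin n, ∀ j r, blk (e (j, r)) = j
  two : 2 ≤ k
  hn : 6 ≤ n
  t2 : 2 ≤ t
  ex : 3 ≤ q ∨ 3 ≤ k
  hH : ∀ g ∈ M, Iso (Cfsg.hermForm n F q) g ∧ (g : Matrix (Fin n) (Fin n) F).det = 1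
  hM : ∀ g : GL (Fin n) F, Iso (Cfsg.hermForm n F q) g → (g : Matrix (Fin n) (Fin n) F).det = 1 →
    (∃ π : Equiv.Perm (Fin t), ∀ i v, InBlk blk i v → InBlk blk (π i) ((g : Matrix (Fin n) (Fin n) F) *ᵥ v)) → g ∈ M

omit [Fintype F] in
lemma BlockOver.card_eq (S : BlockOver q k blk M) (j : Fin t) :
    (Finset.univ.filter fun l => blk l = j).card = k := by
  obtain ⟨e, he⟩ := S.equiv
  rw [show (Finset.univ.filter fun l => blk l = j) =
      (Finset.univ : Finset (Fin k)).image (fun r => e (j, r)) by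
    ext l
    obtain ⟨⟨i, r⟩, rfl⟩ := e.surjective l
    simp [he, e.injective.eq_iff, eq_comm]]
  rw [Finset.card_image_of_injective _ fun r r' hrr => (Prod.ext_iff.mp (e.injective hrr)).2, Finset.card_univ,
    Fintype.card_fin]

omit [Fintype F] in
lemma BlockOver.two_le_card (S : BlockOver q k blk M) (j : Fin t) :
    2 ≤ (Finset.univ.filter fun l => blk l = j).card := by rw [S.card_eq]; exact S.two

omit [Fintype F] in
lemma BlockOver.three_or (S : BlockOver q k blk M) : 3 ≤ k ∨ 3 ≤ t := by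
  obtain ⟨e, -⟩ := S.equiv
  have h1 : t * k = n := by simpa using Fintype.card_congr e
  by_contra hc
  push Not at hc
  have := Nat.mul_le_mul (show t ≤ 2 by omega) (show k ≤ 2 by omega)
  have := S.hn
  omega

omit [Fintype F] in
lemma comp_pair {i j : Fin t} (hij : i ≠ j) {a b : Fin n → F} (ha : a ∈ blockSpace blk i)
    (hb : b ∈ blockSpace blk j) :
    𝕔 i (a + b) = a ∧ 𝕔 j (a + b) = b ∧ ∀ l, l ≠ i → l ≠ j → 𝕔 l (a + b) = 0 := by
  refine ⟨?_, ?_, fun l hli hlj => ?_⟩ <;> rw [comp_add]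
  · rw [comp_eq_self ha, comp_eq_zero hij hb, add_zero]
  · rw [comp_eq_zero hij.symm ha, comp_eq_self hb, zero_add]
  · rw [comp_eq_zero hli ha, comp_eq_zero hlj hb, add_zero]

lemma QField.form_pair_blocks (h : QField σ q) {i j : Fin t} (hij : i ≠ j) {a b c d : Fin n → F}
    (ha : a ∈ blockSpace blk i) (hb : b ∈ blockSpace blk j) (hc : c ∈ blockSpace blk i) (hd : d ∈ blockSpace blk j) :
    𝕗 (a + b) (c + d) = 𝕗 a c + 𝕗 b d := by
  rw [h.unitary.add_left, Unitary.add_right' h.unitary, Unitary.add_right' h.unitary, h.form_cross hij ha hd,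
    h.form_cross hij.symm hb hc]
  ring

lemma BlockOver.block_full (h : QField σ q) (S : BlockOver q k blk M) {j : Fin t} {v : Fin n → F}
    (hv : v ∈ blockSpace blk j) (hvv : 𝕗 v v = 0) : UFull σ 𝕗 M v :=
  ⟨hvv, fun _ hc => S.hM _ (iso_uT h.unitary hvv hc) ((mem_specialLinear_iff _).mp (transv_mem_specialLinear _ _))
    ⟨1, fun _ _ hx => (h.blkIso_uT hv hvv hc).preserves h hx⟩⟩

/-- The difference of two full vectors with skew product. -/
lemma QField.diff_full (h : QField σ q) {u v : Fin n → F} (hu : UFull σ 𝕗 M u) (hv : UFull σ 𝕗 M v)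
    (hs : 𝕗 u v + σ (𝕗 u v) = 0) (hne : 𝕗 u v ≠ 0) : UFull σ 𝕗 M (u - v) := by
  have hσ : σ (𝕗 u v) ≠ 0 := (map_ne_zero_iff _ σ.injective).mpr hne
  have hc : -(𝕗 u v)⁻¹ + σ (-(𝕗 u v)⁻¹) = 0 := by
    rw [map_neg, map_inv₀]; field_simp; linear_combination -hs
  have := uT_add_smul h.unitary hu hv.1 hc (hv.2 _ hc)
  rwa [neg_mul, inv_mul_cancel₀ hne, neg_one_smul, ← sub_eq_add_neg] at this

omit [Fintype F] in
lemma mem_block_of_comp {x : Fin n → F} {i : Fin t} (hx : ∀ l, l ≠ i → 𝕔 l x = 0) : x ∈ blockSpace blk i := by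
  have := sum_comp (blk := blk) x
  rw [Finset.sum_eq_single i (fun l _ hl => hx l hl) (fun hh => absurd (Finset.mem_univ i) hh)] at this
  exact this ▸ comp_mem i x

/-- A full vector in more than one block. -/
lemma BlockOver.exists_spread (h : QField σ q) (S : BlockOver q k blk M) {g : GL (Fin n) F} (hg : g ∈ M)
    (hgm : ¬ ∃ π : Equiv.Perm (Fin t), ∀ i v, InBlk blk i v → InBlk blk (π i) ((g : Matrix (Fin n) (Fin n) F) *ᵥ v)) :
    ∃ u i j, UFull σ 𝕗 M u ∧ i ≠ j ∧ 𝕔 i u ≠ 0 ∧ 𝕔 j u ≠ 0 := by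
  classical
  by_contra hc
  push Not at hc
  obtain ⟨j₀, -⟩ : ∃ j : Fin t, j.val = 0 := ⟨⟨0, by have := S.t2; omega⟩, rfl⟩
  have hgi := (S.hH g hg).1
  have hblock : ∀ u, UFull σ 𝕗 M u → ∃ l, u ∈ blockSpace blk l := fun u hu => by
    by_cases he : ∃ i, 𝕔 i u ≠ 0
    · obtain ⟨i, hi⟩ := he
      exact ⟨i, mem_block_of_comp fun l hl => hc u i l hu (Ne.symm hl) hi⟩
    · exact ⟨j₀, mem_block_of_comp fun l _ => by_contra fun e => he ⟨l, e⟩⟩
  have himg : ∀ j, ∃ l, ∀ v ∈ blockSpace blk j, (g : Matrix (Fin n) (Fin n) F) *ᵥ v ∈ blockSpace blk l := by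
    intro j
    obtain ⟨s, hs⟩ := Finset.card_pos.mp (show 0 < (Finset.univ.filter fun l => blk l = j).card by
      have := S.two_le_card j; omega)
    have hsb : (𝕖 s) ∈ blockSpace blk j := single_mem (Finset.mem_filter.mp hs).2 1
    obtain ⟨z₀, hz₀, hzz, hsz⟩ := h.exists_iso_pair (S.two_le_card j) hsb (by simp)
    have hz₀0 : z₀ ≠ 0 := fun e => by rw [e, zero_right' h.unitary] at hsz; exact zero_ne_one hsz
    obtain ⟨l, hl⟩ := hblock _ (ufull_conj h.unitary hg hgi (S.block_full h hz₀ hzz))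
    have hstep : ∀ {v w}, v ∈ blockSpace blk j → 𝕗 v v = 0 → w ∈ blockSpace blk j → 𝕗 w w = 0 → 𝕗 w v ≠ 0 →
        (g : Matrix (Fin n) (Fin n) F) *ᵥ v ∈ blockSpace blk l →
        (g : Matrix (Fin n) (Fin n) F) *ᵥ w ∈ blockSpace blk l := by
      intro v w hv hvv hw hww hwv hgv
      obtain ⟨l', hl'⟩ := hblock _ (ufull_conj h.unitary hg hgi (S.block_full h hw hww))
      by_cases hll : l' = l
      · rwa [hll] at hl'
      · exact absurd ((hgi w v).symm.trans (h.form_cross hll hl' hgv)) hwv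
    have hiso : ∀ w ∈ blockSpace blk j, 𝕗 w w = 0 → (g : Matrix (Fin n) (Fin n) F) *ᵥ w ∈ blockSpace blk l := by
      intro w hw hww
      by_cases hw0 : w = 0
      · rw [hw0, mulVec_zero]; exact zero_mem _
      by_cases hwz : 𝕗 w z₀ = 0
      swap
      · exact hstep hz₀ hzz hw hww hwz hl
      obtain ⟨x, hx, hxz, hxw⟩ := h.exists_pair_two hz₀ hw hz₀0 hw0
      obtain ⟨s', hs'⟩ := exists_trace_eq h.ne h.inv (b := -𝕗 x x) (by rw [map_neg, self_fixed h.unitary])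
      have hzx : 𝕗 z₀ x ≠ 0 := fun e => hxz ((eq_zero_comm h.unitary).mp e)
      obtain ⟨z, hz⟩ : ∃ z, z = x + (s' / 𝕗 z₀ x) • z₀ := ⟨_, rfl⟩
      have hzb : z ∈ blockSpace blk j := hz ▸ add_mem hx (Submodule.smul_mem _ _ hz₀)
      have hzz' : 𝕗 z z = 0 := by
        rw [hz, h.unitary.add_left, Unitary.add_right' h.unitary, Unitary.add_right' h.unitary, h.unitary.smul_left,
          h.unitary.smul_left, Unitary.smul_right' h.unitary, Unitary.smul_right' h.unitary, hzz, map_div₀,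
          ← h.unitary.herm x z₀, mul_zero, mul_zero, add_zero, div_mul_cancel₀ _ hxz, div_mul_cancel₀ _ hzx]
        linear_combination hs'
      have h1 : 𝕗 z z₀ ≠ 0 := by rwa [hz, h.unitary.add_left, h.unitary.smul_left, hzz, mul_zero, add_zero]
      have h2 : 𝕗 w z ≠ 0 := by
        rw [hz, Unitary.add_right' h.unitary, Unitary.smul_right' h.unitary, hwz, mul_zero, add_zero]
        exact fun e => hxw ((eq_zero_comm h.unitary).mp e)
      exact hstep hzb hzz' hw hww h2 (hstep hz₀ hzz hzb hzz' h1 hl)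
    refine ⟨l, fun v hv => ?_⟩
    by_cases hvv : 𝕗 v v = 0
    · exact hiso v hv hvv
    obtain ⟨z, hz, hzv, hzz'⟩ := h.exists_vec (S.two_le_card j) hv (fun e => hvv (by rw [e, zero_left' h.unitary]))
      (γ := 1) (β := 0) (map_zero σ) (fun e => absurd e hvv)
    obtain ⟨α, hα⟩ := exists_trace_eq h.ne h.inv (b := 𝕗 v v) (self_fixed h.unitary v)
    have hvz : 𝕗 v z = 1 := by rw [h.unitary.herm, hzv, map_one]
    have h3 : 𝕗 (v - α • z) (v - α • z) = 0 := by
      rw [Unitary.sub_left' h.unitary, Unitary.sub_right' h.unitary, Unitary.sub_right' h.unitary,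
        h.unitary.smul_left, h.unitary.smul_left, Unitary.smul_right' h.unitary, Unitary.smul_right' h.unitary,
        hvz, hzv, hzz']
      linear_combination -hα
    rw [show v = (v - α • z) + α • z by rw [sub_add_cancel], mulVec_add, mulVec_smul]
    exact add_mem (hiso _ (sub_mem hv (Submodule.smul_mem _ _ hz)) h3) (Submodule.smul_mem _ _ (hiso z hz hzz'))
  choose π hπ using himg
  have hsurj : Function.Surjective π := by
    intro l
    by_contra hne
    push Not at hne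
    obtain ⟨s, hs⟩ := Finset.card_pos.mp (show 0 < (Finset.univ.filter fun r => blk r = l).card by
      have := S.two_le_card l; omega)
    obtain ⟨y, hy⟩ : ∃ y, (g : Matrix (Fin n) (Fin n) F) *ᵥ y = 𝕖 s := ⟨_, mulVec_inv_cancel g _⟩
    rw [← sum_comp (blk := blk) y, mulVec_sum] at hy
    have h1 := congrFun hy s
    rw [Finset.sum_apply, Pi.single_eq_same, Finset.sum_eq_zero fun i _ =>
      hπ i _ (comp_mem i y) s (by rw [(Finset.mem_filter.mp hs).2]; exact Ne.symm (hne i))] at h1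
    exact zero_ne_one h1
  exact hgm ⟨Equiv.ofBijective π ⟨Finite.injective_iff_surjective.mpr hsurj, hsurj⟩, fun i v hv => hπ i v hv⟩

/-- Permutations of the blocks are realised in `M`. -/
lemma BlockOver.exists_perm (h : QField σ q) (S : BlockOver q k blk M) (π : Equiv.Perm (Fin t)) :
    ∃ g ∈ M, Iso 𝕗 g ∧ ∀ i v, InBlk blk i v → InBlk blk (π i) ((g : Matrix (Fin n) (Fin n) F) *ᵥ v) := by
  obtain ⟨e, he⟩ := S.equiv
  obtain ⟨p, hp⟩ : ∃ p : Equiv.Perm (Fin n),
      p = e.symm.trans ((Equiv.prodCongr π (Equiv.refl (Fin k))).trans e) := ⟨_, rfl⟩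
  have hblk : ∀ l, blk (p l) = π (blk l) := fun l => by
    obtain ⟨⟨i, r⟩, rfl⟩ := e.surjective l
    simp [hp, he]
  obtain ⟨g, hgi, hgd, -, c, -, hg⟩ := h.exists_mono p (fun _ => 1) (fun _ => by simp)
    ⟨0, by have := S.hn; omega⟩
  have hmap : ∀ i v, InBlk blk i v → InBlk blk (π i) ((g : Matrix (Fin n) (Fin n) F) *ᵥ v) := by
    intro i v hv l hl
    obtain ⟨l, rfl⟩ := p.surjective l
    rw [hg, hv l (fun e' => hl (by rw [hblk, e'])), mul_zero]
  exact ⟨g, S.hM g hgi hgd ⟨π, hmap⟩, hgi, hmap⟩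

/-- A unit vector orthogonal to a given one, inside a block. -/
lemma BlockOver.exists_free (h : QField σ q) (S : BlockOver q k blk M) {x : Fin n → F}
    (hx : 3 ≤ k ∨ ∃ b, 𝕔 b x = 0 ∨ 𝕗 (𝕔 b x) (𝕔 b x) ≠ 0) :
    ∃ b y, y ∈ blockSpace blk b ∧ 𝕗 y y = 1 ∧ 𝕗 y x = 0 := by
  obtain ⟨b, hb⟩ : ∃ b, 3 ≤ (Finset.univ.filter fun l => blk l = b).card ∨ 𝕔 b x = 0 ∨
      𝕗 (𝕔 b x) (𝕔 b x) ≠ 0 := by
    rcases hx with hk | ⟨b, hb⟩
    · exact ⟨⟨0, by have := S.t2; omega⟩, Or.inl (by rw [S.card_eq]; exact hk)⟩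
    · exact ⟨b, Or.inr hb⟩
  obtain ⟨y, hy, hyx, hyy⟩ := h.exists_spare (S.two_le_card b) (comp_mem b x) hb
  exact ⟨b, y, hy, hyy, by rwa [h.form_comp_right hy] at hyx⟩

lemma BlockOver.free_pair (S : BlockOver q k blk M) {i j : Fin t} {a b : Fin n → F} (hij : i ≠ j)
    (ha : a ∈ blockSpace blk i) (hb : b ∈ blockSpace blk j) :
    3 ≤ k ∨ ∃ l, 𝕔 l (a + b) = 0 ∨ 𝕗 (𝕔 l (a + b)) (𝕔 l (a + b)) ≠ 0 := by
  classical
  refine S.three_or.imp_right fun ht => ?_
  obtain ⟨l, hl⟩ : ∃ l : Fin t, l ∉ ({i, j} : Finset (Fin t)) := by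
    by_contra hc
    push Not at hc
    have h1 := Finset.card_le_card (fun l (_ : l ∈ (Finset.univ : Finset (Fin t))) => hc l)
    have h2 := Finset.card_le_two (a := i) (b := j)
    rw [Finset.card_univ, Fintype.card_fin] at h1
    omega
  simp only [Finset.mem_insert, Finset.mem_singleton, not_or] at hl
  exact ⟨l, Or.inl ((comp_pair hij ha hb).2.2 l hl.1 hl.2)⟩

/-- Two-block vectors form orbits. -/
lemma BlockOver.orbit (h : QField σ q) (S : BlockOver q k blk M) {i j i' j' : Fin t} (hij : i ≠ j) (hij' : i' ≠ j')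
    {a₀ b₀ a b : Fin n → F} (ha₀ : a₀ ∈ blockSpace blk i) (hb₀ : b₀ ∈ blockSpace blk j)
    (ha : a ∈ blockSpace blk i') (hb : b ∈ blockSpace blk j') (hna : 𝕗 a a = 𝕗 a₀ a₀) (hnb : 𝕗 b b = 𝕗 b₀ b₀)
    (hza : a₀ ≠ 0 ∧ a ≠ 0) (hzb : b₀ ≠ 0 ∧ b ≠ 0) (hu : UFull σ 𝕗 M (a₀ + b₀)) : UFull σ 𝕗 M (a + b) := by
  obtain ⟨π, hπi, hπj⟩ := exists_perm_pair hij hij'
  obtain ⟨g, hg, hgi, hgπ⟩ := S.exists_perm h π
  have ha1 : (g : Matrix (Fin n) (Fin n) F) *ᵥ a₀ ∈ blockSpace blk i' := hπi ▸ hgπ i a₀ ha₀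
  have hb1 : (g : Matrix (Fin n) (Fin n) F) *ᵥ b₀ ∈ blockSpace blk j' := hπj ▸ hgπ j b₀ hb₀
  have hu1 := ufull_conj h.unitary hg hgi hu
  rw [mulVec_add] at hu1
  obtain ⟨p1, p2, p3⟩ := comp_pair hij' ha1 hb1
  obtain ⟨p1', p2', p3'⟩ := comp_pair hij' ha hb
  have hne : ∀ {v : Fin n → F}, v ≠ 0 → (g : Matrix (Fin n) (Fin n) F) *ᵥ v ≠ 0 := fun hv e =>
    hv (Matrix.mulVec_injective_iff_isUnit.mpr g.isUnit (by rw [e, mulVec_zero]))
  obtain ⟨c, y, hy, hyy, hyx⟩ := S.exists_free h (S.free_pair hij' ha hb)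
  obtain ⟨m, hm, hmi, hmx⟩ := h.exists_move_all S.hM
    (x := (g : Matrix (Fin n) (Fin n) F) *ᵥ a₀ + (g : Matrix (Fin n) (Fin n) F) *ᵥ b₀) (x' := a + b)
    (fun l => by
      rcases eq_or_ne l i' with rfl | hli
      · rw [p1, p1']; exact iff_of_false (hne hza.1) hza.2
      rcases eq_or_ne l j' with rfl | hlj
      · rw [p2, p2']; exact iff_of_false (hne hzb.1) hzb.2
      rw [p3 l hli hlj, p3' l hli hlj])
    (fun l => by
      rcases eq_or_ne l i' with rfl | hli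
      · rw [p1, p1', hgi, hna]
      rcases eq_or_ne l j' with rfl | hlj
      · rw [p2, p2', hgi, hnb]
      rw [p3 l hli hlj, p3' l hli hlj]) hy hyy hyx
  exact hmx ▸ ufull_conj h.unitary hm hmi hu1

/-- All anisotropic two-block vectors are full. -/
def AnisoFull (σ : F ≃+* F) (q : ℕ) (blk : Fin n → Fin t) (M : Subgroup (GL (Fin n) F)) : Prop :=
  ∀ i j a b, i ≠ j → a ∈ blockSpace blk i → b ∈ blockSpace blk j → Cfsg.hermForm n F q a a ≠ 0 →
    Cfsg.hermForm n F q a a + Cfsg.hermForm n F q b b = 0 → UFull σ (Cfsg.hermForm n F q) M (a + b)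

/-- All isotropic two-block vectors are full. -/
def IsoFull (σ : F ≃+* F) (q : ℕ) (blk : Fin n → Fin t) (M : Subgroup (GL (Fin n) F)) : Prop :=
  ∀ i j a b, i ≠ j → a ∈ blockSpace blk i → b ∈ blockSpace blk j → Cfsg.hermForm n F q a a = 0 →
    Cfsg.hermForm n F q b b = 0 → UFull σ (Cfsg.hermForm n F q) M (a + b)

lemma BlockOver.aniso_of_one (h : QField σ q) (S : BlockOver q k blk M) {i j : Fin t} (hij : i ≠ j)
    {a₀ b₀ : Fin n → F} (ha₀ : a₀ ∈ blockSpace blk i) (hb₀ : b₀ ∈ blockSpace blk j) (ht : 𝕗 a₀ a₀ ≠ 0)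
    (hu : UFull σ 𝕗 M (a₀ + b₀)) : AnisoFull σ q blk M := by
  intro i' j' a b hij' ha hb hta hab
  have hsum : 𝕗 a₀ a₀ + 𝕗 b₀ b₀ = 0 := by
    have := hu.1; rwa [h.form_pair_blocks hij ha₀ hb₀ ha₀ hb₀] at this
  obtain ⟨l, hl⟩ := exists_norm_eq h.ne h.inv (b := 𝕗 a a / 𝕗 a₀ a₀)
    (by rw [map_div₀, self_fixed h.unitary, self_fixed h.unitary])
  have hn : ∀ v : Fin n → F, 𝕗 (l • v) (l • v) = 𝕗 a a / 𝕗 a₀ a₀ * 𝕗 v v := fun v => by
    rw [h.unitary.smul_left, Unitary.smul_right' h.unitary, ← mul_assoc, hl]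
  have hna : 𝕗 a a = 𝕗 (l • a₀) (l • a₀) := by rw [hn, div_mul_cancel₀ _ ht]
  have hnb : 𝕗 b b = 𝕗 (l • b₀) (l • b₀) := by
    rw [hn, show 𝕗 b₀ b₀ = -𝕗 a₀ a₀ by linear_combination hsum, mul_neg, div_mul_cancel₀ _ ht]
    linear_combination hab
  have htb : 𝕗 b b ≠ 0 := fun e => hta (by linear_combination hab - e)
  have hne : ∀ {v : Fin n → F}, 𝕗 v v ≠ 0 → v ≠ 0 := fun hv e => hv (by rw [e, zero_left' h.unitary])
  refine S.orbit h hij hij' (Submodule.smul_mem _ l ha₀) (Submodule.smul_mem _ l hb₀) ha hb hna hnb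
    ⟨hne (hna ▸ hta), hne hta⟩ ⟨hne (hnb ▸ htb), hne htb⟩ ?_
  rw [← smul_add]
  exact ufull_smul h.unitary hu l

lemma BlockOver.iso_of_one (h : QField σ q) (S : BlockOver q k blk M) {i j : Fin t} (hij : i ≠ j)
    {a₀ b₀ : Fin n → F} (ha₀ : a₀ ∈ blockSpace blk i) (hb₀ : b₀ ∈ blockSpace blk j) (ha0 : a₀ ≠ 0) (hb0 : b₀ ≠ 0)
    (hta : 𝕗 a₀ a₀ = 0) (hu : UFull σ 𝕗 M (a₀ + b₀)) : IsoFull σ q blk M := by
  intro i' j' a b hij' ha hb hta' htb'
  have htb : 𝕗 b₀ b₀ = 0 := by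
    have := hu.1; rw [h.form_pair_blocks hij ha₀ hb₀ ha₀ hb₀, hta, zero_add] at this; exact this
  by_cases hza : a = 0
  · rw [hza, zero_add]; exact S.block_full h hb htb'
  by_cases hzb : b = 0
  · rw [hzb, add_zero]; exact S.block_full h ha hta'
  exact S.orbit h hij hij' ha₀ hb₀ ha hb (hta'.trans hta.symm) (htb'.trans htb.symm) ⟨ha0, hza⟩ ⟨hb0, hzb⟩ hu

/-- From a full vector with room to spare to the anisotropic class. -/
lemma BlockOver.aniso_of_spread (h : QField σ q) (S : BlockOver q k blk M) {u : Fin n → F} {i j : Fin t}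
    (hu : UFull σ 𝕗 M u) (hij : i ≠ j) (hi : 𝕔 i u ≠ 0) (hj : 𝕔 j u ≠ 0)
    (hsp : 3 ≤ k ∨ ∃ b, 𝕔 b u = 0 ∨ 𝕗 (𝕔 b u) (𝕔 b u) ≠ 0) : AnisoFull σ q blk M := by
  obtain ⟨a, hadef⟩ : ∃ a, a = 𝕔 i u := ⟨_, rfl⟩
  obtain ⟨b, hbdef⟩ : ∃ b, b = 𝕔 j u := ⟨_, rfl⟩
  rw [← hadef] at hi
  rw [← hbdef] at hj
  have ha : a ∈ blockSpace blk i := hadef ▸ comp_mem i u
  have hb : b ∈ blockSpace blk j := hbdef ▸ comp_mem j u
  obtain ⟨c, hc0, hc⟩ := exists_skew h.ne h.inv
  obtain ⟨e, he⟩ := exists_trace_ne_zero (σ := σ) h.ne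
  obtain ⟨e', he'⟩ : ∃ e', e' = c - e := ⟨_, rfl⟩
  have hee : e + e' = c := by rw [he']; ring
  have het : e' + σ e' ≠ 0 := by
    rw [he', map_sub]; intro e0; exact he (by linear_combination hc - e0)
  obtain ⟨a', ha', hfa, hna⟩ := h.exists_vec (S.two_le_card i) ha hi (γ := σ (e + 𝕗 a a)) (β := 𝕗 a a)
    (self_fixed h.unitary a) (fun e0 => by
      rw [e0, add_zero]; exact (map_ne_zero_iff _ σ.injective).mpr fun e1 => he (by rw [e1, map_zero, add_zero]))
  obtain ⟨b', hb', hfb, hnb⟩ := h.exists_vec (S.two_le_card j) hb hj (γ := σ (e' + 𝕗 b b)) (β := 𝕗 b b)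
    (self_fixed h.unitary b) (fun e0 => by
      rw [e0, add_zero]; exact (map_ne_zero_iff _ σ.injective).mpr fun e1 => het (by rw [e1, map_zero, add_zero]))
  have haa' : 𝕗 a a' = e + 𝕗 a a := by rw [h.unitary.herm, hfa, h.inv]
  have hbb' : 𝕗 b b' = e' + 𝕗 b b := by rw [h.unitary.herm, hfb, h.inv]
  obtain ⟨w, hw⟩ : ∃ w, w = (a - a') + (b - b') := ⟨_, rfl⟩
  have ha'' : a - a' ∈ blockSpace blk i := sub_mem ha ha'
  have hb'' : b - b' ∈ blockSpace blk j := sub_mem hb hb'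
  obtain ⟨q1, q2, q3⟩ := comp_pair hij ha'' hb''
  have hzero : ∀ {v v' : Fin n → F} {δ : F}, 𝕗 v' v' = 𝕗 v v → 𝕗 v v' = δ + 𝕗 v v → δ + σ δ ≠ 0 → v ≠ 0 →
      v' ≠ 0 := fun {v v' δ} h1 h2 h3 _ h0 => by
    rw [h0, zero_right' h.unitary] at h1 h2
    exact h3 (by rw [show δ = 0 by linear_combination -h2 + h1, map_zero, add_zero])
  have hz : ∀ l, 𝕔 l u = 0 ↔ 𝕔 l (u - w) = 0 := fun l => by
    rw [comp_sub, hw]
    rcases eq_or_ne l i with rfl | hli
    · rw [q1, ← hadef, sub_sub_cancel]; exact iff_of_false hi (hzero hna haa' he hi)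
    rcases eq_or_ne l j with rfl | hlj
    · rw [q2, ← hbdef, sub_sub_cancel]; exact iff_of_false hj (hzero hnb hbb' het hj)
    rw [q3 l hli hlj, sub_zero]
  have hn : ∀ l, 𝕗 (𝕔 l (u - w)) (𝕔 l (u - w)) = 𝕗 (𝕔 l u) (𝕔 l u) := fun l => by
    rw [comp_sub, hw]
    rcases eq_or_ne l i with rfl | hli
    · rw [q1, ← hadef, sub_sub_cancel, hna]
    rcases eq_or_ne l j with rfl | hlj
    · rw [q2, ← hbdef, sub_sub_cancel, hnb]
    rw [q3 l hli hlj, sub_zero]
  obtain ⟨r, y, hy, hyy, hyx⟩ := S.exists_free h (x := u - w) (hsp.imp_right fun ⟨l, hl⟩ =>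
    ⟨l, hl.imp (hz l).mp (fun e0 => by rwa [hn])⟩)
  obtain ⟨g, hg, hgi, hgu⟩ := h.exists_move_all S.hM hz hn hy hyy hyx
  have hfuw : 𝕗 u w = -c := by
    rw [hw, Unitary.add_right' h.unitary, ← h.form_comp_left ha'' u, ← h.form_comp_left hb'' u, ← hadef, ← hbdef,
      Unitary.sub_right' h.unitary, Unitary.sub_right' h.unitary, haa', hbb']
    linear_combination -hee
  have hfull := h.diff_full hu (hgu ▸ ufull_conj h.unitary hg hgi hu) (v := u - w)
    (by rw [Unitary.sub_right' h.unitary, hu.1, hfuw]; simp [hc]) (by rw [Unitary.sub_right' h.unitary, hu.1, hfuw]; simp [hc0])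
  rw [sub_sub_cancel, hw] at hfull
  refine S.aniso_of_one h hij ha'' hb'' ?_ hfull
  rw [Unitary.sub_left' h.unitary, Unitary.sub_right' h.unitary, Unitary.sub_right' h.unitary, hna, haa', hfa,
    map_add, self_fixed h.unitary]
  exact fun e0 => he (by linear_combination -e0)

/-- The isotropic class from the anisotropic one, in blocks of dimension at least three. -/
lemma BlockOver.iso_of_aniso (h : QField σ q) (S : BlockOver q k blk M) (hk : 3 ≤ k)
    (hA : AnisoFull σ q blk M) : IsoFull σ q blk M := by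
  classical
  obtain ⟨e, he⟩ := S.equiv
  obtain ⟨i, j, hij⟩ : ∃ i j : Fin t, i ≠ j :=
    ⟨⟨0, by have := S.t2; omega⟩, ⟨1, by have := S.t2; omega⟩, by simp⟩
  obtain ⟨r₀, r₁, r₂, h01, h02, h12⟩ : ∃ r₀ r₁ r₂ : Fin k, r₀ ≠ r₁ ∧ r₀ ≠ r₂ ∧ r₁ ≠ r₂ :=
    ⟨⟨0, by omega⟩, ⟨1, by omega⟩, ⟨2, by omega⟩, by simp, by simp, by simp⟩
  have hne : ∀ {r r' : Fin k}, r ≠ r' → e (i, r) ≠ e (i, r') := fun hr e0 => hr (congrArg Prod.snd (e.injective e0))
  obtain ⟨d, hd⟩ := exists_norm_eq h.ne h.inv (b := (-1 : F)) (by rw [map_neg, map_one])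
  obtain ⟨c, hc0, hc⟩ := exists_skew h.ne h.inv
  obtain ⟨a, hadef⟩ : ∃ a, a = 𝕖 (e (i, r₀)) := ⟨_, rfl⟩
  obtain ⟨η, hηdef⟩ : ∃ η, η = 𝕖 (e (i, r₁)) + d • 𝕖 (e (i, r₂)) := ⟨_, rfl⟩
  obtain ⟨b, hbdef⟩ : ∃ b, b = d • 𝕖 (e (j, r₀)) := ⟨_, rfl⟩
  have ha : a ∈ blockSpace blk i := hadef ▸ single_mem (he _ _) 1
  have hη : η ∈ blockSpace blk i :=
    hηdef ▸ add_mem (single_mem (he _ _) 1) (Submodule.smul_mem _ _ (single_mem (he _ _) 1))
  have hb : b ∈ blockSpace blk j := hbdef ▸ Submodule.smul_mem _ _ (single_mem (he _ _) 1)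
  have haa : 𝕗 a a = 1 := by rw [hadef, h.form_unit]
  have haη : 𝕗 a η = 0 := by
    rw [hadef, hηdef, Unitary.add_right' h.unitary, Unitary.smul_right' h.unitary, h.form_ne (hne h01),
      h.form_ne (hne h02), mul_zero, add_zero]
  have hηη : 𝕗 η η = 0 := by
    rw [hηdef, h.unitary.add_left, Unitary.add_right' h.unitary, Unitary.add_right' h.unitary, h.unitary.smul_left,
      h.unitary.smul_left, Unitary.smul_right' h.unitary, Unitary.smul_right' h.unitary, h.form_unit, h.form_unit,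
      h.form_ne (hne h12), h.form_ne (hne h12).symm]
    linear_combination hd
  have hbb : 𝕗 b b = -1 := by
    rw [hbdef, h.unitary.smul_left, Unitary.smul_right' h.unitary, h.form_unit, mul_one, hd]
  have hb0 : b ≠ 0 := fun e0 => by
    rw [e0, zero_left' h.unitary] at hbb; exact one_ne_zero (α := F) (by linear_combination hbb)
  obtain ⟨b', hb', hfb, hnb⟩ := h.exists_vec (S.two_le_card j) hb hb0 (γ := σ (c - 1)) (β := -1)
    (by rw [map_neg, map_one]) (fun e0 => absurd (hbb.symm.trans e0) (neg_ne_zero.mpr one_ne_zero))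
  have hbb' : 𝕗 b b' = c - 1 := by rw [h.unitary.herm, hfb, h.inv]
  have hηa : 𝕗 η a = 0 := (eq_zero_comm h.unitary).mp haη
  have ha'n : 𝕗 (a + η) (a + η) = 1 := by
    rw [h.unitary.add_left, Unitary.add_right' h.unitary, Unitary.add_right' h.unitary, haa, haη, hηa, hηη]; ring
  have h1 := hA i j a b hij ha hb (by rw [haa]; exact one_ne_zero) (by rw [haa, hbb, add_neg_cancel])
  have h2 := hA i j (a + η) b' hij (add_mem ha hη) hb' (by rw [ha'n]; exact one_ne_zero)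
    (by rw [ha'n, hnb, add_neg_cancel])
  have hf : 𝕗 (a + b) (a + η + b') = c := by
    rw [h.form_pair_blocks hij ha hb (add_mem ha hη) hb', Unitary.add_right' h.unitary, haa, haη, hbb']; ring
  have h3 := h.diff_full h1 h2 (by rw [hf, hc]) (by rw [hf]; exact hc0)
  rw [show a + b - (a + η + b') = -η + (b - b') by abel] at h3
  refine S.iso_of_one h hij (neg_mem hη) (sub_mem hb hb') ?_ ?_ ?_ h3
  · intro e0
    have := congrFun (neg_eq_zero.mp e0) (e (i, r₁))
    rw [hηdef] at this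
    simp [(hne h12)] at this
  · intro e0
    rw [← sub_eq_zero.mp e0, hbb] at hbb'
    exact hc0 (by linear_combination -hbb')
  · rw [← neg_one_smul F η, h.unitary.smul_left, Unitary.smul_right' h.unitary, hηη, mul_zero, mul_zero]

/-- The isotropic class by two transvections. -/
lemma BlockOver.iso_of_spread (h : QField σ q) (S : BlockOver q k blk M) (hq : 3 ≤ q) {u : Fin n → F} {i j : Fin t}
    (hu : UFull σ 𝕗 M u) (hij : i ≠ j) (hi : 𝕔 i u ≠ 0) (hj : 𝕔 j u ≠ 0) : IsoFull σ q blk M := by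
  classical
  obtain ⟨z, hz, hzz, huz⟩ := h.exists_iso_pair (S.two_le_card i) (comp_mem i u) hi
  obtain ⟨z', hz', hzz', huz'⟩ := h.exists_iso_pair (S.two_le_card j) (comp_mem j u) hj
  rw [h.form_comp_left hz] at huz
  rw [h.form_comp_left hz'] at huz'
  obtain ⟨c, hc0, hc⟩ := exists_skew h.ne h.inv
  obtain ⟨m, hmf, hm0, hm1⟩ : ∃ m : F, σ m = m ∧ m ≠ 0 ∧ m ≠ -1 := by
    by_cases h2 : (2 : F) = 0
    swap
    · exact ⟨1, map_one σ, one_ne_zero, fun e => h2 (by linear_combination e)⟩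
    obtain ⟨x, hx⟩ : ∃ x, x ∉ ({0, 1} : Finset F) ∧ σ x = x := by
      by_contra hcon
      push Not at hcon
      have hsub : (Finset.univ.filter fun r : F => σ r = r) ⊆ {0, 1} := fun r hr => by
        by_contra hr'; exact hcon r hr' (Finset.mem_filter.mp hr).2
      have h4 : ((Finset.univ.filter fun l : F => l ≠ 0).image fun a => a * σ a) ⊆ {1} := fun r hr => by
        obtain ⟨a, ha, rfl⟩ := Finset.mem_image.mp hr
        have := hsub (Finset.mem_filter.mpr ⟨Finset.mem_univ (a * σ a), by rw [map_mul, h.inv, mul_comm]⟩)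
        simp only [Finset.mem_insert, Finset.mem_singleton, mul_eq_zero, map_eq_zero_iff _ σ.injective, or_self,
          (Finset.mem_filter.mp ha).2, false_or] at this
        simp [this]
      have h5 : ∀ a : F, a ≠ 0 → a ^ (q + 1) = 1 := fun a ha => by
        have := h4 (Finset.mem_image_of_mem _ (Finset.mem_filter.mpr ⟨Finset.mem_univ a, ha⟩))
        rw [Finset.mem_singleton, h.pow] at this
        rw [pow_succ', this]
      have h6 : (Finset.univ.erase (0 : F)).card ≤ q + 1 := by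
        refine le_trans (Finset.card_le_card fun a ha => ?_) ((Multiset.toFinset_card_le _).trans
          (Polynomial.card_nthRoots (q + 1) (1 : F)))
        rw [Multiset.mem_toFinset, Polynomial.mem_nthRoots (by omega)]
        exact h5 a (Finset.ne_of_mem_erase ha)
      have h7 := h.card
      rw [Nat.card_eq_fintype_card] at h7
      rw [Finset.card_erase_of_mem (Finset.mem_univ _), Finset.card_univ, h7] at h6
      have : 3 * q ≤ q ^ 2 := by rw [pow_two]; exact Nat.mul_le_mul_right q hq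
      omega
    simp only [Finset.mem_insert, Finset.mem_singleton, not_or] at hx
    exact ⟨x, hx.2, hx.1.1, fun e => hx.1.2 (by linear_combination e - h2)⟩
  have hc' : m * c + σ (m * c) = 0 := by rw [map_mul, hmf]; linear_combination m * hc
  have hg : uT 𝕗 z c * uT 𝕗 z' (m * c) ∈ M :=
    M.mul_mem ((S.block_full h hz hzz).2 c hc) ((S.block_full h hz' hzz').2 _ hc')
  have hgu : ((uT 𝕗 z c * uT 𝕗 z' (m * c) : GL (Fin n) F) : Matrix (Fin n) (Fin n) F) *ᵥ u =
      u + ((m * c) • z' + c • z) := by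
    rw [mul_mulVec, uT_mulVec h.unitary hzz', uT_mulVec h.unitary hzz, huz', h.unitary.add_left, huz,
      h.unitary.smul_left, h.form_cross hij.symm hz' hz]
    simp [add_assoc]
  have hu1 := ufull_conj h.unitary hg (S.hH _ hg).1 hu
  rw [hgu] at hu1
  have hf : 𝕗 u (u + ((m * c) • z' + c • z)) = σ (m * c) + σ c := by
    rw [Unitary.add_right' h.unitary, Unitary.add_right' h.unitary, Unitary.smul_right' h.unitary,
      Unitary.smul_right' h.unitary, hu.1, huz, huz']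
    ring
  have h3 := h.diff_full hu hu1 (by rw [hf, map_add, h.inv, h.inv]; linear_combination hc + hc') (by
    rw [hf, ← map_add, Ne, map_eq_zero_iff _ σ.injective]
    intro e0
    have : (m + 1) * c = 0 := by linear_combination e0
    exact hm1 (eq_neg_of_add_eq_zero_left ((mul_eq_zero.mp this).resolve_right hc0)))
  rw [show u - (u + ((m * c) • z' + c • z)) = (-c) • z + (-(m * c)) • z' by rw [neg_smul, neg_smul]; abel] at h3
  have hne : ∀ {v : Fin n → F}, 𝕗 u v = 1 → v ≠ 0 := fun hv e => by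
    rw [e, zero_right' h.unitary] at hv; exact zero_ne_one hv
  exact S.iso_of_one h hij (Submodule.smul_mem _ _ hz) (Submodule.smul_mem _ _ hz')
    (smul_ne_zero (neg_ne_zero.mpr hc0) (hne huz)) (smul_ne_zero (neg_ne_zero.mpr (mul_ne_zero hm0 hc0)) (hne huz'))
    (by rw [h.unitary.smul_left, Unitary.smul_right' h.unitary, hzz, mul_zero, mul_zero]) h3

/-- Both classes. -/
lemma BlockOver.classes (h : QField σ q) (S : BlockOver q k blk M) {g : GL (Fin n) F} (hg : g ∈ M)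
    (hgm : ¬ ∃ π : Equiv.Perm (Fin t), ∀ i v, InBlk blk i v → InBlk blk (π i) ((g : Matrix (Fin n) (Fin n) F) *ᵥ v)) :
    AnisoFull σ q blk M ∧ IsoFull σ q blk M := by
  obtain ⟨u, i, j, hu, hij, hi, hj⟩ := S.exists_spread h hg hgm
  by_cases hk : 3 ≤ k
  · exact ⟨S.aniso_of_spread h hu hij hi hj (Or.inl hk),
      S.iso_of_aniso h hk (S.aniso_of_spread h hu hij hi hj (Or.inl hk))⟩
  have hI := S.iso_of_spread h (S.ex.resolve_right hk) hu hij hi hj
  obtain ⟨z, hz, hzz, hiz⟩ := h.exists_iso_pair (S.two_le_card i) (comp_mem i u) hi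
  obtain ⟨z', hz', hzz', hjz⟩ := h.exists_iso_pair (S.two_le_card j) (comp_mem j u) hj
  obtain ⟨p1, p2, -⟩ := comp_pair hij hz hz'
  have hne : ∀ {w v : Fin n → F}, 𝕗 w v = 1 → v ≠ 0 := fun hv e => by
    rw [e, zero_right' h.unitary] at hv; exact zero_ne_one hv
  exact ⟨S.aniso_of_spread h (hI i j z z' hij hz hz' hzz hzz') hij (by rw [p1]; exact hne hiz)
    (by rw [p2]; exact hne hjz) (S.free_pair hij hz hz'), hI⟩

/-- Everything isotropic is full. -/
theorem BlockOver.all_full (h : QField σ q) (S : BlockOver q k blk M) {g : GL (Fin n) F} (hg : g ∈ M)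
    (hgm : ¬ ∃ π : Equiv.Perm (Fin t), ∀ i v, InBlk blk i v → InBlk blk (π i) ((g : Matrix (Fin n) (Fin n) F) *ᵥ v)) :
    ∀ x, 𝕗 x x = 0 → UFull σ 𝕗 M x := by
  classical
  obtain ⟨hA, hI⟩ := S.classes h hg hgm
  obtain ⟨c, hc0, hc⟩ := exists_skew h.ne h.inv
  obtain ⟨N, hN⟩ : ∃ N : (Fin n → F) → Finset (Fin t), ∀ x, N x = Finset.univ.filter fun l => 𝕔 l x ≠ 0 :=
    ⟨_, fun _ => rfl⟩
  suffices ∀ m x, (N x).card = m → 𝕗 x x = 0 → UFull σ 𝕗 M x from fun x => this _ x rfl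
  intro m
  induction m using Nat.strong_induction_on with
  | _ m ih =>
    intro x hm hxx
    by_cases hcard : (N x).card ≤ 1
    · obtain ⟨i, hi⟩ : ∃ i, ∀ l, l ≠ i → 𝕔 l x = 0 := by
        by_cases he : ∃ i, 𝕔 i x ≠ 0
        · obtain ⟨i, hi⟩ := he
          refine ⟨i, fun l hl => by_contra fun hl' => hl ?_⟩
          exact Finset.card_le_one.mp hcard l (by rw [hN]; simpa using hl') i (by rw [hN]; simpa using hi)
        · exact ⟨⟨0, by have := S.t2; omega⟩, fun l _ => by_contra fun e => he ⟨l, e⟩⟩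
      exact S.block_full h (mem_block_of_comp hi) hxx
    obtain ⟨j, hj, hjt⟩ : ∃ j ∈ N x, (∃ l ∈ N x, 𝕗 (𝕔 l x) (𝕔 l x) ≠ 0) → 𝕗 (𝕔 j x) (𝕔 j x) ≠ 0 := by
      by_cases he : ∃ l ∈ N x, 𝕗 (𝕔 l x) (𝕔 l x) ≠ 0
      · obtain ⟨l, hl, hl'⟩ := he
        exact ⟨l, hl, fun _ => hl'⟩
      · obtain ⟨l, hl⟩ := Finset.card_pos.mp (show 0 < (N x).card by omega)
        exact ⟨l, hl, fun e => absurd e he⟩
    obtain ⟨i, hi, hij⟩ := Finset.exists_mem_ne (show 1 < (N x).card by omega) j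
    have hj0 : 𝕔 j x ≠ 0 := by rw [hN] at hj; exact (Finset.mem_filter.mp hj).2
    obtain ⟨a, hadef⟩ : ∃ a, a = 𝕔 i x := ⟨_, rfl⟩
    have ha : a ∈ blockSpace blk i := hadef ▸ comp_mem i x
    obtain ⟨B, hB, hBf, hBB⟩ := h.exists_vec (S.two_le_card j) (comp_mem j x) hj0 (γ := -c - 𝕗 a a) (β := -𝕗 a a)
      (by rw [map_neg, self_fixed h.unitary]) (fun e0 e1 => by
        have hta : 𝕗 a a = 0 := hadef ▸ by_contra fun e2 => hjt ⟨i, hi, e2⟩ e0
        rw [hta, sub_zero, neg_eq_zero] at e1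
        exact hc0 e1)
    have hw : UFull σ 𝕗 M (a + B) := by
      by_cases hta : 𝕗 a a = 0
      · exact hI i j a B hij ha hB hta (by rw [hBB, hta, neg_zero])
      · exact hA i j a B hij ha hB hta (by rw [hBB, add_neg_cancel])
    have hxB : 𝕗 x B = c - 𝕗 a a := by
      rw [← h.form_comp_left hB x, h.unitary.herm, hBf, map_sub, map_neg, self_fixed h.unitary]
      linear_combination -hc
    have hxw : 𝕗 x (a + B) = c := by
      rw [Unitary.add_right' h.unitary, hxB, ← h.form_comp_left ha x, ← hadef]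
      ring
    obtain ⟨u, hudef⟩ : ∃ u, u = x - (a + B) := ⟨_, rfl⟩
    obtain ⟨p1, p2, p3⟩ := comp_pair hij ha hB
    have hlt : (N u).card < m := by
      rw [← hm]
      refine lt_of_le_of_lt (Finset.card_le_card (t := (N x).erase i) fun l hl => ?_)
        (Finset.card_erase_lt_of_mem hi)
      rw [hN, Finset.mem_filter, hudef, comp_sub] at hl
      rw [Finset.mem_erase]
      refine ⟨fun e => hl.2 (by rw [e, p1, hadef, sub_self]), ?_⟩
      by_cases hlj : l = j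
      · rw [hlj]; exact hj
      rw [hN, Finset.mem_filter]
      refine ⟨Finset.mem_univ _, fun e => hl.2 ?_⟩
      by_cases hli : l = i
      · rw [hli, p1, hadef, sub_self]
      rw [e, p3 l hli hlj, sub_zero]
    have huu : 𝕗 u u = 0 := by
      rw [hudef, Unitary.sub_left' h.unitary, Unitary.sub_right' h.unitary, Unitary.sub_right' h.unitary, hxx, hxw,
        h.unitary.herm (a + B) x, hxw, hw.1]
      linear_combination -hc
    have huw : 𝕗 u (a + B) = c := by rw [hudef, Unitary.sub_left' h.unitary, hxw, hw.1, sub_zero]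
    have hci : c⁻¹ + σ c⁻¹ = 0 := by
      have hσc : σ c = -c := by linear_combination hc
      rw [map_inv₀, hσc, inv_neg, add_neg_cancel]
    have := uT_add_smul h.unitary (ih _ hlt u rfl huu) hw.1 hci (hw.2 _ hci)
    rwa [huw, inv_mul_cancel₀ hc0, one_smul, hudef, sub_add_cancel] at this

end CfsgLib.Classical22.UDecomp
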