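/-
Monomial overgroups: from one full centre with a zero coordinate to every centre.
-/
import Cfsg.Agent.Lib.Classical22.UDecomp.Coord

set_option autoImplicit false

namespace CfsgLib.Classical22.UDecomp

open Matrix CfsgLib.Transvec CfsgLib.Transvec.Unitary CfsgLib.Classical22.Monomial
open scoped MatrixGroups

variable {F : Type*} [Field F] [Fintype F] {σ : F ≃+* F} {q n : ℕ} {M : Subgroup (GL (Fin n) F)}

local notation "𝕗" => Cfsg.hermForm n F q

/-- Two non-trivial norm-one scalars with a prescribed skewness. -/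
lemma QField.exists_two_phases (h : QField σ q) (hq : 3 ≤ q) {t s : F} (ht : σ t = t) (hs : σ s = s) (ht0 : t ≠ 0)
    (hs0 : s ≠ 0) : ∃ l m : F, l * σ l = 1 ∧ m * σ m = 1 ∧ l ≠ 1 ∧ m ≠ 1 ∧
      (t * (σ l - 1) + s * (σ m - 1)) + σ (t * (σ l - 1) + s * (σ m - 1)) = 0 ∧
      t * (σ l - 1) + s * (σ m - 1) ≠ 0 := by
  classical
  have hpm : ∃ l : F, l * σ l = 1 ∧ l ≠ 1 ∧ σ l ≠ l := by
    obtain ⟨l, hl, hlS⟩ := h.exists_norm_one_notMem (S := ({1, -1} : Finset F))
      (Finset.card_le_two.trans (by omega))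
    rw [Finset.mem_insert, Finset.mem_singleton, not_or] at hlS
    refine ⟨l, hl, hlS.1, fun he => ?_⟩
    rw [he] at hl
    exact (mul_self_eq_one_iff.mp hl).elim hlS.1 hlS.2
  by_cases hts : t + s = 0
  · obtain ⟨l, hl, hl1, hlσ⟩ := hpm
    have hs' : s = -t := by linear_combination hts
    refine ⟨l, σ l, hl, by rw [h.inv, mul_comm]; exact hl, hl1, fun he => hl1 ?_, ?_, fun he => hlσ ?_⟩
    · rw [← h.inv l, he, map_one]
    · rw [hs', map_add, map_mul, map_mul, map_sub, map_sub, map_one, h.inv, map_neg, ht]; ring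
    · rw [hs', h.inv] at he
      have : t * (σ l - l) = 0 := by linear_combination he
      exact sub_eq_zero.mp ((mul_eq_zero.mp this).resolve_left ht0)
  obtain ⟨N, hN⟩ : ∃ N, N = (Finset.univ.filter fun l : F => l * σ l = 1).erase 1 := ⟨_, rfl⟩
  have hNc : q ≤ N.card := by
    rw [hN, Finset.card_erase_of_mem (by simp)]
    have := h.card_norm_one
    omega
  have hmemN : ∀ {l}, l ∈ N → l * σ l = 1 ∧ l ≠ 1 := fun {l} hl => by
    rw [hN, Finset.mem_erase, Finset.mem_filter] at hl; exact ⟨hl.2.2, hl.1⟩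
  have himg : q ≤ 2 * (N.image fun l => l + σ l).card := by
    refine le_trans hNc (Finset.card_le_mul_card_image _ 2 fun b hb => ?_)
    obtain ⟨l, hl, rfl⟩ := Finset.mem_image.mp hb
    refine le_trans (Finset.card_le_card (t := {l, σ l}) fun l' hl' => ?_) Finset.card_le_two
    rw [Finset.mem_filter] at hl'
    have h1 := (hmemN hl).1
    have h2 := (hmemN hl'.1).1
    have hz : (l' - l) * (l' - σ l) = 0 := by linear_combination h1 - h2 + l' * hl'.2
    rw [Finset.mem_insert, Finset.mem_singleton]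
    exact (mul_eq_zero.mp hz).imp sub_eq_zero.mp sub_eq_zero.mp
  obtain ⟨A, hA⟩ : ∃ A : Finset F, A = N.image fun l => l + σ l := ⟨_, rfl⟩
  rw [← hA] at himg
  have htwo : ∀ {l : F}, l ∈ N → l + σ l ≠ 2 := fun {l} hl he => by
    obtain ⟨h1, h2⟩ := hmemN hl
    have hz : (l - 1) * (l - 1) = 0 := by linear_combination -h1 + l * he
    exact h2 (sub_eq_zero.mp ((mul_eq_zero.mp hz).elim id id))
  have hAK : A ⊆ (Finset.univ.filter fun r : F => σ r = r).erase 2 := fun x hx => by
    rw [hA, Finset.mem_image] at hx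
    obtain ⟨l, hl, rfl⟩ := hx
    simp [h.inv, add_comm, htwo hl]
  obtain ⟨B, hB⟩ : ∃ B : Finset F, B = A.image fun x => 2 - t / s * (x - 2) := ⟨_, rfl⟩
  have hBK : B ⊆ (Finset.univ.filter fun r : F => σ r = r).erase 2 := fun x hx => by
    rw [hB, Finset.mem_image] at hx
    obtain ⟨y, hy, rfl⟩ := hx
    have hy' := hAK hy
    simp only [Finset.mem_erase, Finset.mem_filter, Finset.mem_univ, true_and] at hy' ⊢
    refine ⟨fun he => hy'.1 ?_, by rw [map_sub, map_ofNat, map_mul, map_div₀, map_sub, map_ofNat, ht, hs, hy'.2]⟩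
    have : t / s * (y - 2) = 0 := by linear_combination -he
    exact sub_eq_zero.mp ((mul_eq_zero.mp this).resolve_left (div_ne_zero ht0 hs0))
  obtain ⟨x, hx⟩ : (A ∩ B).Nonempty := by
    rw [← Finset.card_pos]
    have h1 := Finset.card_union_add_card_inter A B
    have h2 := Finset.card_le_card (Finset.union_subset hAK hBK)
    have h2mem : (2 : F) ∈ Finset.univ.filter fun r : F => σ r = r :=
      Finset.mem_filter.mpr ⟨Finset.mem_univ _, map_ofNat σ 2⟩
    rw [Finset.card_erase_of_mem h2mem] at h2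
    have h3 : B.card = A.card := by
      rw [hB]
      refine Finset.card_image_of_injective _ fun u v huv => ?_
      have : t / s * (u - v) = 0 := by linear_combination -huv
      exact sub_eq_zero.mp ((mul_eq_zero.mp this).resolve_left (div_ne_zero ht0 hs0))
    have := h.card_fixed_le
    omega
  rw [Finset.mem_inter, hB, Finset.mem_image] at hx
  obtain ⟨y, hy, hyx⟩ := hx.2
  rw [hA, Finset.mem_image] at hy
  obtain ⟨l, hl, rfl⟩ := hy
  have hx1 := hx.1
  rw [hA, Finset.mem_image] at hx1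
  obtain ⟨m, hm, rfl⟩ := hx1
  obtain ⟨hl1, hl2⟩ := hmemN hl
  obtain ⟨hm1, hm2⟩ := hmemN hm
  have hrel : t * (l + σ l - 2) + s * (m + σ m - 2) = 0 := by
    rw [← hyx]; field_simp; ring
  have hskew : ∀ {l m : F}, t * (l + σ l - 2) + s * (m + σ m - 2) = 0 →
      (t * (σ l - 1) + s * (σ m - 1)) + σ (t * (σ l - 1) + s * (σ m - 1)) = 0 := fun {l m} hr => by
    rw [map_add, map_mul, map_mul, map_sub, map_sub, map_one, h.inv, h.inv, ht, hs]; linear_combination hr
  by_cases hδ : t * (σ l - 1) + s * (σ m - 1) = 0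
  · refine ⟨l, σ m, hl1, by rw [h.inv, mul_comm]; exact hm1, hl2, fun he => hm2 (by rw [← h.inv m, he, map_one]),
      hskew (by rw [h.inv]; linear_combination hrel), fun he => hts ?_⟩
    rw [h.inv] at he
    have hσm : σ m = m := by
      have : s * (σ m - m) = 0 := by linear_combination hδ - he
      exact sub_eq_zero.mp ((mul_eq_zero.mp this).resolve_left hs0)
    rw [hσm] at hm1 hδ
    have hm' : m = -1 := (mul_self_eq_one_iff.mp hm1).resolve_left hm2
    rw [hm'] at hδ hrel hσm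
    have hσl : σ l = l := by
      have : t * (σ l - l) = 0 := by rw [hσm] at hrel; linear_combination 2 * hδ - hrel
      exact sub_eq_zero.mp ((mul_eq_zero.mp this).resolve_left ht0)
    rw [hσl] at hl1 hδ
    rw [(mul_self_eq_one_iff.mp hl1).resolve_left hl2] at hδ
    have h2 : (2 : F) ≠ 0 := fun h2 => hm2 (by rw [hm']; linear_combination -h2)
    exact (mul_eq_zero.mp (by linear_combination -hδ : (2 : F) * (t + s) = 0)).resolve_left h2
  · exact ⟨l, m, hl1, hm1, hl2, hm2, hskew hrel, hδ⟩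

variable (hM : ∀ g : GL (Fin n) F, Iso (Cfsg.hermForm n F q) g → (g : Matrix (Fin n) (Fin n) F).det = 1 →
  IsMono g → g ∈ M)

include hM

/-- From a full vector with a zero coordinate to one supported in two coordinates. -/
lemma exists_full_pair (h : QField σ q) (hq : 3 ≤ q) {u : Fin n → F} (hu : UFull σ 𝕗 M u) (hu0 : u ≠ 0)
    {z : Fin n} (hz : u z = 0) :
    ∃ w, UFull σ 𝕗 M w ∧ ∃ i j, i ≠ j ∧ w i ≠ 0 ∧ w j ≠ 0 ∧ ∀ k, k ≠ i → k ≠ j → w k = 0 := by
  classical
  obtain ⟨i, hi⟩ := Function.ne_iff.mp hu0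
  obtain ⟨j, hji, hj⟩ : ∃ j, j ≠ i ∧ u j ≠ 0 := by
    by_contra hc
    push Not at hc
    have h1 := hu.1
    rw [h.form_self, Finset.sum_eq_single i (fun k _ hk => by rw [hc k hk, zero_mul])
      (fun hh => absurd (Finset.mem_univ i) hh)] at h1
    exact mul_ne_zero hi ((map_ne_zero_iff _ σ.injective).mpr hi) h1
  have hiz : i ≠ z := fun e => hi (e ▸ hz)
  have hjz : j ≠ z := fun e => hj (e ▸ hz)
  have hN : ∀ a : F, σ (a * σ a) = a * σ a := fun a => by rw [map_mul, h.inv, mul_comm]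
  obtain ⟨l, m, hl, hm, hl1, hm1, hδ, hδ0⟩ := h.exists_two_phases hq (hN (u i)) (hN (u j))
    (mul_ne_zero hi ((map_ne_zero_iff _ σ.injective).mpr hi)) (mul_ne_zero hj ((map_ne_zero_iff _ σ.injective).mpr hj))
  obtain ⟨g, hgi, hgd, hgm, cz, hcz, hg⟩ := h.exists_mono 1 (fun k => if k = i then l else if k = j then m else 1)
    (fun k => by split_ifs <;> simp [hl, hm]) z
  obtain ⟨u', hu'⟩ : ∃ u', u' = (g : Matrix (Fin n) (Fin n) F) *ᵥ u := ⟨_, rfl⟩
  have hu'k : ∀ k, u' k = if k = i then l * u k else if k = j then m * u k else u k := by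
    intro k
    have := hg u k
    rw [Equiv.Perm.one_apply] at this
    rw [hu', this]
    by_cases hk : k = z
    · subst hk; simp [hz, Ne.symm hiz, Ne.symm hjz]
    · rw [if_neg hk]
      split_ifs <;> simp
  have hu'f : UFull σ 𝕗 M u' := hu' ▸ ufull_conj h.unitary (hM g hgi hgd hgm) hgi hu
  have hform : 𝕗 u u' = u i * σ (u i) * (σ l - 1) + u j * σ (u j) * (σ m - 1) := by
    have h1 : u' - u = fun k => if k = i then (l - 1) * u k else if k = j then (m - 1) * u k else 0 := by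
      funext k
      rw [Pi.sub_apply, hu'k]
      split_ifs <;> ring
    have h2 : 𝕗 u (u' - u) = 𝕗 u u' := by rw [Unitary.sub_right' h.unitary, hu.1, sub_zero]
    rw [← h2, h.unitary.herm, h.form_pair hji.symm (fun k hki hkj => by rw [h1]; simp [hki, hkj]), h1]
    simp only [if_true, if_neg hji, map_add, map_mul, map_sub, map_one, h.inv]
    ring
  rw [← hform] at hδ hδ0
  refine ⟨u - u', ?_, i, j, hji.symm, ?_, ?_, fun k hki hkj => ?_⟩
  · have hc : -(𝕗 u u')⁻¹ + σ (-(𝕗 u u')⁻¹) = 0 := by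
      rw [map_neg, map_inv₀, show σ (𝕗 u u') = -(𝕗 u u') by linear_combination hδ, inv_neg, neg_neg, neg_add_cancel]
    have := uT_add_smul h.unitary hu hu'f.1 hc (hu'f.2 _ hc)
    rwa [neg_mul, inv_mul_cancel₀ hδ0, neg_one_smul, ← sub_eq_add_neg] at this
  · rw [Pi.sub_apply, hu'k, if_pos rfl, ← one_sub_mul]
    exact mul_ne_zero (sub_ne_zero.mpr hl1.symm) hi
  · rw [Pi.sub_apply, hu'k, if_neg hji, if_pos rfl, ← one_sub_mul]
    exact mul_ne_zero (sub_ne_zero.mpr hm1.symm) hj
  · rw [Pi.sub_apply, hu'k, if_neg hki, if_neg hkj, sub_self]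

/-- All isotropic vectors on two coordinates. -/
lemma full_pairs (h : QField σ q) (hn : 3 ≤ n) {w : Fin n → F} (hw : UFull σ 𝕗 M w) {i j : Fin n} (hij : i ≠ j)
    (hwi : w i ≠ 0) (hwj : w j ≠ 0) (hw0 : ∀ k, k ≠ i → k ≠ j → w k = 0) :
    ∀ x : Fin n → F, 𝕗 x x = 0 → ∀ a b, a ≠ b → (∀ k, k ≠ a → k ≠ b → x k = 0) → UFull σ 𝕗 M x := by
  classical
  intro x hx a b hab hx0
  have hσ0 : ∀ {y : F}, y ≠ 0 → σ y ≠ 0 := fun hy => (map_ne_zero_iff _ σ.injective).mpr hy
  have hxab : x a * σ (x a) + x b * σ (x b) = 0 := by rw [← h.form_pair hab hx0 x]; exact hx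
  by_cases hxa : x a = 0
  · have hxb : x b = 0 := by
      rw [hxa, zero_mul, zero_add, mul_eq_zero, map_eq_zero_iff _ σ.injective, or_self] at hxab; exact hxab
    have : x = 0 := funext fun k => by
      by_cases h1 : k = a
      · rw [h1, hxa]; rfl
      by_cases h2 : k = b
      · rw [h2, hxb]; rfl
      exact hx0 k h1 h2
    have hz := ufull_smul h.unitary hw 0
    rwa [zero_smul, ← this] at hz
  have hwij : w i * σ (w i) + w j * σ (w j) = 0 := by rw [← h.form_pair hij hw0 w]; exact hw.1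
  obtain ⟨c, hc⟩ := exists_norm_eq h.ne h.inv (b := x a * σ (x a) / (w i * σ (w i)))
    (by rw [map_div₀, map_mul, map_mul, h.inv, h.inv, mul_comm (σ (x a)), mul_comm (σ (w i))])
  rw [eq_div_iff (mul_ne_zero hwi (hσ0 hwi))] at hc
  have hc0 : c ≠ 0 := fun h0 => by
    rw [h0] at hc; exact mul_ne_zero hxa (hσ0 hxa) (by linear_combination -hc)
  obtain ⟨k₀, hki, hkj⟩ : ∃ k, k ≠ i ∧ k ≠ j := by
    by_contra hh
    push Not at hh
    have := Finset.card_le_card (show (Finset.univ : Finset (Fin n)) ⊆ {i, j} from fun k _ => by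
      by_cases h1 : k = i
      · simp [h1]
      · simp [hh k h1])
    rw [Finset.card_univ, Fintype.card_fin] at this
    have := this.trans Finset.card_le_two
    omega
  obtain ⟨π, hπi, hπj⟩ := exists_perm_pair hij hab
  have hb' : x b * σ (x b) = c * σ c * (w j * σ (w j)) := by linear_combination hxab - (c * σ c) * hwij + hc
  obtain ⟨g, hgi, hgd, hgm, cz, hcz, hg⟩ := h.exists_mono π
    (fun k => if k = i then x a / (c * w i) else if k = j then x b / (c * w j) else 1) (fun k => by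
      split_ifs
      · rw [map_div₀, map_mul, div_mul_div_comm, div_eq_one_iff_eq (mul_ne_zero (mul_ne_zero hc0 hwi)
          (mul_ne_zero (hσ0 hc0) (hσ0 hwi)))]
        linear_combination -hc
      · rw [map_div₀, map_mul, div_mul_div_comm, div_eq_one_iff_eq (mul_ne_zero (mul_ne_zero hc0 hwj)
          (mul_ne_zero (hσ0 hc0) (hσ0 hwj)))]
        linear_combination hb'
      · rw [map_one, one_mul]) k₀
  have hfull := ufull_conj h.unitary (hM g hgi hgd hgm) hgi (ufull_smul h.unitary hw c)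
  convert hfull using 1
  funext l
  obtain ⟨k, rfl⟩ := π.surjective l
  rw [hg _ k, Pi.smul_apply, smul_eq_mul]
  by_cases hk1 : k = i
  · rw [hk1, if_neg hki.symm, if_pos rfl, hπi]; field_simp
  by_cases hk2 : k = j
  · rw [hk2, if_neg hkj.symm, if_neg hij.symm, if_pos rfl, hπj]; field_simp
  rw [hw0 k hk1 hk2, mul_zero, mul_zero]
  exact hx0 _ (fun e => hk1 (π.injective (e.trans hπi.symm))) (fun e => hk2 (π.injective (e.trans hπj.symm)))

omit hM in
/-- One move inside a pair of coordinates. -/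
lemma pair_move (h : QField σ q)
    (hpairs : ∀ x : Fin n → F, 𝕗 x x = 0 → ∀ a b, a ≠ b → (∀ k, k ≠ a → k ≠ b → x k = 0) → UFull σ 𝕗 M x)
    {x z : Fin n → F} (hz : UFull σ 𝕗 M z) (hx : 𝕗 x x = 0) {a b : Fin n} (hab : a ≠ b)
    (heq : ∀ k, k ≠ a → k ≠ b → z k = x k) (hskew : 𝕗 x z + σ (𝕗 x z) = 0) (h0 : 𝕗 x z ≠ 0) :
    UFull σ 𝕗 M x := by
  have hd : 𝕗 (z - x) (z - x) = 0 := by
    rw [Unitary.sub_left' h.unitary, Unitary.sub_right' h.unitary, Unitary.sub_right' h.unitary, hz.1, hx,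
      h.unitary.herm z x]
    linear_combination -hskew
  have hdf := hpairs _ hd a b hab (fun k hka hkb => by rw [Pi.sub_apply, heq k hka hkb, sub_self])
  have hc : -(𝕗 x z)⁻¹ + σ (-(𝕗 x z)⁻¹) = 0 := by
    rw [map_neg, map_inv₀, show σ (𝕗 x z) = -(𝕗 x z) by linear_combination hskew, inv_neg, neg_neg, neg_add_cancel]
  have h1 := uT_add_smul h.unitary hz hd hc (hdf.2 _ hc)
  have h2 : 𝕗 z (z - x) = 𝕗 x z := by
    rw [Unitary.sub_right' h.unitary, hz.1, h.unitary.herm z x]; linear_combination -hskew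
  rwa [h2, neg_mul, inv_mul_cancel₀ h0, neg_one_smul, ← sub_eq_add_neg, sub_sub_cancel] at h1

omit hM in
/-- A pair of coordinates with non-zero norm sum reduces the support. -/
lemma full_of_pair_sum (h : QField σ q)
    (hpairs : ∀ x : Fin n → F, 𝕗 x x = 0 → ∀ a b, a ≠ b → (∀ k, k ≠ a → k ≠ b → x k = 0) → UFull σ 𝕗 M x)
    {x : Fin n → F} (hx : 𝕗 x x = 0)
    (hsmall : ∀ y, 𝕗 y y = 0 → (csupp y).card < (csupp x).card → UFull σ 𝕗 M y)
    {i j : Fin n} (hij : i ≠ j) (hi : x i ≠ 0) (hj : x j ≠ 0)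
    (hsum : x i * σ (x i) + x j * σ (x j) ≠ 0) : UFull σ 𝕗 M x := by
  classical
  obtain ⟨t, ht⟩ : ∃ t, t = x i * σ (x i) := ⟨_, rfl⟩
  obtain ⟨s, hs⟩ : ∃ s, s = x j * σ (x j) := ⟨_, rfl⟩
  obtain ⟨T, hT⟩ : ∃ T, T = t + s := ⟨_, rfl⟩
  rw [← ht, ← hs, ← hT] at hsum
  have hσ0 : ∀ {y : F}, y ≠ 0 → σ y ≠ 0 := fun hy => (map_ne_zero_iff _ σ.injective).mpr hy
  have ht0 : t ≠ 0 := ht ▸ mul_ne_zero hi (hσ0 hi)
  have hs0 : s ≠ 0 := hs ▸ mul_ne_zero hj (hσ0 hj)
  have hσt : σ t = t := by rw [ht, map_mul, h.inv, mul_comm]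
  have hσs : σ s = s := by rw [hs, map_mul, h.inv, mul_comm]
  have hσT : σ T = T := by rw [hT, map_add, hσt, hσs]
  -- forms of replacements
  have hrep : ∀ (y : Fin n → F) (a b : F), 𝕗 y y = 0 →
      𝕗 y (Function.update (Function.update y i a) j b) =
          y i * σ a + y j * σ b - (y i * σ (y i) + y j * σ (y j)) ∧
      𝕗 (Function.update (Function.update y i a) j b) (Function.update (Function.update y i a) j b) =
          a * σ a + b * σ b - (y i * σ (y i) + y j * σ (y j)) := by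
    intro y a b hy
    obtain ⟨z, hz⟩ : ∃ z, z = Function.update (Function.update y i a) j b := ⟨_, rfl⟩
    have hzi : z i = a := by rw [hz, Function.update_of_ne hij, Function.update_self]
    have hzj : z j = b := by rw [hz, Function.update_self]
    rw [← hz]
    have hd : ∀ k, k ≠ i → k ≠ j → (z - y) k = 0 := fun k h1 h2 => by
      rw [Pi.sub_apply, hz, Function.update_of_ne h2, Function.update_of_ne h1, sub_self]
    have h1 : 𝕗 (z - y) y = (a - y i) * σ (y i) + (b - y j) * σ (y j) := by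
      rw [h.form_pair hij hd, Pi.sub_apply, Pi.sub_apply, hzi, hzj]
    have h2 : 𝕗 (z - y) z = (a - y i) * σ a + (b - y j) * σ b := by
      rw [h.form_pair hij hd, Pi.sub_apply, Pi.sub_apply, hzi, hzj]
    rw [Unitary.sub_left' h.unitary] at h1 h2
    rw [hy, sub_zero] at h1
    have h3 : 𝕗 y z = (σ a - σ (y i)) * y i + (σ b - σ (y j)) * y j := by
      rw [h.unitary.herm, h1]; simp only [map_add, map_mul, map_sub, h.inv]
    exact ⟨by rw [h3]; ring, by linear_combination h2 + h3⟩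
  -- one step
  have hone : ∀ y : Fin n → F, 𝕗 y y = 0 → (∀ k, k ≠ i → k ≠ j → y k = x k) → y i ≠ 0 → y j ≠ 0 →
      y i * σ (y i) + y j * σ (y j) = T → ∀ e, e + σ e = 0 → e * e = y j * σ (y j) * T → UFull σ 𝕗 M y := by
    intro y hy hyx hyi hyj hyT e he he2
    have he0 : e ≠ 0 := fun h0 => by
      rw [h0, zero_mul] at he2; exact mul_ne_zero (mul_ne_zero hyj (hσ0 hyj)) hsum he2.symm
    obtain ⟨a, ha⟩ : ∃ a, a = σ ((T + e) / y i) := ⟨_, rfl⟩
    have hya : y i * σ a = T + e := by rw [ha, h.inv, mul_div_cancel₀ _ hyi]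
    have hσya : σ (y i) * a = T - e := by
      have h3 := congrArg σ hya
      rw [map_mul, h.inv, map_add, hσT] at h3
      linear_combination h3 + he
    have haN : a * σ a = T := by
      apply mul_left_cancel₀ (mul_ne_zero hyi (hσ0 hyi))
      linear_combination (σ (y i) * a) * hya + (T + e) * hσya - he2 + T * (-hyT)
    obtain ⟨hf1, hf2⟩ := hrep y a 0 hy
    rw [map_zero, mul_zero, add_zero, hya, hyT, add_sub_cancel_left] at hf1
    rw [map_zero, mul_zero, add_zero, haN, hyT, sub_self] at hf2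
    obtain ⟨z, hz⟩ : ∃ z, z = Function.update (Function.update y i a) j 0 := ⟨_, rfl⟩
    rw [← hz] at hf1 hf2
    have hzf : UFull σ 𝕗 M z := by
      refine hsmall z hf2 (Finset.card_lt_card ⟨fun k hk => ?_, fun hsub => ?_⟩)
      · rw [mem_csupp] at hk ⊢
        by_cases h1 : k = j
        · subst h1; exact absurd (by rw [hz, Function.update_self]) hk
        by_cases h2 : k = i
        · subst h2; exact hi
        rwa [hz, Function.update_of_ne h1, Function.update_of_ne h2, hyx k h2 h1] at hk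
      · have := mem_csupp.mp (hsub (mem_csupp.mpr hj))
        exact this (by rw [hz, Function.update_self])
    exact pair_move h hpairs hzf hy hij
      (fun k h1 h2 => by rw [hz, Function.update_of_ne h2, Function.update_of_ne h1]) (by rw [hf1]; exact he)
      (by rw [hf1]; exact he0)
  by_cases hex : ∃ e, e + σ e = 0 ∧ e * e = s * T
  · obtain ⟨e, he, he2⟩ := hex
    exact hone x hx (fun _ _ _ => rfl) hi hj (by rw [← ht, ← hs, hT]) e he (by rw [← hs]; exact he2)
  have h2 : (2 : F) ≠ 0 := by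
    intro h2
    haveI : CharP F 2 := CharTwo.of_one_ne_zero_of_two_eq_zero one_ne_zero h2
    obtain ⟨r, hr⟩ := FiniteField.isSquare_of_char_two (ringChar.eq_iff.mpr inferInstance) (s * T)
    refine hex ⟨r, ?_, hr.symm⟩
    have h3 : σ r * σ r = r * r := by rw [← map_mul, ← hr, map_mul, hσs, hσT]
    rcases mul_self_eq_mul_self_iff.mp h3 with h4 | h4
    · rw [h4, CharTwo.add_self_eq_zero]
    · rw [h4, add_neg_cancel]
  obtain ⟨c₀, hc0, hc⟩ := exists_skew h.ne h.inv
  have hσc : σ c₀ = -c₀ := by linear_combination hc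
  obtain ⟨e, he⟩ : ∃ e, e = T * c₀ := ⟨_, rfl⟩
  obtain ⟨s', hs'⟩ : ∃ s', s' = T * c₀ ^ 2 := ⟨_, rfl⟩
  obtain ⟨t', ht'⟩ : ∃ t', t' = T - s' := ⟨_, rfl⟩
  have hσs' : σ s' = s' := by rw [hs', map_mul, map_pow, hσT, hσc]; ring
  have hs'0 : s' ≠ 0 := hs' ▸ mul_ne_zero hsum (pow_ne_zero 2 hc0)
  have ht'0 : t' ≠ 0 := by
    intro h0
    have h3 : (1 - c₀) * (1 + c₀) = 0 :=
      (mul_eq_zero.mp (by rw [ht', hs'] at h0; linear_combination h0 : T * ((1 - c₀) * (1 + c₀)) = 0)).resolve_left hsum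
    rcases mul_eq_zero.mp h3 with h4 | h4
    · have : c₀ = 1 := by linear_combination -h4
      rw [this, map_one] at hc; exact h2 (by linear_combination hc)
    · have : c₀ = -1 := by linear_combination h4
      rw [this, map_neg, map_one] at hc; exact h2 (by linear_combination -hc)
  obtain ⟨p, r, hp, hr, hpr⟩ := h.exists_norms_trace (a := t * t') (b := s * s') (C := T + T)
    (by rw [map_mul, ht', map_sub, hσt, hσT, hσs']) (by rw [map_mul, hσs, hσs']) (by rw [map_add, hσT])
    (mul_ne_zero ht0 ht'0) (mul_ne_zero hs0 hs'0)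
  obtain ⟨r', hr', hpr', hne⟩ : ∃ r', r' * σ r' = s * s' ∧ p + σ p + (r' + σ r') = T + T ∧ p + r' ≠ T := by
    by_cases h1 : p + r = T
    · refine ⟨σ r, by rw [h.inv, mul_comm]; exact hr, by rw [h.inv]; linear_combination hpr, fun h3 => hex ?_⟩
      have hrr : σ r = r := by linear_combination h3 - h1
      rw [hrr] at hr
      refine ⟨r / c₀, by rw [map_div₀, hrr, hσc, div_neg, add_neg_cancel], ?_⟩
      rw [div_mul_div_comm, hr, hs']
      field_simp
    · exact ⟨r, hr, hpr, h1⟩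
  obtain ⟨a, ha⟩ : ∃ a, a = σ (p / x i) := ⟨_, rfl⟩
  obtain ⟨b, hb⟩ : ∃ b, b = σ (r' / x j) := ⟨_, rfl⟩
  have hxa : x i * σ a = p := by rw [ha, h.inv, mul_div_cancel₀ _ hi]
  have hxb : x j * σ b = r' := by rw [hb, h.inv, mul_div_cancel₀ _ hj]
  have haN : a * σ a = t' := mul_left_cancel₀ ht0 (by rw [← hp, ← hxa, map_mul, h.inv, ht]; ring)
  have hbN : b * σ b = s' := mul_left_cancel₀ hs0 (by rw [← hr', ← hxb, map_mul, h.inv, hs]; ring)
  obtain ⟨hf1, hf2⟩ := hrep x a b hx
  rw [hxa, hxb, ← ht, ← hs, ← hT] at hf1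
  rw [haN, hbN, ← ht, ← hs, ← hT, ht', sub_add_cancel, sub_self] at hf2
  obtain ⟨z, hz⟩ : ∃ z, z = Function.update (Function.update x i a) j b := ⟨_, rfl⟩
  rw [← hz] at hf1 hf2
  have hzi : z i = a := by rw [hz, Function.update_of_ne hij, Function.update_self]
  have hzj : z j = b := by rw [hz, Function.update_self]
  have hzx : ∀ k, k ≠ i → k ≠ j → z k = x k := fun k h1 h2 => by
    rw [hz, Function.update_of_ne h2, Function.update_of_ne h1]
  have hzf := hone z hf2 hzx (by rw [hzi]; exact left_ne_zero_of_mul (haN.trans_ne ht'0))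
    (by rw [hzj]; exact left_ne_zero_of_mul (hbN.trans_ne hs'0))
    (by rw [hzi, hzj, haN, hbN, ht', sub_add_cancel]) e (by rw [he, map_mul, hσT, hσc]; ring)
    (by rw [hzj, hbN, he, hs']; ring)
  refine pair_move h hpairs hzf hx hij hzx ?_ (by rw [hf1]; exact sub_ne_zero.mpr hne)
  rw [hf1, map_sub, map_add, hσT]
  linear_combination hpr'

/-- Everything is full. -/
theorem one_all_full (h : QField σ q) (hq : 3 ≤ q) (hn : 3 ≤ n) {u : Fin n → F} (hu : UFull σ 𝕗 M u) (hu0 : u ≠ 0)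
    {z₀ : Fin n} (hz₀ : u z₀ = 0) : ∀ x, 𝕗 x x = 0 → UFull σ 𝕗 M x := by
  classical
  obtain ⟨w, hw, i, j, hij, hwi, hwj, hw0⟩ := exists_full_pair hM h hq hu hu0 hz₀
  have hpairs := full_pairs hM h hn hw hij hwi hwj hw0
  suffices key : ∀ m (x : Fin n → F), (csupp x).card = m → 𝕗 x x = 0 → UFull σ 𝕗 M x from
    fun x hx => key _ x rfl hx
  intro m
  induction m using Nat.strong_induction_on with
  | _ m ih =>
    intro x hm hx
    have hσ0 : ∀ {y : F}, y ≠ 0 → σ y ≠ 0 := fun hy => (map_ne_zero_iff _ σ.injective).mpr hy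
    have hsmall : ∀ y : Fin n → F, (csupp y).card ≤ m → ∀ v, 𝕗 v v = 0 → (csupp v).card < (csupp y).card →
        UFull σ 𝕗 M v := fun y hy v hv hlt => ih _ (lt_of_lt_of_le hlt hy) v rfl hv
    by_cases h3 : m ≤ 2
    · have htwo : ∀ k₁ k₂ : Fin n, k₁ ≠ k₂ → csupp x ⊆ {k₁, k₂} → UFull σ 𝕗 M x := fun k₁ k₂ hne hsub =>
        hpairs x hx k₁ k₂ hne fun k h1 h2 => by
          by_contra h0
          simpa [h1, h2] using hsub (mem_csupp.mpr h0)
      interval_cases m
      · refine htwo i j hij ?_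
        rw [Finset.card_eq_zero.mp hm]; exact Finset.empty_subset _
      · obtain ⟨k, hk⟩ := Finset.card_eq_one.mp hm
        obtain ⟨k', hk'⟩ : ∃ k', k' ≠ k := Fintype.exists_ne_of_one_lt_card (by simp; omega) k
        exact htwo k k' hk'.symm (by rw [hk]; simp)
      · obtain ⟨k₁, k₂, hne, hk⟩ := Finset.card_eq_two.mp hm
        exact htwo k₁ k₂ hne (by rw [hk])
    by_cases hex : ∃ a b, a ≠ b ∧ x a ≠ 0 ∧ x b ≠ 0 ∧ x a * σ (x a) + x b * σ (x b) ≠ 0
    · obtain ⟨a, b, hab, ha, hb, hs⟩ := hex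
      exact full_of_pair_sum h hpairs hx (hsmall x hm.le) hab ha hb hs
    push Not at hex
    obtain ⟨a, ha, b, hb, c, hc, hab, hac, hbc⟩ : ∃ a ∈ csupp x, ∃ b ∈ csupp x, ∃ c ∈ csupp x,
        a ≠ b ∧ a ≠ c ∧ b ≠ c := Finset.two_lt_card.mp (by omega)
    rw [mem_csupp] at ha hb hc
    obtain ⟨t, ht⟩ : ∃ t, t = x a * σ (x a) := ⟨_, rfl⟩
    have ht0 : t ≠ 0 := ht ▸ mul_ne_zero ha (hσ0 ha)
    have e1 := hex a b hab ha hb
    have e2 := hex a c hac ha hc
    have e3 := hex b c hbc hb hc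
    rw [← ht] at e1 e2
    have h2 : (2 : F) = 0 :=
      (mul_eq_zero.mp (by linear_combination e1 + e2 - e3 : (2 : F) * t = 0)).resolve_right ht0
    haveI : CharP F 2 := CharTwo.of_one_ne_zero_of_two_eq_zero one_ne_zero h2
    have htb : x b * σ (x b) = t := by linear_combination e1 - t * h2
    have htc : x c * σ (x c) = t := by linear_combination e2 - t * h2
    -- a fixed scalar outside the prime field
    obtain ⟨κ, hκ, hκ0, hκ1⟩ : ∃ κ : F, σ κ = κ ∧ κ ≠ 0 ∧ κ ≠ 1 := by
      obtain ⟨A, hA⟩ : ∃ A : Finset F, A = ((Finset.univ.filter fun l : F => l * σ l = 1).image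
          fun l => l + σ l) := ⟨_, rfl⟩
      have h1 := h.lt_two_mul_image (fun l : F => l + σ l) fun l hl => ⟨l, σ l, fun l' hl' he => by
        have hz : (l' - l) * (l' - σ l) = 0 := by linear_combination hl - hl' + l' * he
        exact (mul_eq_zero.mp hz).imp sub_eq_zero.mp sub_eq_zero.mp⟩
      rw [← hA] at h1
      by_contra hcon
      push Not at hcon
      by_cases hA2 : A ⊆ {0, 1}
      · have := (Finset.card_le_card hA2).trans Finset.card_le_two
        have hq4 : 4 ≤ q := by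
          by_contra h4
          have hq3 : q = 3 := by omega
          have hc3 : ((3 : ℕ) : F) ^ 2 = 0 := by
            rw [← Nat.cast_pow, ← hq3, ← h.card, Nat.card_eq_fintype_card, FiniteField.cast_card_eq_zero]
          simp at hc3
          exact one_ne_zero (by linear_combination hc3 - h2)
        omega
      · obtain ⟨κ, hκA, hκ⟩ := Finset.not_subset.mp hA2
        rw [Finset.mem_insert, Finset.mem_singleton, not_or] at hκ
        rw [hA, Finset.mem_image] at hκA
        obtain ⟨l, -, rfl⟩ := hκA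
        exact hκ.2 (hcon _ (by rw [map_add, h.inv, add_comm]) hκ.1)
    obtain ⟨ζ, hζ, hζ1⟩ : ∃ ζ : F, ζ * σ ζ = 1 ∧ ζ ≠ 1 := by
      obtain ⟨l, hl, hlS⟩ := h.exists_norm_one_notMem (S := ({1} : Finset F)) (by simp; omega)
      exact ⟨l, hl, by simpa using hlS⟩
    have hτ : ζ + σ ζ ≠ 0 := fun h0 => by
      have hz : (ζ - 1) * (ζ - 1) = 0 := by linear_combination ζ * h0 - hζ - ζ * h2
      exact hζ1 (sub_eq_zero.mp ((mul_eq_zero.mp hz).elim id id))
    obtain ⟨β, hβ⟩ : ∃ β, β = σ (ζ * x a / x b) := ⟨_, rfl⟩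
    have hxβ : x b * σ β = ζ * x a := by rw [hβ, h.inv, mul_div_cancel₀ _ hb]
    have hβN : β * σ β = 1 := by
      rw [hβ, h.inv, map_div₀, map_mul, div_mul_div_comm,
        div_eq_one_iff_eq (mul_ne_zero (hσ0 hb) hb)]
      linear_combination (x a * σ (x a)) * hζ - htb - ht
    obtain ⟨v, hv⟩ : ∃ v : Fin n → F, v = Pi.single a 1 + Pi.single b β := ⟨_, rfl⟩
    have hv0 : ∀ k, k ≠ a → k ≠ b → v k = 0 := fun k h1 h2 => by simp [hv, h1, h2]
    have hva : v a = 1 := by simp [hv, hab]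
    have hvb : v b = β := by simp [hv, hab.symm]
    have hvv : 𝕗 v v = 0 := by rw [h.form_pair hab hv0, hva, hvb, map_one, mul_one, hβN]; linear_combination h2
    have hvf := hpairs v hvv a b hab hv0
    have hκs : κ + σ κ = 0 := by rw [hκ]; exact CharTwo.add_self_eq_zero κ
    obtain ⟨y, hy⟩ : ∃ y, y = (uT 𝕗 v κ : Matrix (Fin n) (Fin n) F) *ᵥ x := ⟨_, rfl⟩
    have hxv : 𝕗 x v = x a * (1 + ζ) := by
      rw [h.unitary.herm, h.form_pair hab hv0, hva, hvb, map_add, map_mul, map_mul, map_one, h.inv, h.inv]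
      linear_combination hxβ
    have hyx : y = x + (κ * (x a * (1 + ζ))) • v := by rw [hy, uT_mulVec h.unitary hvv, hxv]
    have hyy : 𝕗 y y = 0 := by rw [hy, iso_uT h.unitary hvv hκs]; exact hx
    have hyk : ∀ k, k ≠ a → k ≠ b → y k = x k := fun k h1 h2 => by simp [hyx, hv0 k h1 h2]
    have hyle : (csupp y).card ≤ m := by
      rw [← hm]
      refine Finset.card_le_card fun k hk => ?_
      rw [mem_csupp] at hk ⊢
      by_cases h1 : k = a
      · subst h1; exact ha
      by_cases h2 : k = b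
      · subst h2; exact hb
      rwa [hyk k h1 h2] at hk
    have hyf : UFull σ 𝕗 M y := by
      by_cases hya : y a = 0
      · refine ih _ (lt_of_lt_of_le (Finset.card_lt_card ⟨fun k hk => ?_, fun hsub => ?_⟩) hm.le) y rfl hyy
        · rw [mem_csupp] at hk ⊢
          by_cases h1 : k = a
          · subst h1; exact ha
          by_cases h2 : k = b
          · subst h2; exact hb
          rwa [hyk k h1 h2] at hk
        · exact mem_csupp.mp (hsub (mem_csupp.mpr ha)) hya
      · refine full_of_pair_sum h hpairs hyy (hsmall y hyle) hac hya (by rw [hyk c hac.symm hbc.symm]; exact hc) ?_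
        rw [hyk c hac.symm hbc.symm, htc]
        have hya' : y a = x a * (1 + κ * (1 + ζ)) := by simp [hyx, hva]; ring
        rw [hya', map_mul, map_add, map_one, map_mul, map_add, map_one, hκ]
        intro h0
        have h4 : t * ((κ * (κ + 1)) * (ζ + σ ζ)) = 0 := by
          linear_combination h0 + (1 + κ * (1 + ζ)) * (1 + κ * (1 + σ ζ)) * ht - (κ ^ 2 * t) * hζ
            - (t + κ * t + κ ^ 2 * t) * h2
        refine hτ (((mul_eq_zero.mp h4).resolve_left ht0 |> mul_eq_zero.mp).resolve_left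
          (mul_ne_zero hκ0 fun h5 => hκ1 ?_))
        linear_combination h5 - h2
    have hz := ufull_conj h.unitary (M.inv_mem (hvf.2 κ hκs)) (iso_uT h.unitary hvv hκs).inv hyf
    rwa [hy, inv_mulVec_cancel] at hz

end CfsgLib.Classical22.UDecomp
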