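/-
Monomial overgroups in characteristic two.
-/
import Cfsg.Agent.Lib.Classical22.UDecomp.OneClosure
import Cfsg.Agent.Lib.RankOneSetup.Basic

set_option autoImplicit false

namespace CfsgLib.Classical22.UDecomp

open Matrix CfsgLib.Transvec CfsgLib.Transvec.Unitary CfsgLib.Classical22.Monomial
open scoped MatrixGroups

variable {F : Type*} [Field F] [Fintype F] {σ : F ≃+* F} {q n : ℕ} {M : Subgroup (GL (Fin n) F)}

local notation "𝕗" => Cfsg.hermForm n F q
local notation:max "𝕖" i:max => (Pi.single i 1 : Fin n → F)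

omit [Fintype F] in
lemma neg_eq_two (h2 : (2 : F) = 0) (x : F) : -x = x := by linear_combination (-x) * h2

/-- The isotropic vector on two coordinates. -/
lemma pair_vec (h : QField σ q) (h2 : (2 : F) = 0) {i j : Fin n} (hij : i ≠ j) {y : F} (hy : y * σ y = 1) :
    𝕗 (𝕖 i + Pi.single j y) (𝕖 i + Pi.single j y) = 0 := by
  rw [h.form_pair hij (fun k h1 h3 => by simp [h1, h3])]
  simp [hij, hij.symm, hy]
  linear_combination h2

/-- Its transvection with value one is monomial. -/
lemma pair_transvection (h : QField σ q) (h2 : (2 : F) = 0) {i j : Fin n} (hij : i ≠ j) {y : F}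
    (hy : y * σ y = 1) :
    IsMono (uT 𝕗 (𝕖 i + Pi.single j y) 1) := by
  intro c
  refine ⟨Equiv.swap i j c, fun r hr => ?_⟩
  have e := congrFun (uT_mulVec h.unitary (pair_vec h h2 hij hy) 1 (𝕖 c)) r
  rw [Matrix.mulVec_single_one] at e
  rw [show ((uT 𝕗 (𝕖 i + Pi.single j y) 1 : GL (Fin n) F) : Matrix (Fin n) (Fin n) F) r c = _ from e,
    hermForm_single h.pow]
  by_cases hci : c = i
  · subst hci
    rw [Equiv.swap_apply_left] at hr
    by_cases hrc : r = c
    · subst hrc; simp [hij]; linear_combination h2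
    · simp [hij, hr, hrc]
  by_cases hcj : c = j
  · subst hcj
    rw [Equiv.swap_apply_right] at hr
    by_cases hrc : r = c
    · subst hrc; simp [hij.symm]; linear_combination hy + h2
    · simp [hij.symm, hr, hrc]
  rw [Equiv.swap_apply_of_ne_of_ne hci hcj] at hr
  simp [hci, hcj, hr]

variable (hH : ∀ g ∈ M, Iso (Cfsg.hermForm n F q) g ∧ (g : Matrix (Fin n) (Fin n) F).det = 1)
variable (hM : ∀ g : GL (Fin n) F, Iso (Cfsg.hermForm n F q) g → (g : Matrix (Fin n) (Fin n) F).det = 1 →
  IsMono g → g ∈ M)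

include hM

lemma pair_transvection_mem (h : QField σ q) (h2 : (2 : F) = 0) {i j : Fin n} (hij : i ≠ j) {y : F}
    (hy : y * σ y = 1) : uT 𝕗 (𝕖 i + Pi.single j y) 1 ∈ M :=
  hM _ (iso_uT h.unitary (pair_vec h h2 hij hy) (by rw [map_one]; linear_combination h2))
    ((mem_specialLinear_iff _).mp (transv_mem_specialLinear _ _)) (pair_transvection h h2 hij hy)

include hH

/-- An element outside gives a transvection of value one with at least three coordinates. -/
lemma exists_wide (h : QField σ q) (h2 : (2 : F) = 0) (hn : 4 ≤ n) {g : GL (Fin n) F} (hg : g ∈ M)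
    (hgm : ¬ IsMono g) : ∃ u, 𝕗 u u = 0 ∧ uT 𝕗 u 1 ∈ M ∧ 3 ≤ (csupp u).card := by
  classical
  by_contra hcon
  push Not at hcon
  obtain ⟨Z, hZ⟩ : ∃ Z : Finset F, Z = Finset.univ.filter fun l => l * σ l = 1 := ⟨_, rfl⟩
  have hZc : 3 ≤ Z.card := by
    have h1 := h.card_norm_one
    have h3 := h.two_le
    rw [hZ]; omega
  have hpair : ∀ i j : Fin n, i ≠ j →
      (csupp ((g : Matrix (Fin n) (Fin n) F) *ᵥ 𝕖 i) ∪ csupp ((g : Matrix (Fin n) (Fin n) F) *ᵥ 𝕖 j)).card ≤ 2 ∨
      (csupp ((g : Matrix (Fin n) (Fin n) F) *ᵥ 𝕖 i) ∪ csupp ((g : Matrix (Fin n) (Fin n) F) *ᵥ 𝕖 j)).card ≤ 3 ∧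
      csupp ((g : Matrix (Fin n) (Fin n) F) *ᵥ 𝕖 i) = csupp ((g : Matrix (Fin n) (Fin n) F) *ᵥ 𝕖 j) := by
    intro i j hij
    obtain ⟨A, hA⟩ : ∃ A, A = (g : Matrix (Fin n) (Fin n) F) *ᵥ 𝕖 i := ⟨_, rfl⟩
    obtain ⟨B, hB⟩ : ∃ B, B = (g : Matrix (Fin n) (Fin n) F) *ᵥ 𝕖 j := ⟨_, rfl⟩
    rw [← hA, ← hB]
    have hsmall : ∀ z ∈ Z, (csupp (A + z • B)).card ≤ 2 := by
      intro z hz
      have hz1 : z * σ z = 1 := by rw [hZ, Finset.mem_filter] at hz; exact hz.2
      have hv := pair_vec h h2 hij hz1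
      obtain ⟨hgi, -⟩ := hH g hg
      have hmem := M.mul_mem (M.mul_mem hg (pair_transvection_mem hM h h2 hij hz1)) (M.inv_mem hg)
      rw [conj_uT h.unitary hgi hv] at hmem
      have e : (g : Matrix (Fin n) (Fin n) F) *ᵥ (𝕖 i + Pi.single j z) = A + z • B := by
        rw [mulVec_add, show (Pi.single j z : Fin n → F) = z • 𝕖 j by rw [← Pi.single_smul, smul_eq_mul, mul_one],
          mulVec_smul, hA, hB]
      rw [e] at hmem
      have := hcon (A + z • B) (by rw [← e, hgi, hv]) hmem
      omega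
    obtain ⟨U, hU⟩ : ∃ U, U = csupp A ∪ csupp B := ⟨_, rfl⟩
    obtain ⟨I, hI⟩ : ∃ I, I = csupp A ∩ csupp B := ⟨_, rfl⟩
    -- double counting
    have hcount : Z.card * U.card ≤ 2 * Z.card + I.card := by
      have h1 : ∀ l ∈ U, Z.card ≤ (Z.filter fun z => (A + z • B) l ≠ 0).card + if l ∈ I then 1 else 0 := by
        intro l hl
        rw [← Finset.card_filter_add_card_filter_not (s := Z) (fun z => (A + z • B) l ≠ 0)]
        refine Nat.add_le_add_left ?_ _
        split_ifs with hlI
        · refine Finset.card_le_one.mpr fun z hz z' hz' => ?_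
          simp only [Finset.mem_filter, not_not, Pi.add_apply, Pi.smul_apply, smul_eq_mul] at hz hz'
          rw [hI, Finset.mem_inter, mem_csupp, mem_csupp] at hlI
          exact mul_right_cancel₀ hlI.2 (by linear_combination hz.2 - hz'.2)
        · rw [Nat.le_zero, Finset.card_eq_zero, Finset.filter_eq_empty_iff]
          intro z hz
          rw [not_not, Pi.add_apply, Pi.smul_apply, smul_eq_mul]
          rw [hU, Finset.mem_union, mem_csupp, mem_csupp] at hl
          rw [hI, Finset.mem_inter, mem_csupp, mem_csupp, not_and_or, not_not, not_not] at hlI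
          have hz0 : z ≠ 0 := ne_zero_of_norm_one (σ := σ) (by rw [hZ, Finset.mem_filter] at hz; exact hz.2)
          rcases hlI with h0 | h0
          · rw [h0, zero_add]; exact mul_ne_zero hz0 (hl.resolve_left (not_not.mpr h0))
          · rw [h0, mul_zero, add_zero]; exact hl.resolve_right (not_not.mpr h0)
      have h3 := Finset.sum_le_sum h1
      rw [Finset.sum_const, smul_eq_mul, Finset.sum_add_distrib, Finset.sum_boole] at h3
      have h4 : ∑ l ∈ U, (Z.filter fun z => (A + z • B) l ≠ 0).card =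
          ∑ z ∈ Z, (U.filter fun l => (A + z • B) l ≠ 0).card := by
        simp only [Finset.card_filter]
        exact Finset.sum_comm
      have h5 : ∑ z ∈ Z, (U.filter fun l => (A + z • B) l ≠ 0).card ≤ ∑ _z ∈ Z, 2 :=
        Finset.sum_le_sum fun z hz => le_trans (Finset.card_le_card fun l hl => by
          rw [mem_csupp]; exact (Finset.mem_filter.mp hl).2) (hsmall z hz)
      rw [Finset.sum_const, smul_eq_mul] at h5
      have h6 : (U.filter fun l => l ∈ I).card ≤ I.card :=
        Finset.card_le_card fun l hl => (Finset.mem_filter.mp hl).2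
      simp only [Nat.cast_id] at h3
      rw [mul_comm Z.card U.card]
      omega
    have hIU : I.card ≤ U.card := Finset.card_le_card (hI ▸ hU ▸ Finset.inter_subset_union)
    rw [← hU]
    by_cases hU2 : U.card ≤ 2
    · exact Or.inl hU2
    have hU3 : U.card ≤ 3 := by
      by_contra h4
      have := Nat.mul_le_mul_left Z.card (Nat.lt_of_not_le h4 : 4 ≤ U.card)
      have := Nat.mul_le_mul_right U.card hZc
      omega
    have hU3' : U.card = 3 := by omega
    rw [hU3'] at hcount
    have hI3 : U.card ≤ I.card := by omega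
    have e : I = U := Finset.eq_of_subset_of_card_le (hI ▸ hU ▸ Finset.inter_subset_union) hI3
    refine Or.inr ⟨hU3, le_antisymm (fun l hl => ?_) (fun l hl => ?_)⟩
    · have hlI : l ∈ I := e ▸ hU ▸ Finset.mem_union_left _ hl
      rw [hI] at hlI; exact (Finset.mem_inter.mp hlI).2
    · have hlI : l ∈ I := e ▸ hU ▸ Finset.mem_union_right _ hl
      rw [hI] at hlI; exact (Finset.mem_inter.mp hlI).1
  obtain ⟨i, hi⟩ : ∃ i, ∀ r, ∃ l, l ≠ r ∧ (g : Matrix (Fin n) (Fin n) F) l i ≠ 0 := by
    by_contra hc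
    push Not at hc
    exact hgm hc
  obtain ⟨P, hP⟩ : ∃ P, P = csupp ((g : Matrix (Fin n) (Fin n) F) *ᵥ 𝕖 i) := ⟨_, rfl⟩
  have hmemP : ∀ {l}, l ∈ P ↔ (g : Matrix (Fin n) (Fin n) F) l i ≠ 0 := fun {l} => by
    rw [hP, mem_csupp, Matrix.mulVec_single_one]; rfl
  have hP2 : 2 ≤ P.card := by
    obtain ⟨l, -, hl⟩ := hi ⟨0, by omega⟩
    obtain ⟨l', hl', hl0⟩ := hi l
    exact Finset.one_lt_card.mpr ⟨l, hmemP.mpr hl, l', hmemP.mpr hl0, hl'.symm⟩
  obtain ⟨j, hji⟩ := Fintype.exists_ne_of_one_lt_card (by simp; omega) i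
  have hP3 : P.card ≤ 3 := by
    rcases hpair i j hji.symm with h1 | h1
    · exact le_trans (Finset.card_le_card Finset.subset_union_left) (h1.trans (by omega)) |>.trans' (hP ▸ le_rfl)
    · exact le_trans (Finset.card_le_card Finset.subset_union_left) h1.1 |>.trans' (hP ▸ le_rfl)
  have hall : ∀ j, csupp ((g : Matrix (Fin n) (Fin n) F) *ᵥ 𝕖 j) ⊆ P := by
    intro j
    by_cases hj : i = j
    · rw [hP, hj]
    rcases hpair i j hj with h1 | h1
    · have e := Finset.eq_of_subset_of_card_le (hP ▸ Finset.subset_union_left :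
        P ⊆ csupp ((g : Matrix (Fin n) (Fin n) F) *ᵥ 𝕖 i) ∪ csupp ((g : Matrix (Fin n) (Fin n) F) *ᵥ 𝕖 j))
        (h1.trans hP2)
      rw [e]; exact Finset.subset_union_right
    · rw [hP, h1.2]
  obtain ⟨l, hl⟩ : ∃ l, l ∉ P := by
    by_contra hh
    push Not at hh
    have := Finset.card_le_card (show (Finset.univ : Finset (Fin n)) ⊆ P from fun k _ => hh k)
    rw [Finset.card_univ, Fintype.card_fin] at this
    omega
  obtain ⟨j', hj'⟩ := row_ne_zero g l
  exact hl (hall j' (by rw [mem_csupp, Matrix.mulVec_single_one]; exact hj'))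

/-- At least four elements in the fixed field: an element outside gives a full centre with a zero coordinate. -/
theorem exists_full_even (h : QField σ q) (h2 : (2 : F) = 0) (hq : 4 ≤ q) (hn : 5 ≤ n) {g : GL (Fin n) F}
    (hg : g ∈ M) (hgm : ¬ IsMono g) : ∃ u k, UFull σ 𝕗 M u ∧ u ≠ 0 ∧ u k = 0 := by
  classical
  obtain ⟨u, huu, huT, hu3⟩ := exists_wide hH hM h h2 (by omega) hg hgm
  have h1s : (1 : F) + σ 1 = 0 := by rw [map_one]; linear_combination h2
  have hσ0 : ∀ {y : F}, y ≠ 0 → σ y ≠ 0 := fun hy => (map_ne_zero_iff _ σ.injective).mpr hy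
  have htorus : ∀ {i j : Fin n}, i ≠ j → ∀ l, l * σ l = 1 → qR 𝕗 (𝕖 i) l * qR 𝕗 (𝕖 j) l⁻¹ ∈ M :=
    fun hij l hl => by obtain ⟨h1, h3, h4⟩ := h.torus_mem_mono hij hl; exact hM _ h1 h3 h4
  have hu0 : u ≠ 0 := fun e => by
    have : csupp u = ∅ := by ext k; simp [mem_csupp, e]
    rw [this] at hu3; simp at hu3
  by_cases hu4 : (csupp u).card ≤ 3
  · obtain ⟨k, hk⟩ : ∃ k, u k = 0 := by
      by_contra hh
      push Not at hh
      have := Finset.card_le_card (show (Finset.univ : Finset (Fin n)) ⊆ csupp u from fun k _ => mem_csupp.mpr (hh k))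
      rw [Finset.card_univ, Fintype.card_fin] at this
      omega
    obtain ⟨i, hi, hi1⟩ : ∃ i, u i ≠ 0 ∧ 1 + u i * σ (u i) ≠ 0 := by
      by_contra hh
      push Not at hh
      have hs := huu
      rw [h.form_self, ← Finset.sum_subset (Finset.subset_univ (csupp u)) (fun l _ hl => by
        rw [mem_csupp, not_not] at hl; rw [hl, zero_mul]), Finset.sum_congr rfl (g := fun _ => (1 : F))
        (fun l hl => by linear_combination hh l (mem_csupp.mp hl) - h2), Finset.sum_const,
        show (csupp u).card = 3 by omega, nsmul_one] at hs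
      exact one_ne_zero (α := F) (by push_cast at hs; linear_combination hs - h2)
    exact ⟨u, k, full_of_single h h.unitary huu (h.form_unit i) (h.form_unit k)
      (h.form_ne fun e => hi (e ▸ hk)) (by rwa [h.form_single_right]) (by rw [h.form_single_right, hk])
      (htorus fun e => hi (e ▸ hk)) h1s one_ne_zero huT
      (Or.inr (by rwa [h.form_single_right, one_mul])), hu0, hk⟩
  obtain ⟨S, hS, hS4⟩ := Finset.exists_subset_card_eq (show 4 ≤ (csupp u).card by omega)
  obtain ⟨i, j, k, l, hij, hik, hil, hjk, hjl, hkl, hSe⟩ := Finset.card_eq_four.mp hS4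
  have hS' : ∀ {r}, r ∈ S → u r ≠ 0 := fun hr => mem_csupp.mp (hS hr)
  have hui : u i ≠ 0 := hS' (by simp [hSe])
  have huj : u j ≠ 0 := hS' (by simp [hSe])
  have huk : u k ≠ 0 := hS' (by simp [hSe])
  have hul : u l ≠ 0 := hS' (by simp [hSe])
  -- values of the pairing with the small vectors
  have hval : ∀ {i j : Fin n}, u i ≠ 0 → u j ≠ 0 → ∀ {T : Finset F}, T.card ≤ 2 → ∃ y : F, y * σ y = 1 ∧
      (u i + u j * σ y) * σ (u i + u j * σ y) ∉ T := by
    intro i j hi hj T hT
    obtain ⟨V, hV⟩ : ∃ V : Finset F, V = ((Finset.univ.filter fun y : F => y * σ y = 1).image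
      fun y => (u i + u j * σ y) * σ (u i + u j * σ y)) := ⟨_, rfl⟩
    have hVc := h.lt_two_mul_image (fun y : F => (u i + u j * σ y) * σ (u i + u j * σ y)) fun y hy =>
      ⟨y, σ y * (u j * σ (u i)) / (σ (u j) * u i), fun y' hy' he => by
        simp only [map_add, map_mul, h.inv] at he
        have hz : (y' - y) * (y' * (σ (u j) * u i) - σ y * (u j * σ (u i))) = 0 := by
          linear_combination y' * he + (u j * σ (u i) + u j * σ (u j) * y') * (hy - hy')
            - (u j * σ (u j) * y') * (hy - hy') + (y' * (u j * σ (u j))) * (hy - hy')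
        rcases mul_eq_zero.mp hz with h0 | h0
        · exact Or.inl (sub_eq_zero.mp h0)
        · exact Or.inr ((eq_div_iff (mul_ne_zero (hσ0 hj) hi)).mpr (sub_eq_zero.mp h0))⟩
    rw [← hV] at hVc
    obtain ⟨v, hv, hvT⟩ := Finset.not_subset.mp (fun hsub : V ⊆ T => by
      have := Finset.card_le_card hsub; omega)
    rw [hV, Finset.mem_image] at hv
    obtain ⟨y, hy, rfl⟩ := hv
    exact ⟨y, (Finset.mem_filter.mp hy).2, hvT⟩
  obtain ⟨y', hy', hb0⟩ := hval huk hul (T := {0}) (by simp)
  obtain ⟨y, hy, hab⟩ := hval hui huj (T := {0, (u k + u l * σ y') * σ (u k + u l * σ y')}) Finset.card_le_two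
  obtain ⟨b, hb⟩ : ∃ b, b = u k + u l * σ y' := ⟨_, rfl⟩
  obtain ⟨a, ha⟩ : ∃ a, a = u i + u j * σ y := ⟨_, rfl⟩
  rw [← hb, Finset.mem_singleton] at hb0
  rw [← ha, ← hb, Finset.mem_insert, Finset.mem_singleton, not_or] at hab
  obtain ⟨v, hv⟩ : ∃ v, v = 𝕖 i + Pi.single j y := ⟨_, rfl⟩
  obtain ⟨v', hv'⟩ : ∃ v', v' = 𝕖 k + Pi.single l y' := ⟨_, rfl⟩
  have hvv : 𝕗 v v = 0 := hv ▸ pair_vec h h2 hij hy
  have hvv' : 𝕗 v' v' = 0 := hv' ▸ pair_vec h h2 hkl hy'
  have hv0 : ∀ r, r ≠ i → r ≠ j → v r = 0 := fun r h1 h3 => by simp [hv, h1, h3]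
  have hvi : v i = 1 := by simp [hv, hij]
  have hvj : v j = y := by simp [hv, hij.symm]
  have hv'0 : ∀ r, r ≠ k → r ≠ l → v' r = 0 := fun r h1 h3 => by simp [hv', h1, h3]
  have hv'k : v' k = 1 := by simp [hv', hkl]
  have hv'l : v' l = y' := by simp [hv', hkl.symm]
  have hperp : 𝕗 v v' = 0 := by
    rw [h.form_pair hij hv0, hv'0 i hik hil, hv'0 j hjk hjl, map_zero, mul_zero, mul_zero, add_zero]
  have hperp' : 𝕗 v' v = 0 := (eq_zero_comm h.unitary).mp hperp
  have huv : 𝕗 u v = a := by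
    rw [h.unitary.herm, h.form_pair hij hv0, hvi, hvj, ha, map_add, map_mul, map_mul, map_one, h.inv, h.inv]
    ring
  have huv' : 𝕗 u v' = b := by
    rw [h.unitary.herm, h.form_pair hkl hv'0, hv'k, hv'l, hb, map_add, map_mul, map_mul, map_one, h.inv, h.inv]
    ring
  have hvu : 𝕗 v u = σ a := by rw [h.unitary.herm, huv]
  have hv'u : 𝕗 v' u = σ b := by rw [h.unitary.herm, huv']
  obtain ⟨t, ht⟩ : ∃ t, t = uT 𝕗 v 1 * uT 𝕗 v' 1 := ⟨_, rfl⟩
  have htM : t ∈ M := by
    rw [ht, hv, hv']
    exact M.mul_mem (pair_transvection_mem hM h h2 hij hy) (pair_transvection_mem hM h h2 hkl hy')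
  have hty : ∀ x, (t : Matrix (Fin n) (Fin n) F) *ᵥ x = x + 𝕗 x v • v + 𝕗 x v' • v' := fun x => by
    rw [ht, mul_mulVec, uT_mulVec h.unitary hvv', uT_mulVec h.unitary hvv, h.unitary.add_left,
      h.unitary.smul_left, hperp']
    module
  have hTy : ∀ x, (uT 𝕗 u 1 : Matrix (Fin n) (Fin n) F) *ᵥ x = x + 𝕗 x u • u := fun x => by
    rw [uT_mulVec h.unitary huu, one_mul]
  have ht2 : t * t = 1 := gl_ext fun x => by
    rw [mul_mulVec, hty, hty, h.unitary.add_left, h.unitary.add_left, h.unitary.smul_left, h.unitary.smul_left,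
      h.unitary.add_left, h.unitary.add_left, h.unitary.smul_left, h.unitary.smul_left, hvv, hvv', hperp, hperp',
      Units.val_one, one_mulVec]
    match_scalars
    · ring
    · linear_combination (𝕗 x v) * h2
    · linear_combination (𝕗 x v') * h2
  have hu2 : uT 𝕗 u 1 * uT 𝕗 u 1 = 1 := by
    rw [uT_mul h.unitary huu, show (1 : F) + 1 = 0 by linear_combination h2, uT_zero h.unitary huu]
  -- the product has even order
  have heven : Even (orderOf (uT 𝕗 u 1 * t)) := by
    rw [← Nat.not_odd_iff_even]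
    intro hodd
    obtain ⟨m, hm⟩ := CfsgLib.RankOneSetup.conj_of_odd_orderOf hu2 ht2 hodd
    obtain ⟨c, hc⟩ : ∃ c, c = (uT 𝕗 u 1 * t) ^ m := ⟨_, rfl⟩
    rw [← hc] at hm
    obtain ⟨hci, -⟩ := hH c (hc ▸ M.pow_mem (M.mul_mem huT htM) m)
    rw [conj_uT h.unitary hci huu] at hm
    obtain ⟨w, hw⟩ : ∃ w, w = (c : Matrix (Fin n) (Fin n) F) *ᵥ u := ⟨_, rfl⟩
    rw [← hw] at hm
    have hww : 𝕗 w w = 0 := by rw [hw, hci, huu]
    have key : ∀ x, 𝕗 x v • v + 𝕗 x v' • v' = 𝕗 x w • w := fun x => by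
      have := hty x
      rw [← hm, uT_mulVec h.unitary hww, one_mul, add_assoc, add_left_cancel_iff] at this
      exact this.symm
    have e1 := key (𝕖 i)
    have e2 := key (𝕖 k)
    rw [hermForm_single h.pow, hermForm_single h.pow, hermForm_single h.pow, hvi, hv'0 i hik hil] at e1
    rw [hermForm_single h.pow, hermForm_single h.pow, hermForm_single h.pow, hv'k,
      hv0 k hik.symm hjk.symm] at e2
    simp only [map_one, map_zero, one_smul, zero_smul, add_zero, zero_add] at e1 e2
    have e3 := congrFun e1 k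
    rw [hv0 k hik.symm hjk.symm, Pi.smul_apply, smul_eq_mul] at e3
    have e4 := congrFun e2 k
    rw [hv'k, Pi.smul_apply, smul_eq_mul] at e4
    rcases mul_eq_zero.mp e3.symm with h0 | h0
    · rw [h0, zero_smul] at e1
      exact one_ne_zero (α := F) (by rw [← hvi, e1]; rfl)
    · exact one_ne_zero (α := F) (by rw [e4, h0, mul_zero])
  -- the common centraliser
  obtain ⟨r, hr⟩ : ∃ r, r = σ b • v - σ a • v' := ⟨_, rfl⟩
  have hru : 𝕗 r u = 0 := by
    rw [hr, Unitary.sub_left' h.unitary, h.unitary.smul_left, h.unitary.smul_left, hvu, hv'u]; ring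
  have hrv : 𝕗 r v = 0 := by
    rw [hr, Unitary.sub_left' h.unitary, h.unitary.smul_left, h.unitary.smul_left, hvv, hperp']; ring
  have hrv' : 𝕗 r v' = 0 := by
    rw [hr, Unitary.sub_left' h.unitary, h.unitary.smul_left, h.unitary.smul_left, hperp, hvv']; ring
  obtain ⟨z, hz1, hz2, hzt, hzu, hzH, hzR, hzr⟩ : ∃ z : GL (Fin n) F, z ≠ 1 ∧ z * z = 1 ∧ z * t = t * z ∧
      z * uT 𝕗 u 1 = uT 𝕗 u 1 * z ∧ z ∈ M ∧
      (∀ x, (z : Matrix (Fin n) (Fin n) F) *ᵥ x - x ∈ Submodule.span F {u, v, v'}) ∧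
      (z : Matrix (Fin n) (Fin n) F) *ᵥ r = r := by
    obtain ⟨R, hR⟩ : ∃ R, R = Submodule.span F ({u, v, v'} : Set (Fin n → F)) := ⟨_, rfl⟩
    rw [← hR]
    let S : Subgroup (GL (Fin n) F) :=
      { carrier := {z | (∀ x, (z : Matrix (Fin n) (Fin n) F) *ᵥ x - x ∈ R) ∧ (z : Matrix (Fin n) (Fin n) F) *ᵥ r = r}
        one_mem' := ⟨fun x => by rw [Units.val_one, one_mulVec, sub_self]; exact R.zero_mem,
          by rw [Units.val_one, one_mulVec]⟩
        mul_mem' := fun {x y} hx hy => ⟨fun w => by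
          have := R.add_mem (hx.1 ((y : Matrix (Fin n) (Fin n) F) *ᵥ w)) (hy.1 w)
          rwa [sub_add_sub_cancel, ← mul_mulVec] at this, by rw [mul_mulVec, hy.2, hx.2]⟩
        inv_mem' := fun {x} hx => ⟨fun w => by
          have := R.neg_mem (hx.1 (((x⁻¹ : GL (Fin n) F) : Matrix (Fin n) (Fin n) F) *ᵥ w))
          rwa [mulVec_inv_cancel, neg_sub] at this, by conv_lhs => rw [← hx.2, inv_mulVec_cancel]⟩ }
    have hmem : ∀ w ∈ ({u, v, v'} : Set (Fin n → F)), w ∈ R := fun w hw => hR ▸ Submodule.subset_span hw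
    have htS : t ∈ S := ⟨fun x => by
      rw [hty, add_assoc, add_sub_cancel_left]
      exact R.add_mem (R.smul_mem _ (hmem _ (by simp))) (R.smul_mem _ (hmem _ (by simp))),
      by rw [hty, hrv, hrv', zero_smul, zero_smul, add_zero, add_zero]⟩
    have huS : uT 𝕗 u 1 ∈ S := ⟨fun x => by
      rw [hTy, add_sub_cancel_left]; exact R.smul_mem _ (hmem _ (by simp)),
      by rw [hTy, hru, zero_smul, add_zero]⟩
    obtain ⟨z, hz1, hz2, hzu, hzt⟩ := CfsgLib.RankOneSetup.exists_commute_of_even_orderOf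
      (G := ↥(M ⊓ S)) (s := ⟨_, huT, huS⟩) (u := ⟨t, htM, htS⟩) (Subtype.ext hu2) (Subtype.ext ht2)
      (by rw [← Subgroup.orderOf_coe]; exact heven)
    exact ⟨z, fun e => hz1 (Subtype.ext e), congrArg Subtype.val hz2, congrArg Subtype.val hzt,
      congrArg Subtype.val hzu, z.2.1, z.2.2.1, z.2.2.2⟩
  obtain ⟨hzi, hzd⟩ := hH z hzH
  have hzu' : (z : Matrix (Fin n) (Fin n) F) *ᵥ u = u := by
    obtain ⟨w, hw⟩ : ∃ w, w = (z : Matrix (Fin n) (Fin n) F) *ᵥ u := ⟨_, rfl⟩
    have hww : 𝕗 w w = 0 := by rw [hw, hzi, huu]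
    have h3 : uT 𝕗 w 1 = uT 𝕗 u 1 := by rw [hw, ← conj_uT h.unitary hzi huu, hzu, mul_inv_cancel_right]
    have h4 := congrArg (fun G : GL (Fin n) F => (G : Matrix (Fin n) (Fin n) F) *ᵥ 𝕖 i) h3
    simp only [uT_mulVec h.unitary hww, hTy, one_mul, hermForm_single h.pow] at h4
    rw [add_left_cancel_iff] at h4
    have hwi : σ (w i) ≠ 0 := fun h0 => by
      rw [h0, zero_smul] at h4
      exact smul_ne_zero (hσ0 hui) hu0 h4.symm
    have hwξ : w = (σ (u i) / σ (w i)) • u := by
      rw [div_eq_inv_mul, ← smul_smul, ← h4, inv_smul_smul₀ hwi]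
    obtain ⟨ξ, hξ⟩ : ∃ ξ, w = ξ • u := ⟨_, hwξ⟩
    have h5 : (ξ * ξ) • u = (1 : F) • u := by
      rw [one_smul, ← smul_smul, ← hξ, hw, ← mulVec_smul, ← hξ, hw, ← mul_mulVec, hz2, Units.val_one, one_mulVec]
    have h6 : (ξ - 1) * (ξ - 1) = 0 := by linear_combination smul_left_injective F hu0 h5 + (1 - ξ) * h2
    rw [← hw, hξ, sub_eq_zero.mp ((mul_eq_zero.mp h6).elim id id), one_smul]
  have hza : a ≠ 0 := fun h0 => hab.1 (by rw [h0, zero_mul])
  have hzb : b ≠ 0 := fun h0 => hb0 (by rw [h0, zero_mul])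
  have hdec : ∀ x, ∃ μ ρ : F, (z : Matrix (Fin n) (Fin n) F) *ᵥ x = x + μ • u + ρ • r := fun x => by
    obtain ⟨μ, p, hp, hsum⟩ := Submodule.mem_span_insert.mp (hzR x)
    obtain ⟨p₁, p₂, rfl⟩ := Submodule.mem_span_pair.mp hp
    have h3 : 𝕗 ((z : Matrix (Fin n) (Fin n) F) *ᵥ x - x) u = 0 := by
      rw [Unitary.sub_left' h.unitary]
      nth_rw 1 [← hzu']
      rw [hzi, sub_self]
    rw [hsum, h.unitary.add_left, h.unitary.add_left, h.unitary.smul_left, h.unitary.smul_left,
      h.unitary.smul_left, huu, hvu, hv'u, mul_zero, zero_add] at h3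
    refine ⟨μ, p₁ / σ b, ?_⟩
    rw [add_assoc, ← sub_eq_iff_eq_add', hsum, hr]
    match_scalars
    · rfl
    · field_simp [hσ0 hzb]
    · field_simp [hσ0 hzb]; linear_combination h3
  have hline : ∀ x, ∃ c : F, (z : Matrix (Fin n) (Fin n) F) *ᵥ x = x + c • r := fun x => by
    obtain ⟨μ, ρ, hx⟩ := hdec x
    obtain ⟨μ', ρ', hX⟩ := hdec (𝕗 x v • v + 𝕗 x v' • v')
    have h3 := congrArg (fun G : GL (Fin n) F => (G : Matrix (Fin n) (Fin n) F) *ᵥ x) hzt
    simp only [mul_mulVec] at h3
    rw [hty x, add_assoc, mulVec_add, hX, hx, hty, h.unitary.add_left, h.unitary.add_left, h.unitary.smul_left,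
      h.unitary.smul_left, huv, hrv, h.unitary.add_left, h.unitary.add_left, h.unitary.smul_left,
      h.unitary.smul_left, huv', hrv'] at h3
    have h4 : μ' • u + ρ' • r = (μ * a) • v + (μ * b) • v' := by
      linear_combination (norm := module) h3
    have hμ' : μ' = 0 := by
      have h5 := congrArg (fun w => 𝕗 w v) h4
      simp only [h.unitary.add_left, h.unitary.smul_left, huv, hrv, hvv, hperp', mul_zero, add_zero] at h5
      exact (mul_eq_zero.mp h5).resolve_right hza
    rw [hμ', zero_smul, zero_add, hr] at h4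
    have e1 := congrFun h4 i
    have e2 := congrFun h4 k
    simp [hvi, hv'0 i hik hil] at e1
    simp [hv'k, hv0 k hik.symm hjk.symm] at e2
    have hμ : μ * (a * σ a + b * σ b) = 0 := by linear_combination (-σ a) * e1 - σ b * e2
    refine ⟨ρ, ?_⟩
    rw [hx, (mul_eq_zero.mp hμ).resolve_right (fun h0 => hab.2 (by
      linear_combination h0 - (b * σ b) * h2)), zero_smul, add_zero]
  have hri : r i = σ b := by rw [hr]; simp [hvi, hv'0 i hik hil]
  have hrk : r k = -σ a := by rw [hr]; simp [hv'k, hv0 k hik.symm hjk.symm]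
  have hr0 : r ≠ 0 := fun h0 => hσ0 hzb (by rw [← hri, h0]; rfl)
  obtain ⟨c, hc0, hc, hrr, hzc⟩ := exists_uT_of_line h.unitary hzi hzd hr0 hline hz1
  obtain ⟨m, hm⟩ : ∃ m, m ∉ ({i, j, k, l} : Finset (Fin n)) := by
    by_contra hh
    push Not at hh
    have := (Finset.card_le_card (show (Finset.univ : Finset (Fin n)) ⊆ {i, j, k, l} from fun s _ => hh s)).trans
      Finset.card_le_four
    rw [Finset.card_univ, Fintype.card_fin] at this
    omega
  simp only [Finset.mem_insert, Finset.mem_singleton, not_or] at hm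
  have hrm : r m = 0 := by rw [hr]; simp [hv0 m hm.1 hm.2.1, hv'0 m hm.2.2.1 hm.2.2.2]
  have hfull : ∀ s, r s ≠ 0 → s ≠ m → 1 + c * (r s * σ (r s)) ≠ 0 → UFull σ 𝕗 M r := fun s hs hsm hne =>
    full_of_single h h.unitary hrr (h.form_unit s) (h.form_unit m) (h.form_ne hsm) (by rwa [h.form_single_right])
      (by rw [h.form_single_right, hrm]) (htorus hsm) hc hc0 (hzc ▸ hzH) (Or.inr (by rwa [h.form_single_right]))
  by_cases hcb : 1 + c * (r i * σ (r i)) = 0
  · refine ⟨r, m, hfull k (by rw [hrk]; exact neg_ne_zero.mpr (hσ0 hza)) (Ne.symm hm.2.2.1) fun h0 => ?_, hr0, hrm⟩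
    rw [hri, h.inv] at hcb
    rw [hrk, map_neg, h.inv] at h0
    exact hab.2 (mul_left_cancel₀ hc0 (by linear_combination h0 - hcb))
  · exact ⟨r, m, hfull i (by rw [hri]; exact hσ0 hzb) (Ne.symm hm.1) hcb, hr0, hrm⟩

/-- The field with four elements: an element outside gives every centre. -/
theorem all_full_two (h : QField σ q) (hq : q = 2) (hn : 7 ≤ n) {g : GL (Fin n) F} (hg : g ∈ M)
    (hgm : ¬ IsMono g) : ∀ x, 𝕗 x x = 0 → UFull σ 𝕗 M x := by
  classical
  have hcard : Fintype.card F = 4 := by rw [← Nat.card_eq_fintype_card, h.card, hq]; rfl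
  have h2 : (2 : F) = 0 := by
    have h1 := h.natCast_q'
    rw [hq] at h1; exact_mod_cast h1
  haveI : CharP F 2 := CharTwo.of_one_ne_zero_of_two_eq_zero one_ne_zero h2
  have hfix : ∀ c : F, σ c = c → c = 0 ∨ c = 1 := fun c hc => by
    have h3 : c * (c - 1) = 0 := by
      have h1 := hc; rw [h.pow, hq] at h1; linear_combination h1
    exact (mul_eq_zero.mp h3).imp id sub_eq_zero.mp
  have hσ0 : ∀ {y : F}, y ≠ 0 → σ y ≠ 0 := fun hy => (map_ne_zero_iff _ σ.injective).mpr hy
  have hN : ∀ {y : F}, y ≠ 0 → y * σ y = 1 := fun {y} hy =>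
    (hfix _ (by rw [map_mul, h.inv, mul_comm])).resolve_left (mul_ne_zero hy (hσ0 hy))
  have hfull : ∀ {x}, 𝕗 x x = 0 → uT 𝕗 x 1 ∈ M → UFull σ 𝕗 M x := fun {x} hx hm => ⟨hx, fun c hc => by
    rcases hfix c (by linear_combination hc - c * h2) with h0 | h0
    · rw [h0, uT_zero h.unitary hx]; exact M.one_mem
    · rw [h0]; exact hm⟩
  obtain ⟨ω, hω0, hω1⟩ : ∃ ω : F, ω ≠ 0 ∧ ω ≠ 1 := by
    by_contra hc
    push Not at hc
    have := (Finset.card_le_card (show (Finset.univ : Finset F) ⊆ {0, 1} from fun x _ => by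
      by_cases hx : x = 0
      · simp [hx]
      · simp [hc x hx])).trans Finset.card_le_two
    rw [Finset.card_univ, hcard] at this
    omega
  have hωs : ω + σ ω = 1 :=
    (hfix _ (by rw [map_add, h.inv, add_comm])).resolve_left fun h0 => by
      have h4 : σ ω = ω := by linear_combination h0 - ω * h2
      exact (hfix ω h4).elim hω0 hω1
  have hsub : ∀ {x : Fin n → F}, 𝕗 x x = ((csupp x).card : F) := fun {x} => by
    rw [h.form_self, ← Finset.sum_subset (Finset.subset_univ (csupp x)) (fun l _ hl => by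
      rw [mem_csupp, not_not] at hl; rw [hl, zero_mul]), Finset.sum_congr rfl (g := fun _ => (1 : F))
      (fun l hl => hN (mem_csupp.mp hl)), Finset.sum_const, nsmul_one]
  have hparity : ∀ {x : Fin n → F}, 𝕗 x x = 0 → Even (csupp x).card := fun {x} hx => by
    rw [hsub, CharP.cast_eq_zero_iff F 2] at hx
    exact even_iff_two_dvd.mpr hx
  have hone : -(1 : F) = 1 := by linear_combination -h2
  have h1s : (1 : F) + σ 1 = 0 := by rw [map_one]; linear_combination h2
  have hadd : ∀ {x y}, UFull σ 𝕗 M x → UFull σ 𝕗 M y → 𝕗 x y = 1 → UFull σ 𝕗 M (x + y) := fun {x y} hx hy hxy => by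
    have := uT_add_smul h.unitary hx hy.1 h1s (hy.2 1 h1s)
    rwa [hxy, one_mul, one_smul] at this
  obtain ⟨u, huu, huT, hu3⟩ := exists_wide hH hM h h2 (by omega) hg hgm
  have hu4 : 4 ≤ (csupp u).card := by
    obtain ⟨m, hm⟩ := hparity huu
    omega
  obtain ⟨u, hu, hu4, hun⟩ : ∃ u, UFull σ 𝕗 M u ∧ 4 ≤ (csupp u).card ∧ (csupp u).card < n := by
    have hle : (csupp u).card ≤ n := by simpa using Finset.card_le_univ (csupp u)
    rcases hle.lt_or_eq with hlt | heq
    · exact ⟨u, hfull huu huT, hu4, hlt⟩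
    have hall : ∀ r, u r ≠ 0 := fun r => mem_csupp.mp (by
      rw [Finset.eq_univ_of_card (csupp u) (by simpa using heq)]; exact Finset.mem_univ r)
    obtain ⟨e, he⟩ : ∃ e : Fin n → F,
        e = fun r => if r.val < 3 then ω else if r.val < 6 then σ ω else 1 := ⟨_, rfl⟩
    have hsplit : ∀ (f : F → F), f 1 = 0 → ∑ r, f (e r) = 3 * f ω + 3 * f (σ ω) := fun f hf => by
      obtain ⟨m, rfl⟩ : ∃ m, n = 6 + m := ⟨n - 6, by omega⟩
      rw [Fin.sum_univ_add, Fin.sum_univ_six, Finset.sum_eq_zero fun r _ => ?_]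
      · simp [he]; ring
      · simp only [he, Fin.val_natAdd]
        rw [if_neg (by omega), if_neg (by omega)]
        exact hf
    obtain ⟨k, hk⟩ : ∃ k : Fin n, k.val = 6 := ⟨⟨6, by omega⟩, rfl⟩
    obtain ⟨d, hdi, hdd, hdm, cz, hcz, hd⟩ := h.exists_mono 1 e (fun r => by
      rw [he]; dsimp only; split_ifs <;> simp [hN hω0, h.inv, mul_comm (σ ω)]) k
    have hprod : ∏ r, e r = 1 := by
      obtain ⟨m, rfl⟩ : ∃ m, n = 6 + m := ⟨n - 6, by omega⟩
      rw [Fin.prod_univ_add, Fin.prod_univ_six, Finset.prod_eq_one fun r _ => ?_]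
      · simp [he]
        linear_combination ((ω * σ ω) ^ 2 + ω * σ ω + 1) * hN hω0
      · simp only [he, Fin.val_natAdd]
        rw [if_neg (by omega), if_neg (by omega)]
    have hek : e k = 1 := by rw [he]; dsimp only; rw [if_neg (by omega), if_neg (by omega)]
    have hcz1 : cz = 1 := by
      have hmat : (d : Matrix (Fin n) (Fin n) F) = diagonal (fun r => if r = k then cz else e r) := by
        refine Matrix.ext_of_mulVec_single fun c => funext fun r => ?_
        have := hd (Pi.single c 1) r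
        rw [Equiv.Perm.one_apply] at this
        rw [this, mulVec_diagonal]
      rw [hmat, det_diagonal, ← Finset.mul_prod_erase _ _ (Finset.mem_univ k), if_pos rfl,
        Finset.prod_congr rfl fun r hr => if_neg (Finset.ne_of_mem_erase hr)] at hdd
      rw [← Finset.mul_prod_erase _ _ (Finset.mem_univ k), hek, one_mul] at hprod
      rwa [hprod, mul_one] at hdd
    obtain ⟨u', hu'⟩ : ∃ u', u' = (d : Matrix (Fin n) (Fin n) F) *ᵥ u := ⟨_, rfl⟩
    have hu'r : ∀ r, u' r = e r * u r := fun r => by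
      have := hd u r
      rw [Equiv.Perm.one_apply] at this
      rw [hu', this]
      by_cases hr : r = k
      · subst hr; rw [if_pos rfl, hcz1, hek]
      · rw [if_neg hr]
    have hu'f : UFull σ 𝕗 M u' := hu' ▸ ufull_conj h.unitary (hM d hdi hdd hdm) hdi (hfull huu huT)
    have hform : 𝕗 u u' = 1 := by
      have h1 : 𝕗 u u' = 𝕗 u u + ∑ r, (σ (e r) - 1) := by
        rw [h.form_eq, h.form_self, ← Finset.sum_add_distrib]
        refine Finset.sum_congr rfl fun r _ => ?_
        rw [hu'r, map_mul]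
        linear_combination (σ (e r) - 1) * hN (hall r)
      rw [h1, huu, zero_add, hsplit (fun x => σ x - 1) (by simp), h.inv]
      linear_combination 3 * hωs + (-2 : F) * h2
    refine ⟨u + u', hadd (hfull huu huT) hu'f hform, ?_⟩
    have hsupp : csupp (u + u') = Finset.univ.filter fun r : Fin n => r.val < 6 := by
      ext r
      rw [mem_csupp, Finset.mem_filter, Pi.add_apply, hu'r, ← one_add_mul, mul_ne_zero_iff]
      simp only [hall r, ne_eq, not_false_eq_true, and_true, Finset.mem_univ, true_and, he]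
      by_cases h1 : r.val < 3
      · simp only [h1, if_true]
        exact ⟨fun _ => by omega, fun _ h0 => hω1 (by linear_combination h0 - h2)⟩
      by_cases h3 : r.val < 6
      · simp only [h1, h3, if_false, if_true, iff_true]
        intro h0
        exact hω1 (by rw [← h.inv ω, show σ ω = 1 by linear_combination h0 - h2, map_one])
      simp only [h1, h3, if_false, iff_false, not_not]
      linear_combination h2
    have h6 : (csupp (u + u')).card = 6 := by
      rw [hsupp, Fin.card_filter_val_lt]; omega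
    omega
  -- a vector on four coordinates
  obtain ⟨w, hw, hw4⟩ : ∃ w, UFull σ 𝕗 M w ∧ (csupp w).card = 4 := by
    obtain ⟨i, hi, p, hp, r, hr, hip, hir, hpr⟩ : ∃ i ∈ csupp u, ∃ p ∈ csupp u, ∃ r ∈ csupp u,
        i ≠ p ∧ i ≠ r ∧ p ≠ r := Finset.two_lt_card.mp (by omega)
    rw [mem_csupp] at hi hp hr
    obtain ⟨l, hl⟩ : ∃ l, u l = 0 := by
      by_contra hh
      push Not at hh
      have := Finset.card_le_card (show (Finset.univ : Finset (Fin n)) ⊆ csupp u from fun k _ => mem_csupp.mpr (hh k))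
      rw [Finset.card_univ, Fintype.card_fin] at this
      omega
    have hli : i ≠ l := fun e => hi (e ▸ hl)
    have hlp : p ≠ l := fun e => hp (e ▸ hl)
    have hlr : r ≠ l := fun e => hr (e ▸ hl)
    obtain ⟨d, hdi, hdd, hdm, cz, -, hd⟩ := h.exists_mono (Equiv.swap i l) (fun s => if s = p ∨ s = r then ω else 1)
      (fun s => by split_ifs <;> simp [hN hω0]) l
    obtain ⟨u', hu'⟩ : ∃ u', u' = (d : Matrix (Fin n) (Fin n) F) *ᵥ u := ⟨_, rfl⟩
    have hu'f : UFull σ 𝕗 M u' := hu' ▸ ufull_conj h.unitary (hM d hdi hdd hdm) hdi hu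
    have hi' : u' i = 0 := by
      have := hd u l
      rw [Equiv.swap_apply_right] at this
      rw [hu', this, hl, mul_zero]
    have hl' : u' l = u i := by
      have := hd u i
      rw [Equiv.swap_apply_left, if_neg hli, if_neg (by simp [hip, hir]), one_mul] at this
      rw [hu', this]
    have hoth : ∀ s, s ≠ i → s ≠ l → u' s = (if s = p ∨ s = r then ω else 1) * u s := fun s h1 h3 => by
      have := hd u s
      rw [Equiv.swap_apply_of_ne_of_ne h1 h3, if_neg h3] at this
      rw [hu', this]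
    have hp' : u' p = ω * u p := by rw [hoth p hip.symm hlp, if_pos (Or.inl rfl)]
    have hr' : u' r = ω * u r := by rw [hoth r hir.symm hlr, if_pos (Or.inr rfl)]
    have hsame : ∀ s, s ≠ i → s ≠ l → s ≠ p → s ≠ r → u' s = u s := fun s h1 h3 h4 h5 => by
      rw [hoth s h1 h3, if_neg (by simp [h4, h5]), one_mul]
    have hform : 𝕗 u u' = 1 := by
      have h1 : 𝕗 u u' = 𝕗 u u + ∑ s ∈ ({i, l, p, r} : Finset (Fin n)), u s * σ (u' s - u s) := by
        rw [h.form_eq, h.form_self, Finset.sum_subset (Finset.subset_univ ({i, l, p, r} : Finset (Fin n)))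
          (fun s _ hs => ?_), ← Finset.sum_add_distrib]
        · exact Finset.sum_congr rfl fun s _ => by rw [map_sub]; ring
        · simp only [Finset.mem_insert, Finset.mem_singleton, not_or] at hs
          rw [hsame s hs.1 hs.2.1 hs.2.2.1 hs.2.2.2, sub_self, map_zero, mul_zero]
      rw [h1, hu.1, zero_add, Finset.sum_insert (by simp [hli, hip, hir]), Finset.sum_insert (by simp [hlp.symm, hlr.symm]),
        Finset.sum_insert (by simp [hpr]), Finset.sum_singleton, hi', hl, hp', hr', zero_sub, map_neg]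
      simp only [map_sub, map_mul]
      linear_combination (-1 : F) * hN hi + (σ ω - 1) * hN hp + (σ ω - 1) * hN hr + (σ ω - 2) * h2
    refine ⟨u + u', hadd hu hu'f hform, ?_⟩
    have hsupp : csupp (u + u') = {i, l, p, r} := by
      ext s
      rw [mem_csupp, Pi.add_apply]
      simp only [Finset.mem_insert, Finset.mem_singleton]
      have hω' : (1 : F) + ω ≠ 0 := fun h0 => hω1 (by linear_combination h0 - h2)
      by_cases h1 : s = i
      · subst h1; simp [hi', hi]
      by_cases h3 : s = l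
      · subst h3; simp [hl', hl, hi]
      by_cases h4 : s = p
      · subst h4; simp only [true_or, or_true, iff_true, hp', ← one_add_mul]; exact mul_ne_zero hω' hp
      by_cases h5 : s = r
      · subst h5; simp only [or_true, iff_true, hr', ← one_add_mul]; exact mul_ne_zero hω' hr
      simp only [h1, h3, h4, h5, or_self, iff_false, not_not, hsame s h1 h3 h4 h5]
      linear_combination (u s) * h2
    rw [hsupp, Finset.card_insert_of_notMem (by simp [hli, hip, hir]),
      Finset.card_insert_of_notMem (by simp [hlp.symm, hlr.symm]),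
      Finset.card_insert_of_notMem (by simp [hpr]), Finset.card_singleton]
  -- every vector on four coordinates
  have hfour : ∀ x, 𝕗 x x = 0 → (csupp x).card = 4 → UFull σ 𝕗 M x := by
    intro x _ hx4
    obtain ⟨π, hπ⟩ : ∃ π : Equiv.Perm (Fin n), ∀ s, π s ∈ csupp x ↔ s ∈ csupp w := by
      have e : {s // s ∈ csupp w} ≃ {s // s ∈ csupp x} := Fintype.equivOfCardEq (by simp [hw4, hx4])
      refine ⟨e.extendSubtype, fun s => ⟨fun h1 => ?_, fun h1 => e.extendSubtype_mem s h1⟩⟩
      by_contra h3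
      exact e.extendSubtype_not_mem s h3 h1
    obtain ⟨k, hk⟩ : ∃ k, k ∉ csupp w := by
      by_contra hh
      push Not at hh
      have := Finset.card_le_card (show (Finset.univ : Finset (Fin n)) ⊆ csupp w from fun k _ => hh k)
      rw [Finset.card_univ, Fintype.card_fin] at this
      omega
    obtain ⟨d, hdi, hdd, hdm, cz, -, hd⟩ := h.exists_mono π
      (fun s => if s ∈ csupp w then x (π s) / w s else 1) (fun s => by
        split_ifs with hs
        · exact hN (div_ne_zero (mem_csupp.mp ((hπ s).mpr hs)) (mem_csupp.mp hs))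
        · rw [map_one, one_mul]) k
    have := ufull_conj h.unitary (hM d hdi hdd hdm) hdi hw
    convert this using 1
    funext s'
    obtain ⟨s, rfl⟩ := π.surjective s'
    rw [hd]
    by_cases hs : s ∈ csupp w
    · rw [if_neg (fun e => hk (by rw [← e]; exact hs)), if_pos hs, div_mul_cancel₀ _ (mem_csupp.mp hs)]
    · have h1 : w s = 0 := by rwa [mem_csupp, not_not] at hs
      have h3 : x (π s) = 0 := by
        have := mt (hπ s).mp hs; rwa [mem_csupp, not_not] at this
      rw [h1, h3, mul_zero]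
  suffices key : ∀ m (x : Fin n → F), (csupp x).card = m → 𝕗 x x = 0 → UFull σ 𝕗 M x from fun x hx => key _ x rfl hx
  intro m
  induction m using Nat.strong_induction_on with
  | _ m ih =>
    intro x hm hx
    obtain ⟨m', rfl⟩ := hm ▸ hparity hx
    rcases Nat.lt_or_ge m' 3 with hlt | hge
    · interval_cases m'
      · have : x = 0 := funext fun s => by_contra fun h0 => by
          have := mem_csupp.mpr h0; rw [Finset.card_eq_zero.mp hm] at this; simp at this
        have h0 := ufull_smul h.unitary hw 0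
        rwa [zero_smul, ← this] at h0
      · obtain ⟨i, j, hij, hs⟩ := Finset.card_eq_two.mp hm
        have hxi : x i ≠ 0 := mem_csupp.mp (by simp [hs])
        have hxj : x j ≠ 0 := mem_csupp.mp (by simp [hs])
        obtain ⟨y, hy⟩ : ∃ y, y = x j / x i := ⟨_, rfl⟩
        have hyN : y * σ y = 1 := hN (hy ▸ div_ne_zero hxj hxi)
        have e : x = x i • (𝕖 i + Pi.single j y) := by
          funext s
          by_cases h1 : s = i
          · subst h1; simp [hij]
          by_cases h3 : s = j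
          · subst h3; simp [hij.symm, hy]; field_simp
          have : x s = 0 := by
            by_contra h0; simpa [hs, h1, h3] using mem_csupp.mpr h0
          simp [h1, h3, this]
        rw [e]
        exact ufull_smul h.unitary (hfull (pair_vec h h2 hij hyN) (pair_transvection_mem hM h h2 hij hyN)) _
      · exact hfour x hx hm
    obtain ⟨S, hS, hS4⟩ := Finset.exists_subset_card_eq (show 4 ≤ (csupp x).card by omega)
    obtain ⟨i, j, k, l, hij, hik, hil, hjk, hjl, hkl, hSe⟩ := Finset.card_eq_four.mp hS4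
    have hS' : ∀ {r}, r ∈ S → x r ≠ 0 := fun hr => mem_csupp.mp (hS hr)
    obtain ⟨v, hv⟩ : ∃ v : Fin n → F,
        v = fun s => if s = i ∨ s = j then x s else if s = k then ω * x s else if s = l then σ ω * x s else 0 := ⟨_, rfl⟩
    have hvs : csupp v = S := by
      ext s
      rw [mem_csupp, hv, hSe]
      simp only [Finset.mem_insert, Finset.mem_singleton]
      by_cases h1 : s = i
      · subst h1; simpa using hS' (by simp [hSe])
      by_cases h3 : s = j
      · subst h3; simpa [h1] using hS' (by simp [hSe])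
      by_cases h4 : s = k
      · subst h4
        simp only [h1, h3, or_self, if_false, if_true, true_or, or_true, iff_true]
        exact mul_ne_zero hω0 (hS' (by simp [hSe]))
      by_cases h5 : s = l
      · subst h5
        simp only [h1, h3, h4, or_self, if_false, if_true, or_true, iff_true]
        exact mul_ne_zero (hσ0 hω0) (hS' (by simp [hSe]))
      simp [h1, h3, h4, h5]
    have hvv : 𝕗 v v = 0 := by rw [hsub, hvs, hS4]; push_cast; linear_combination 2 * h2
    have hvf := hfour v hvv (by rw [hvs, hS4])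
    have hxv : 𝕗 x v = 1 := by
      rw [h.form_eq, ← Finset.sum_subset (Finset.subset_univ S) (fun s _ hs => by
        have : v s = 0 := by rw [← not_not (a := v s = 0)]; exact fun h0 => hs (hvs ▸ mem_csupp.mpr h0)
        rw [this, map_zero, mul_zero]), hSe, Finset.sum_insert (by simp [hij, hik, hil]),
        Finset.sum_insert (by simp [hjk, hjl]), Finset.sum_insert (by simp [hkl]), Finset.sum_singleton, hv]
      simp [hij.symm, hik.symm, hil.symm, hjk.symm, hjl.symm, hkl.symm, h.inv]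
      linear_combination hN (hS' (r := i) (by simp [hSe])) + hN (hS' (r := j) (by simp [hSe])) +
        σ ω * hN (hS' (r := k) (by simp [hSe])) + ω * hN (hS' (r := l) (by simp [hSe])) + hωs + h2
    obtain ⟨z, hz⟩ : ∃ z, z = x + v := ⟨_, rfl⟩
    have hzz : 𝕗 z z = 0 := by
      rw [hz, h.unitary.add_left, Unitary.add_right' h.unitary, Unitary.add_right' h.unitary, hx, hvv,
        h.unitary.herm v x, hxv, map_one]
      linear_combination h2
    have hzlt : (csupp z).card < m' + m' := by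
      rw [← hm]
      refine Finset.card_lt_card ⟨fun s hs => ?_, fun hh => ?_⟩
      · rw [mem_csupp] at hs ⊢
        intro h0
        apply hs
        have hsS : s ∉ csupp v := fun h1 => hS' (hvs ▸ h1) h0
        rw [mem_csupp, not_not] at hsS
        rw [hz, Pi.add_apply, h0, hsS, add_zero]
      · have := mem_csupp.mp (hh (hS (by simp [hSe] : i ∈ S)))
        exact this (by rw [hz, Pi.add_apply, hv]; simp; linear_combination (x i) * h2)
    have hzf := ih _ hzlt z rfl hzz
    have e : x = z + v := by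
      rw [hz]; funext s; simp only [Pi.add_apply]; linear_combination (-(v s)) * h2
    rw [e]
    exact hadd hzf hvf (by rw [hz, h.unitary.add_left, hxv, hvv, add_zero])

end CfsgLib.Classical22.UDecomp
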