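/-
Monomial overgroups in odd characteristic: an element outside gives a full centre with a zero coordinate.
-/
import Cfsg.Agent.Lib.Classical22.UDecomp.OneClosure
import Cfsg.Agent.Lib.RankOneSetup.Basic

set_option autoImplicit false

namespace CfsgLib.Classical22.UDecomp

open Matrix CfsgLib.Transvec CfsgLib.Transvec.Unitary CfsgLib.Classical22.Monomial
open scoped MatrixGroups

variable {F : Type*} [Field F] [Fintype F] {σ : F ≃+* F} {q n : ℕ} {M : Subgroup (GL (Fin n) F)}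

local notation "𝕗" => Cfsg.hermForm n F q
local notation:max "𝕖" i:max => (Pi.single i 1 : Fin n → F)

/-- Both images of two unit vectors lie on one pair of coordinates. -/
def PairImage (h : GL (Fin n) F) (a b : Fin n) : Prop :=
  ∃ i j, i ≠ j ∧ ∀ k, k ≠ i → k ≠ j → (h : Matrix (Fin n) (Fin n) F) k a = 0 ∧ (h : Matrix (Fin n) (Fin n) F) k b = 0

omit [Fintype F] in
lemma col_eq (g : GL (Fin n) F) (a k : Fin n) :
    ((g : Matrix (Fin n) (Fin n) F) *ᵥ Pi.single a 1) k = (g : Matrix (Fin n) (Fin n) F) k a := by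
  rw [Matrix.mulVec_single_one]; rfl

omit [Fintype F] in
/-- A mono element maps unit vectors to multiples of unit vectors. -/
lemma IsMonoImage {g : GL (Fin n) F} (hg : IsMono g) (a : Fin n) : ∃ k c, c ≠ 0 ∧
    (g : Matrix (Fin n) (Fin n) F) *ᵥ Pi.single a 1 = Pi.single k c := by
  obtain ⟨π, d, rfl⟩ := hg.exists_mono
  exact ⟨π a, d a, Units.ne_zero _, by rw [mono_mulVec_single, mul_one]⟩

omit [Fintype F] in
/-- Two independent vectors in the span of two others span the same plane. -/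
lemma mem_span_of_pair {A B u v : Fin n → F} (hu : u ∈ Submodule.span F {A, B}) (hv : v ∈ Submodule.span F {A, B})
    (hu0 : u ≠ 0) (hind : ∀ c : F, v ≠ c • u) : A ∈ Submodule.span F {u, v} ∧ B ∈ Submodule.span F {u, v} := by
  classical
  have hli : LinearIndependent F ![u, v] := by
    rw [LinearIndependent.pair_iff]
    intro p r h0
    by_cases hr : r = 0
    · rw [hr, zero_smul, add_zero, smul_eq_zero] at h0
      exact ⟨h0.resolve_right hu0, hr⟩
    · exact absurd (by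
        rw [add_comm, add_eq_zero_iff_eq_neg] at h0
        rw [← inv_smul_smul₀ hr v, h0, ← neg_smul, smul_smul]) (hind (r⁻¹ * -p))
  have h2 : Module.finrank F (Submodule.span F ({u, v} : Set (Fin n → F))) = 2 := by
    have h := finrank_span_eq_card hli
    have e : Set.range ![u, v] = {u, v} := by simp [Matrix.range_cons, Set.pair_comm]
    rw [e, Fintype.card_fin] at h
    exact h
  have hle : Submodule.span F ({u, v} : Set (Fin n → F)) ≤ Submodule.span F {A, B} := by
    rw [Submodule.span_le, Set.insert_subset_iff, Set.singleton_subset_iff]; exact ⟨hu, hv⟩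
  have h3 : Module.finrank F (Submodule.span F ({A, B} : Set (Fin n → F))) ≤ 2 := by
    refine le_trans (finrank_span_le_card _) ?_
    rw [Set.toFinset_insert, Set.toFinset_singleton]
    exact Finset.card_le_two
  rw [Submodule.eq_of_le_of_finrank_le hle (h3.trans h2.ge)]
  exact ⟨Submodule.subset_span (by simp), Submodule.subset_span (by simp)⟩

omit [Fintype F] in
lemma zero_of_mem_span_pair {u v w : Fin n → F} (hw : w ∈ Submodule.span F {u, v}) {k : Fin n} (hu : u k = 0)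
    (hv : v k = 0) : w k = 0 := by
  obtain ⟨p, r, rfl⟩ := Submodule.mem_span_pair.mp hw
  simp [hu, hv]

/-- Scaling the centre of a pseudo-reflection by a norm-one scalar. -/
lemma QField.qR_smul (h : QField σ q) {x : Fin n → F} (hx : 𝕗 x x = 1) {c : F} (hc : c * σ c = 1) {l : F}
    (hl : l * σ l = 1) : qR 𝕗 (c • x) l = qR 𝕗 x l := by
  refine gl_ext fun y => ?_
  have hcx : 𝕗 (c • x) (c • x) = 1 := by
    rw [h.unitary.smul_left, Unitary.smul_right' h.unitary, hx, mul_one, hc]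
  rw [qR_mulVec h.unitary hcx hl, qR_mulVec h.unitary hx hl, Unitary.smul_right' h.unitary, smul_smul]
  congr 2
  linear_combination ((l - 1) * 𝕗 y x) * hc

section Frame

variable (hH : ∀ g ∈ M, Iso (Cfsg.hermForm n F q) g ∧ (g : Matrix (Fin n) (Fin n) F).det = 1)
variable (hM : ∀ g : GL (Fin n) F, Iso (Cfsg.hermForm n F q) g → (g : Matrix (Fin n) (Fin n) F).det = 1 →
  IsMono g → g ∈ M)

include hH

lemma image_form (h : QField σ q) {g : GL (Fin n) F} (hg : g ∈ M) (a b : Fin n) :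
    𝕗 ((g : Matrix (Fin n) (Fin n) F) *ᵥ 𝕖 a) ((g : Matrix (Fin n) (Fin n) F) *ᵥ 𝕖 b) = if a = b then 1 else 0 := by
  rw [(hH g hg).1, h.form_basis]

include hM

/-- The conjugated torus. -/
lemma conj_torus_mem (h : QField σ q) {g : GL (Fin n) F} (hg : g ∈ M) {a b : Fin n} (hab : a ≠ b) {l : F}
    (hl : l * σ l = 1) :
    qR 𝕗 ((g : Matrix (Fin n) (Fin n) F) *ᵥ 𝕖 a) l * qR 𝕗 ((g : Matrix (Fin n) (Fin n) F) *ᵥ 𝕖 b) l⁻¹ ∈ M := by
  obtain ⟨h1, h2, h3⟩ := h.torus_mem_mono hab hl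
  have hm := M.mul_mem (M.mul_mem hg (hM _ h1 h2 h3)) (M.inv_mem hg)
  rw [show g * (qR 𝕗 (𝕖 a) l * qR 𝕗 (𝕖 b) l⁻¹) * g⁻¹ = (g * qR 𝕗 (𝕖 a) l * g⁻¹) * (g * qR 𝕗 (𝕖 b) l⁻¹ * g⁻¹)
    by group, conj_qR h.unitary (hH g hg).1 (h.form_unit a) hl,
    conj_qR h.unitary (hH g hg).1 (h.form_unit b) (norm_inv hl)] at hm
  exact hm

variable (hfix : ∀ g ∈ M, ∀ a k : Fin n, ∀ c : F,
  (g : Matrix (Fin n) (Fin n) F) *ᵥ Pi.single a 1 = Pi.single k c → IsMono g)

include hfix

/-- Both images avoiding one coordinate lie on a pair of coordinates. -/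
lemma pairImage_of_zero (h : QField σ q) (h2 : (2 : F) ≠ 0) (hq : 3 ≤ q) {g : GL (Fin n) F} (hg : g ∈ M)
    {a b m : Fin n} (hab : a ≠ b) (ha : (g : Matrix (Fin n) (Fin n) F) m a = 0)
    (hb : (g : Matrix (Fin n) (Fin n) F) m b = 0) : PairImage g a b := by
  classical
  obtain ⟨A, hA⟩ : ∃ A, A = (g : Matrix (Fin n) (Fin n) F) *ᵥ 𝕖 a := ⟨_, rfl⟩
  obtain ⟨B, hB⟩ : ∃ B, B = (g : Matrix (Fin n) (Fin n) F) *ᵥ 𝕖 b := ⟨_, rfl⟩
  have hAA : 𝕗 A A = 1 := by rw [hA, image_form hH h hg, if_pos rfl]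
  have hBB : 𝕗 B B = 1 := by rw [hB, image_form hH h hg, if_pos rfl]
  have hAB : 𝕗 A B = 0 := by rw [hA, hB, image_form hH h hg, if_neg hab]
  have hBA : 𝕗 B A = 0 := (eq_zero_comm h.unitary).mp hAB
  -- a good scalar
  obtain ⟨l, hl, hl2, hlm2, hlm1⟩ : ∃ l : F, l * σ l = 1 ∧ l + σ l ≠ 2 ∧ l + σ l ≠ -2 ∧ l + σ l ≠ -1 := by
    have hS : ∀ {S : Finset F}, S.card ≤ q → (1 : F) ∈ S → (-1 : F) ∈ S →
        (∀ r : F, r * r + r + 1 = 0 → r ∈ S) →
        ∃ l : F, l * σ l = 1 ∧ l + σ l ≠ 2 ∧ l + σ l ≠ -2 ∧ l + σ l ≠ -1 := by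
      intro S hS h1 hm1 hroot
      obtain ⟨l, hl, hlS⟩ := h.exists_norm_one_notMem hS
      refine ⟨l, hl, fun he => hlS ?_, fun he => hlS ?_, fun he => hlS (hroot l ?_)⟩
      · have hz : (l - 1) * (l - 1) = 0 := by linear_combination -hl + l * he
        rwa [sub_eq_zero.mp ((mul_eq_zero.mp hz).elim id id)]
      · have hz : (l + 1) * (l + 1) = 0 := by linear_combination -hl + l * he
        rwa [eq_neg_of_add_eq_zero_left ((mul_eq_zero.mp hz).elim id id)]
      · linear_combination -hl + l * he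
    by_cases h3 : (3 : F) = 0
    · refine hS (S := {1, -1}) (Finset.card_le_two.trans (by omega)) (by simp) (by simp) fun r hr => ?_
      have hz : (r - 1) * (r - 1) = 0 := by linear_combination hr - r * h3
      simp [sub_eq_zero.mp ((mul_eq_zero.mp hz).elim id id)]
    by_cases hr0 : ∃ r : F, r * r + r + 1 = 0
    · obtain ⟨r, hr⟩ := hr0
      have hq5 : 4 ≤ q := by
        by_contra h4
        have hq3 : q = 3 := by omega
        have hc3 : ((3 : ℕ) : F) ^ 2 = 0 := by
          rw [← Nat.cast_pow, ← hq3, ← h.card, Nat.card_eq_fintype_card, FiniteField.cast_card_eq_zero]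
        simp at hc3
        exact h3 hc3
      refine hS (S := {1, -1, r, -1 - r}) (Finset.card_le_four.trans hq5) (by simp) (by simp) fun s hs => ?_
      have hz : (s - r) * (s - (-1 - r)) = 0 := by linear_combination hs - hr
      simp only [Finset.mem_insert, Finset.mem_singleton]
      rcases mul_eq_zero.mp hz with h0 | h0
      · exact Or.inr (Or.inr (Or.inl (sub_eq_zero.mp h0)))
      · exact Or.inr (Or.inr (Or.inr (sub_eq_zero.mp h0)))
    · refine hS (S := {1, -1}) (Finset.card_le_two.trans (by omega)) (by simp) (by simp) fun r hr => absurd ⟨r, hr⟩ hr0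
  have hl' := norm_inv hl
  obtain ⟨x, hx⟩ : ∃ x, x = qR 𝕗 A l * qR 𝕗 B l⁻¹ := ⟨_, rfl⟩
  have hxM : x ∈ M := by rw [hx, hA, hB]; exact conj_torus_mem hH hM h hg hab hl
  have hxy : ∀ y, (x : Matrix (Fin n) (Fin n) F) *ᵥ y = y + ((l - 1) * 𝕗 y A) • A + ((l⁻¹ - 1) * 𝕗 y B) • B :=
    fun y => by rw [hx, torus_mulVec h.unitary hAA hBB hAB hl hl']
  have hxA : (x : Matrix (Fin n) (Fin n) F) *ᵥ A = l • A := by rw [hxy, hAA, hAB]; module
  have hxB : (x : Matrix (Fin n) (Fin n) F) *ᵥ B = l⁻¹ • B := by rw [hxy, hBA, hBB]; module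
  have hW : ∀ y, (x : Matrix (Fin n) (Fin n) F) *ᵥ y - y ∈ Submodule.span F {A, B} := fun y => by
    rw [Submodule.mem_span_pair]
    exact ⟨(l - 1) * 𝕗 y A, (l⁻¹ - 1) * 𝕗 y B, by rw [hxy]; abel⟩
  have hxm : (x : Matrix (Fin n) (Fin n) F) *ᵥ 𝕖 m = Pi.single m 1 := by
    rw [hxy, hermForm_single h.pow, hermForm_single h.pow, hA, hB, col_eq, col_eq, ha, hb, map_zero]
    simp
  have hxmono : IsMono x := hfix x hxM m m 1 hxm
  have hcubic : ∀ y, (x : Matrix (Fin n) (Fin n) F) *ᵥ ((x : Matrix (Fin n) (Fin n) F) *ᵥ ((x : Matrix (Fin n) (Fin n) F) *ᵥ y))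
      - (l + σ l + 1) • ((x : Matrix (Fin n) (Fin n) F) *ᵥ ((x : Matrix (Fin n) (Fin n) F) *ᵥ y))
      + (l + σ l + 1) • ((x : Matrix (Fin n) (Fin n) F) *ᵥ y) - y = 0 := fun y => by
    obtain ⟨p, r, hpr⟩ := Submodule.mem_span_pair.mp (hW y)
    have e1 : (x : Matrix (Fin n) (Fin n) F) *ᵥ y = y + (p • A + r • B) := by rw [hpr]; abel
    simp only [e1, mulVec_add, mulVec_smul, hxA, hxB, inv_eq_conj hl, smul_smul]
    match_scalars
    · ring
    · linear_combination (-p) * hl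
    · linear_combination (-r) * hl
  have hmemunit : ∀ {i c}, c ≠ 1 → (x : Matrix (Fin n) (Fin n) F) *ᵥ 𝕖 i = Pi.single i c →
      (𝕖 i) ∈ Submodule.span F {A, B} := fun {i c} hc he => by
    have h1 := hW (𝕖 i)
    rw [he, show Pi.single i c - 𝕖 i = (c - 1) • 𝕖 i by
      rw [sub_smul, one_smul, ← Pi.single_smul, smul_eq_mul, mul_one]] at h1
    exact (Submodule.smul_mem_iff _ (sub_ne_zero.mpr hc)).mp h1
  have hfinish : ∀ {i j}, i ≠ j → (𝕖 i) ∈ Submodule.span F {A, B} → (𝕖 j) ∈ Submodule.span F {A, B} →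
      PairImage g a b := fun {i j} hij hi hj => by
    obtain ⟨hAi, hBi⟩ := mem_span_of_pair hi hj (fun e => one_ne_zero (α := F) (by simpa using congrFun e i))
      (fun c e => one_ne_zero (α := F) (by simpa [hij, hij.symm] using congrFun e j))
    refine ⟨i, j, hij, fun k hki hkj => ?_⟩
    rw [← col_eq, ← col_eq, ← hA, ← hB]
    exact ⟨zero_of_mem_span_pair hAi (by simp [hki]) (by simp [hkj]),
      zero_of_mem_span_pair hBi (by simp [hki]) (by simp [hkj])⟩
  obtain ⟨π, d, hπd⟩ := hxmono.exists_mono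
  have hxe : ∀ i, (x : Matrix (Fin n) (Fin n) F) *ᵥ 𝕖 i = Pi.single (π i) (d i : F) := fun i => by
    rw [hπd, mono_mulVec_single, mul_one]
  have hsm : ∀ (i : Fin n) (c : F), (x : Matrix (Fin n) (Fin n) F) *ᵥ Pi.single i c = Pi.single (π i) (d i * c : F) :=
    fun i c => by rw [hπd, mono_mulVec_single]
  by_cases hπ : ∀ i, π i = i
  · -- diagonal
    have hsup : ∀ {v : Fin n → F} {μ : F}, (x : Matrix (Fin n) (Fin n) F) *ᵥ v = μ • v → v ≠ 0 →
        ∃ i, (d i : F) = μ := by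
      intro v μ hv hv0
      obtain ⟨i, hi⟩ := Function.ne_iff.mp hv0
      refine ⟨i, ?_⟩
      have := congrFun hv i
      conv_lhs at this => rw [hπd, show i = π i from (hπ i).symm, mono_mulVec]
      rw [Pi.smul_apply, smul_eq_mul] at this
      exact mul_right_cancel₀ hi this
    obtain ⟨i, hi⟩ := hsup hxA (fun h0 => by rw [h0, zero_left' h.unitary] at hAA; exact zero_ne_one hAA)
    obtain ⟨j, hj⟩ := hsup hxB (fun h0 => by rw [h0, zero_left' h.unitary] at hBB; exact zero_ne_one hBB)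
    have hl1 : l ≠ 1 := fun e => hl2 (by rw [e, map_one]; norm_num)
    have hi' := hxe i
    have hj' := hxe j
    rw [hπ, hi] at hi'
    rw [hπ, hj] at hj'
    refine hfinish (fun e => hlm2 ?_) (hmemunit hl1 hi') (hmemunit (fun e => hl1 (inv_eq_one.mp e)) hj')
    have h1 : l = l⁻¹ := by rw [← hj, ← e, hi]
    rw [← inv_eq_conj hl, ← h1]
    have h3 : (l - 1) * (l + 1) = 0 := by
      have h4 : l * l = 1 := (congrArg (l * ·) h1).trans (mul_inv_cancel₀ (ne_zero_of_norm_one hl))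
      linear_combination h4
    linear_combination 2 * (mul_eq_zero.mp h3).resolve_left (sub_ne_zero.mpr hl1)
  push Not at hπ
  obtain ⟨i, hi⟩ := hπ
  have hk : π (π i) ≠ π i := fun e => hi (π.injective e)
  have hc := hcubic (𝕖 i)
  rw [hxe, hsm, hsm] at hc
  by_cases hki : π (π i) = i
  · rw [hki] at hc
    have hc1 := congrFun hc i
    have hc2 := congrFun hc (π i)
    simp [hi, hi.symm] at hc1 hc2
    have hd : (d i : F) ≠ 0 := Units.ne_zero _
    have hc3 : (d i : F) * (d (π i)) + (l + σ l + 1) = 0 :=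
      (mul_eq_zero.mp (by linear_combination hc2 :
        (d i : F) * ((d i : F) * (d (π i)) + (l + σ l + 1)) = 0)).resolve_left hd
    have hτ : l + σ l = 0 :=
      (mul_eq_zero.mp (by linear_combination hc1 + (l + σ l + 1) * hc3 : (l + σ l) * (l + σ l + 2) = 0)).resolve_right
        fun h0 => hlm2 (by linear_combination h0)
    have hdd : (d i : F) * d (π i) = -1 := by linear_combination hc3 - hτ
    have hv1 := hW (𝕖 i)
    have hv2 := hW (𝕖 (π i))
    rw [hxe] at hv1 hv2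
    rw [hki] at hv2
    have hi2 : (𝕖 i) ∈ Submodule.span F {A, B} := by
      have h1 := Submodule.add_mem _ hv1 (Submodule.smul_mem _ (d i : F) hv2)
      rw [show (Pi.single (π i) (d i : F) - 𝕖 i) + (d i : F) • (Pi.single i (d (π i) : F) - 𝕖 (π i)) =
        ((-2 : F)) • 𝕖 i by
          funext r
          by_cases hr : r = i
          · subst hr; simp [hi.symm]; linear_combination hdd
          · by_cases hr' : r = π i
            · subst hr'; simp [hr]
            · simp [hr, hr']] at h1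
      exact (Submodule.smul_mem_iff _ (neg_ne_zero.mpr h2)).mp h1
    refine hfinish hi.symm hi2 ?_
    have h1 := Submodule.add_mem _ hv1 hi2
    rw [sub_add_cancel, show (Pi.single (π i) (d i : F) : Fin n → F) = (d i : F) • 𝕖 (π i) by
      rw [← Pi.single_smul, smul_eq_mul, mul_one]] at h1
    exact (Submodule.smul_mem_iff _ (Units.ne_zero _)).mp h1
  · exfalso
    by_cases hp : π (π (π i)) = i
    · have hc2 := congrFun hc (π i)
      simp [hp, hi, hk.symm] at hc2
      exact hlm1 (by linear_combination hc2)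
    · have hc1 := congrFun hc i
      simp [Ne.symm hp, Ne.symm hki, hi.symm] at hc1

/-- An element outside spreads every pair of unit vectors over all coordinates. -/
lemma spread (h : QField σ q) (h2 : (2 : F) ≠ 0) (hq : 3 ≤ q) (hn : 5 ≤ n) {g : GL (Fin n) F} (hg : g ∈ M)
    (hgm : ¬ IsMono g) {a b : Fin n} (hab : a ≠ b) (m : Fin n) :
    ¬ ((g : Matrix (Fin n) (Fin n) F) m a = 0 ∧ (g : Matrix (Fin n) (Fin n) F) m b = 0) := by
  classical
  rintro ⟨ha, hb⟩
  have hperp : ∀ {r s : Fin n}, r ≠ s → 𝕗 ((g : Matrix (Fin n) (Fin n) F) *ᵥ 𝕖 r)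
      ((g : Matrix (Fin n) (Fin n) F) *ᵥ 𝕖 s) = 0 := fun hrs => by rw [image_form hH h hg, if_neg hrs]
  have hone : ∀ r : Fin n, 𝕗 ((g : Matrix (Fin n) (Fin n) F) *ᵥ 𝕖 r)
      ((g : Matrix (Fin n) (Fin n) F) *ᵥ 𝕖 r) = 1 := fun r => by rw [image_form hH h hg, if_pos rfl]
  -- two images on a pair span it
  have hspan : ∀ {r s i j : Fin n}, r ≠ s → i ≠ j →
      (∀ k, k ≠ i → k ≠ j → (g : Matrix (Fin n) (Fin n) F) k r = 0 ∧ (g : Matrix (Fin n) (Fin n) F) k s = 0) →
      ∀ y : Fin n → F, 𝕗 y ((g : Matrix (Fin n) (Fin n) F) *ᵥ 𝕖 r) = 0 →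
        𝕗 y ((g : Matrix (Fin n) (Fin n) F) *ᵥ 𝕖 s) = 0 → y i = 0 ∧ y j = 0 := by
    intro r s i j hrs hij hsupp y hyr hys
    have hmem : ∀ v : Fin n → F, (∀ k, k ≠ i → k ≠ j → v k = 0) → v ∈ Submodule.span F {𝕖 i, 𝕖 j} := fun v hv => by
      rw [Submodule.mem_span_pair]
      refine ⟨v i, v j, funext fun k => ?_⟩
      by_cases h1 : k = i
      · subst h1; simp [hij]
      by_cases h3 : k = j
      · subst h3; simp [hij.symm]
      simp [h1, h3, hv k h1 h3]
    have hr0 : (g : Matrix (Fin n) (Fin n) F) *ᵥ 𝕖 r ≠ 0 := mulVec_ne_zero g (by simp)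
    obtain ⟨hi, hj⟩ := mem_span_of_pair (hmem ((g : Matrix (Fin n) (Fin n) F) *ᵥ 𝕖 r) fun k h1 h3 => by rw [col_eq]; exact (hsupp k h1 h3).1)
      (hmem ((g : Matrix (Fin n) (Fin n) F) *ᵥ 𝕖 s) fun k h1 h3 => by rw [col_eq]; exact (hsupp k h1 h3).2) hr0 (fun c e => by
        have h1 := hperp hrs
        rw [e, Unitary.smul_right' h.unitary, hone, mul_one, map_eq_zero_iff _ σ.injective] at h1
        rw [h1, zero_smul] at e
        exact mulVec_ne_zero g (x := 𝕖 s) (by simp) e)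
    have hzero : ∀ v ∈ Submodule.span F {(g : Matrix (Fin n) (Fin n) F) *ᵥ 𝕖 r,
        (g : Matrix (Fin n) (Fin n) F) *ᵥ 𝕖 s}, 𝕗 y v = 0 := fun v hv => by
      obtain ⟨p, p', rfl⟩ := Submodule.mem_span_pair.mp hv
      rw [Unitary.add_right' h.unitary, Unitary.smul_right' h.unitary, Unitary.smul_right' h.unitary, hyr, hys]
      ring
    exact ⟨by simpa [h.form_single_right] using hzero _ hi, by simpa [h.form_single_right] using hzero _ hj⟩
  obtain ⟨i, j, hij, hsupp⟩ := pairImage_of_zero hH hM hfix h h2 hq hg hab ha hb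
  have hout : ∀ r, r ≠ a → r ≠ b → (g : Matrix (Fin n) (Fin n) F) i r = 0 := fun r hra hrb => by
    rw [← col_eq]; exact (hspan hab hij hsupp _ (hperp hra) (hperp hrb)).1
  obtain ⟨r, hr, s, hs, p, hp, hrs, hrp, hsp⟩ : ∃ r ∈ (Finset.univ.erase a).erase b, ∃ s ∈ (Finset.univ.erase a).erase b,
      ∃ p ∈ (Finset.univ.erase a).erase b, r ≠ s ∧ r ≠ p ∧ s ≠ p := Finset.two_lt_card.mp (by
    rw [Finset.card_erase_of_mem (by simp [hab.symm]), Finset.card_erase_of_mem (by simp), Finset.card_univ,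
      Fintype.card_fin]
    omega)
  simp only [Finset.mem_erase, Finset.mem_univ, and_true] at hr hs hp
  obtain ⟨i₁, j₁, h1, hs1⟩ := pairImage_of_zero hH hM hfix h h2 hq hg hrs (hout r hr.2 hr.1) (hout s hs.2 hs.1)
  obtain ⟨i₂, j₂, h3, hs2⟩ := pairImage_of_zero hH hM hfix h h2 hq hg hrp (hout r hr.2 hr.1) (hout p hp.2 hp.1)
  obtain ⟨L, hL⟩ : ∃ L, L = (g : Matrix (Fin n) (Fin n) F) *ᵥ 𝕖 r := ⟨_, rfl⟩
  have hsub : ∀ k, L k ≠ 0 → (k = i₁ ∨ k = j₁) ∧ (k = i₂ ∨ k = j₂) := fun k hk => by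
    rw [hL, col_eq] at hk
    refine ⟨?_, ?_⟩
    · by_contra hc; push Not at hc; exact hk (hs1 k hc.1 hc.2).1
    · by_contra hc; push Not at hc; exact hk (hs2 k hc.1 hc.2).1
  have hL0 : L ≠ 0 := hL ▸ mulVec_ne_zero g (by simp)
  by_cases heq : (i₂ = i₁ ∧ j₂ = j₁) ∨ (i₂ = j₁ ∧ j₂ = i₁)
  · have hp1 : ∀ k, k ≠ i₁ → k ≠ j₁ → (g : Matrix (Fin n) (Fin n) F) k p = 0 := fun k hk1 hk2 => by
      rcases heq with ⟨e1, e2⟩ | ⟨e1, e2⟩ <;> exact (hs2 k (by rw [e1]; assumption) (by rw [e2]; assumption)).2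
    obtain ⟨hp2, hp3⟩ := hspan hrs h1 hs1 _ (hperp hrp.symm) (hperp hsp.symm)
    rw [col_eq] at hp2 hp3
    obtain ⟨k, hk⟩ := col_ne_zero g p
    by_cases hk1 : k = i₁
    · exact hk (hk1 ▸ hp2)
    by_cases hk2 : k = j₁
    · exact hk (hk2 ▸ hp3)
    exact hk (hp1 k hk1 hk2)
  · obtain ⟨k, hk⟩ := Function.ne_iff.mp hL0
    refine hgm (hfix g hg r k (L k) ?_)
    rw [← hL]
    funext k'
    by_cases hkk : k' = k
    · subst hkk; rw [Pi.single_eq_same]
    rw [Pi.single_eq_of_ne hkk]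
    by_contra hk'
    obtain ⟨h4, h5⟩ := hsub k hk
    obtain ⟨h6, h7⟩ := hsub k' hk'
    exact heq (by grind)

/-- No element lies outside when no element outside fixes a coordinate line. -/
theorem no_spread (h : QField σ q) (h2 : (2 : F) ≠ 0) (hq : 3 ≤ q) (hn : 8 ≤ n) {g : GL (Fin n) F} (hg : g ∈ M)
    (hgm : ¬ IsMono g) : False := by
  classical
  have hspread := fun {c : GL (Fin n) F} (hc : c ∈ M) (hcm : ¬ IsMono c) {a b : Fin n} (hab : a ≠ b) (m : Fin n) =>
    spread hH hM hfix h h2 hq (by omega) hc hcm hab m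
  obtain ⟨a, b, hab⟩ : ∃ a b : Fin n, a ≠ b := ⟨⟨0, by omega⟩, ⟨1, by omega⟩, by simp⟩
  obtain ⟨A, hA⟩ : ∃ A, A = (g : Matrix (Fin n) (Fin n) F) *ᵥ 𝕖 a := ⟨_, rfl⟩
  obtain ⟨B, hB⟩ : ∃ B, B = (g : Matrix (Fin n) (Fin n) F) *ᵥ 𝕖 b := ⟨_, rfl⟩
  have hAA : 𝕗 A A = 1 := by rw [hA, image_form hH h hg, if_pos rfl]
  have hBB : 𝕗 B B = 1 := by rw [hB, image_form hH h hg, if_pos rfl]
  have hAB : 𝕗 A B = 0 := by rw [hA, hB, image_form hH h hg, if_neg hab]
  have hfull : ∀ k, ¬ (A k = 0 ∧ B k = 0) := fun k => by rw [hA, hB, col_eq, col_eq]; exact hspread hg hgm hab k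
  -- at most one small vector in the plane
  have hsmall : ∀ v w : Fin n → F, v ∈ Submodule.span F {A, B} → w ∈ Submodule.span F {A, B} → v ≠ 0 →
      (csupp v).card + (csupp w).card < n → ∃ c : F, w = c • v := by
    intro v w hv hw hv0 hvw
    by_contra hc
    push Not at hc
    obtain ⟨hAm, hBm⟩ := mem_span_of_pair hv hw hv0 hc
    obtain ⟨k, hk⟩ : ∃ k, k ∉ csupp v ∪ csupp w := by
      by_contra hh
      push Not at hh
      have h1 := (Finset.card_le_card (show (Finset.univ : Finset (Fin n)) ⊆ csupp v ∪ csupp w from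
        fun k _ => hh k)).trans (Finset.card_union_le _ _)
      rw [Finset.card_univ, Fintype.card_fin] at h1
      omega
    rw [Finset.mem_union, mem_csupp, mem_csupp, not_or, not_not, not_not] at hk
    exact hfull k ⟨zero_of_mem_span_pair hAm hk.1 hk.2, zero_of_mem_span_pair hBm hk.1 hk.2⟩
  obtain ⟨m, i, hi, hm⟩ : ∃ m i : Fin n, i ≠ m ∧ ∀ w ∈ Submodule.span F {A, B}, (csupp w).card ≤ 4 → w m = 0 →
      w ≠ 0 → w i = 0 ∧ (csupp w).card = 4 := by
    by_cases hex : ∃ w₀ ∈ Submodule.span F {A, B}, w₀ ≠ 0 ∧ (csupp w₀).card ≤ 4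
    · obtain ⟨w₀, hw₀, hw00, hw04⟩ := hex
      obtain ⟨m, hm⟩ := Function.ne_iff.mp hw00
      obtain ⟨i, hi, hii⟩ : ∃ i, i ≠ m ∧ (2 ≤ (csupp w₀).card → w₀ i ≠ 0) := by
        by_cases h2c : 2 ≤ (csupp w₀).card
        · obtain ⟨i, hi, him⟩ := Finset.exists_mem_ne (show 1 < (csupp w₀).card by omega) m
          exact ⟨i, him, fun _ => mem_csupp.mp hi⟩
        · obtain ⟨i, hi⟩ : ∃ i, i ≠ m := by
            by_cases e : a = m
            · exact ⟨b, fun e' => hab (e.trans e'.symm)⟩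
            · exact ⟨a, e⟩
          exact ⟨i, hi, fun e => absurd e h2c⟩
      refine ⟨m, i, hi, fun w hw hw4 hwm hwn => ?_⟩
      have hind : ∀ c : F, w ≠ c • w₀ := fun c e => hwn (by
        rw [e, Pi.smul_apply, smul_eq_mul, mul_eq_zero] at hwm
        rw [e, hwm.resolve_right hm, zero_smul])
      have hle : n ≤ (csupp w₀).card + (csupp w).card := by
        by_contra hlt
        obtain ⟨c, hc⟩ := hsmall w₀ w hw₀ hw hw00 (by omega)
        exact hind c hc
      refine ⟨by_contra fun hwi => ?_, by omega⟩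
      obtain ⟨hAm, hBm⟩ := mem_span_of_pair hw₀ hw hw00 hind
      obtain ⟨k, hk⟩ : ∃ k, k ∉ csupp w₀ ∪ csupp w := by
        by_contra hh
        push Not at hh
        have h1 := Finset.card_le_card (show (Finset.univ : Finset (Fin n)) ⊆ csupp w₀ ∪ csupp w from fun k _ => hh k)
        have h3 := Finset.card_union_add_card_inter (csupp w₀) (csupp w)
        have h4 : 0 < (csupp w₀ ∩ csupp w).card := Finset.card_pos.mpr
          ⟨i, Finset.mem_inter.mpr ⟨mem_csupp.mpr (hii (by omega)), mem_csupp.mpr hwi⟩⟩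
        rw [Finset.card_univ, Fintype.card_fin] at h1
        omega
      rw [Finset.mem_union, mem_csupp, mem_csupp, not_or, not_not, not_not] at hk
      exact hfull k ⟨zero_of_mem_span_pair hAm hk.1 hk.2, zero_of_mem_span_pair hBm hk.1 hk.2⟩
    · push Not at hex
      obtain ⟨i, hi⟩ : ∃ i, i ≠ a := ⟨b, hab.symm⟩
      exact ⟨a, i, hi, fun w hw hw4 _ hw0 => absurd hw4 (not_le.mpr (hex w hw hw0))⟩
  obtain ⟨j, hj, hij⟩ : ∃ j, j ≠ m ∧ i ≠ j := by
    obtain ⟨j, hj⟩ : ((Finset.univ.erase m).erase i).Nonempty := Finset.card_pos.mp (by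
      rw [Finset.card_erase_of_mem (by simp [hi]), Finset.card_erase_of_mem (Finset.mem_univ _), Finset.card_univ,
        Fintype.card_fin]; omega)
    simp only [Finset.mem_erase, Finset.mem_univ, and_true] at hj
    exact ⟨j, hj.2, Ne.symm hj.1⟩
  -- the involution t
  have hne1 : (-1 : F) * σ (-1) = 1 := by rw [map_neg, map_one]; ring
  obtain ⟨d, hd⟩ : ∃ d : Fin n → Fˣ, d = Function.update (1 : Fin n → Fˣ) m (-1) := ⟨_, rfl⟩
  have hdv : ∀ k, (d k : F) = if k = m then -1 else 1 := fun k => by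
    rw [hd]; by_cases hk : k = m
    · subst hk; simp
    · simp [hk]
  obtain ⟨t, ht⟩ : ∃ t, t = mono (Equiv.swap i j) d := ⟨_, rfl⟩
  have hte : ∀ k, (t : Matrix (Fin n) (Fin n) F) *ᵥ 𝕖 k = Pi.single (Equiv.swap i j k) (if k = m then -1 else 1) :=
    fun k => by rw [ht, mono_mulVec_single, hdv, mul_one]
  have htm : (t : Matrix (Fin n) (Fin n) F) *ᵥ 𝕖 m = Pi.single m (-1) := by
    rw [hte, if_pos rfl, Equiv.swap_apply_of_ne_of_ne hi.symm hj.symm]
  have htiso : Iso 𝕗 t := ht ▸ h.iso_mono _ d (fun k => by rw [hdv]; split_ifs <;> simp [hne1])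
  have htdet : (t : Matrix (Fin n) (Fin n) F).det = 1 := by
    rw [ht, det_mono, Equiv.Perm.sign_swap hij, Finset.prod_eq_single m (fun k _ hk => by rw [hdv, if_neg hk])
      (fun hh => absurd (Finset.mem_univ m) hh), hdv, if_pos rfl]
    simp
  have htM : t ∈ M := hM t htiso htdet (ht ▸ isMono_mono _ _)
  have ht2 : t * t = 1 := by
    rw [ht, mono_mul, ← mono_one]
    congr 1
    · exact Equiv.swap_mul_self i j
    · funext k
      apply Units.ext
      rw [Units.val_mul, hdv, hdv, Pi.one_apply, Units.val_one]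
      by_cases hk : k = m
      · subst hk; rw [Equiv.swap_apply_of_ne_of_ne hi.symm hj.symm]; simp
      · rw [if_neg hk, mul_one, if_neg]
        intro e
        exact hk ((Equiv.swap i j).injective (by rw [e, Equiv.swap_apply_of_ne_of_ne hi.symm hj.symm]))
  -- the involution u
  obtain ⟨u, hu⟩ : ∃ u, u = qR 𝕗 A (-1) * qR 𝕗 B (-1) := ⟨_, rfl⟩
  have hinv1 : (-1 : F)⁻¹ = -1 := by norm_num
  have huM : u ∈ M := by
    have h1 := conj_torus_mem hH hM h hg hab hne1
    rw [hinv1] at h1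
    rw [hu, hA, hB]; exact h1
  have huy : ∀ y, (u : Matrix (Fin n) (Fin n) F) *ᵥ y = y + (-2 * 𝕗 y A) • A + (-2 * 𝕗 y B) • B := fun y => by
    rw [hu, torus_mulVec h.unitary hAA hBB hAB hne1 hne1]; norm_num
  have hu2 : u * u = 1 := gl_ext fun y => by
    rw [mul_mulVec, huy y, mulVec_add, mulVec_add, mulVec_smul, mulVec_smul, huy y, huy A, huy B, hAA, hBB, hAB,
      (eq_zero_comm h.unitary).mp hAB, Units.val_one, one_mulVec]
    module
  have humono : ¬ IsMono u := by
    intro hum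
    have hW : ∀ r, (u : Matrix (Fin n) (Fin n) F) *ᵥ 𝕖 r - 𝕖 r ∈ Submodule.span F {A, B} ∧
        (csupp ((u : Matrix (Fin n) (Fin n) F) *ᵥ 𝕖 r - 𝕖 r)).card ≤ 2 := fun r => by
      refine ⟨Submodule.mem_span_pair.mpr ⟨_, _, by rw [huy]; abel⟩, ?_⟩
      obtain ⟨k, c, -, hk⟩ := IsMonoImage hum r
      rw [hk]
      refine le_trans (Finset.card_le_card (t := {k, r}) fun s hs => ?_) Finset.card_le_two
      rw [mem_csupp] at hs
      rw [Finset.mem_insert, Finset.mem_singleton]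
      by_contra hc; push Not at hc
      exact hs (by simp [hc.1, hc.2])
    obtain ⟨v, hv⟩ : ∃ v : Fin n → F, ∀ r, ∃ c : F, (u : Matrix (Fin n) (Fin n) F) *ᵥ 𝕖 r - 𝕖 r = c • v := by
      by_cases hz : ∀ r, (u : Matrix (Fin n) (Fin n) F) *ᵥ 𝕖 r - 𝕖 r = 0
      · exact ⟨0, fun r => ⟨0, by rw [hz r, zero_smul]⟩⟩
      · push Not at hz
        obtain ⟨r₀, hr₀⟩ := hz
        exact ⟨_, fun r => hsmall _ _ (hW r₀).1 (hW r).1 hr₀ (by have := (hW r₀).2; have := (hW r).2; omega)⟩
    have hall : ∀ y, ∃ c : F, (u : Matrix (Fin n) (Fin n) F) *ᵥ y - y = c • v := fun y => by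
      choose c hc using hv
      refine ⟨∑ r, y r * c r, ?_⟩
      have hy : y = ∑ r, y r • 𝕖 r := by
        funext k; simp [Finset.sum_apply, Pi.single_apply]
      conv_lhs => rw [hy]
      rw [mulVec_sum, ← Finset.sum_sub_distrib, Finset.sum_smul]
      exact Finset.sum_congr rfl fun r _ => by rw [mulVec_smul, ← smul_sub, hc, smul_smul]
    obtain ⟨c₁, hc₁⟩ := hall A
    obtain ⟨c₂, hc₂⟩ := hall B
    rw [huy, hAA, hAB] at hc₁
    rw [huy, (eq_zero_comm h.unitary).mp hAB, hBB] at hc₂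
    have e1 : c₁ • v = (-2 : F) • A := by rw [← hc₁]; module
    have e2 : c₂ • v = (-2 : F) • B := by rw [← hc₂]; module
    have e3 := congrArg (fun y => 𝕗 y A) (congrArg (c₂ • ·) e1)
    have e4 := congrArg (fun y => 𝕗 y A) (congrArg (c₁ • ·) e2)
    simp only [h.unitary.smul_left, hAA, (eq_zero_comm h.unitary).mp hAB, mul_one, mul_zero] at e3 e4
    rw [mul_left_comm, e4] at e3
    have hc20 : c₂ = 0 :=
      (mul_eq_zero.mp e3.symm).resolve_right (neg_ne_zero.mpr h2)
    rw [hc20, zero_smul, eq_comm, smul_eq_zero] at e2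
    rcases e2 with e2 | e2
    · exact neg_ne_zero.mpr h2 e2
    · rw [e2, zero_left' h.unitary] at hBB; exact zero_ne_one hBB
  -- commuting with an element negating `m`
  have hcent : ∀ (z : GL (Fin n) F), Iso 𝕗 z → (z : Matrix (Fin n) (Fin n) F) *ᵥ 𝕖 m = Pi.single m (-1) →
      ∀ {r s : Fin n}, r ≠ s → (z : Matrix (Fin n) (Fin n) F) *ᵥ 𝕖 r = Pi.single r 1 →
      (z : Matrix (Fin n) (Fin n) F) *ᵥ 𝕖 s = Pi.single s 1 → ∀ c ∈ M, z * c = c * z → IsMono c := by
    intro z hzi hzm r s hrs hzr hzs c hc hcz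
    by_contra hcm
    obtain ⟨v, hv⟩ : ∃ v, v = ((c⁻¹ : GL (Fin n) F) : Matrix (Fin n) (Fin n) F) *ᵥ 𝕖 m := ⟨_, rfl⟩
    have hzv : (z : Matrix (Fin n) (Fin n) F) *ᵥ v = -v := by
      rw [hv, ← mul_mulVec, show z * c⁻¹ = c⁻¹ * z from ((Commute.inv_right (show Commute z c from hcz))).eq,
        mul_mulVec, hzm, ← mulVec_neg, Pi.single_neg]
    have hvk : ∀ {k : Fin n}, (z : Matrix (Fin n) (Fin n) F) *ᵥ 𝕖 k = Pi.single k 1 → (c : Matrix (Fin n) (Fin n) F) m k = 0 := by
      intro k hk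
      have h1 := hzi v (𝕖 k)
      rw [hzv, hk, neg_left' h.unitary, h.form_single_right] at h1
      have h3 : v k = 0 := (mul_eq_zero.mp (by linear_combination -h1 : (2 : F) * v k = 0)).resolve_left h2
      have h4 := (hH c hc).1 v (𝕖 k)
      rw [hv, mulVec_inv_cancel, hermForm_single h.pow, h.form_single_right, ← hv, h3,
        map_eq_zero_iff _ σ.injective, col_eq] at h4
      exact h4
    exact hspread hc hcm hrs m ⟨hvk hzr, hvk hzs⟩
  obtain ⟨r₁, hr₁, s₁, hs₁, hrs₁⟩ : ∃ r ∈ ((Finset.univ.erase m).erase i).erase j,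
      ∃ s ∈ ((Finset.univ.erase m).erase i).erase j, r ≠ s := Finset.one_lt_card.mp (by
    rw [Finset.card_erase_of_mem (by simp [hj, hij.symm]), Finset.card_erase_of_mem (by simp [hi]),
      Finset.card_erase_of_mem (Finset.mem_univ _), Finset.card_univ, Fintype.card_fin]
    omega)
  simp only [Finset.mem_erase, Finset.mem_univ, and_true] at hr₁ hs₁
  have htfix : ∀ k, k ≠ j → k ≠ i → k ≠ m → (t : Matrix (Fin n) (Fin n) F) *ᵥ 𝕖 k = Pi.single k 1 :=
    fun k h1 h3 h4 => by rw [hte, if_neg h4, Equiv.swap_apply_of_ne_of_ne h3 h1]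
  -- the product has even order
  have heven : ¬ Odd (orderOf (t * u)) := by
    intro hodd
    obtain ⟨k, hk⟩ := CfsgLib.RankOneSetup.conj_of_odd_orderOf ht2 hu2 hodd
    obtain ⟨c, hc⟩ : ∃ c, c = g⁻¹ * (t * u) ^ k := ⟨_, rfl⟩
    have hcM : c ∈ M := hc ▸ M.mul_mem (M.inv_mem hg) (M.pow_mem (M.mul_mem htM huM) k)
    obtain ⟨D, hD⟩ : ∃ D, D = qR 𝕗 (𝕖 a) (-1) * qR 𝕗 (𝕖 b) (-1) := ⟨_, rfl⟩
    have hgD : g * D * g⁻¹ = u := by
      rw [hD, show g * (qR 𝕗 (𝕖 a) (-1) * qR 𝕗 (𝕖 b) (-1)) * g⁻¹ =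
        (g * qR 𝕗 (𝕖 a) (-1) * g⁻¹) * (g * qR 𝕗 (𝕖 b) (-1) * g⁻¹) by group,
        conj_qR h.unitary (hH g hg).1 (h.form_unit a) hne1, conj_qR h.unitary (hH g hg).1 (h.form_unit b) hne1, hu, hA, hB]
    have hcD : c * t = D * c := by
      have e1 : (t * u) ^ k * t = (g * D * g⁻¹) * (t * u) ^ k := by rw [hgD]; exact mul_inv_eq_iff_eq_mul.mp hk
      rw [hc, mul_assoc, e1]; group
    have hDk : ∀ l, (D : Matrix (Fin n) (Fin n) F) *ᵥ 𝕖 l = Pi.single l (if l = a ∨ l = b then -1 else 1) := by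
      intro l
      funext r
      rw [hD, h.torus_apply hab hne1 hne1]
      by_cases hr : r = l
      · subst hr
        by_cases h1 : r = a
        · subst h1; simp
        by_cases h3 : r = b
        · subst h3; simp
        simp [h1, h3]
      · simp [hr]
    have hcm : IsMono c⁻¹ := by
      by_contra hcm
      obtain ⟨r, hr, s, hs, hrs⟩ : ∃ r ∈ (Finset.univ.erase a).erase b, ∃ s ∈ (Finset.univ.erase a).erase b, r ≠ s :=
        Finset.one_lt_card.mp (by
          rw [Finset.card_erase_of_mem (by simp [hab.symm]), Finset.card_erase_of_mem (by simp), Finset.card_univ,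
            Fintype.card_fin]
          omega)
      simp only [Finset.mem_erase, Finset.mem_univ, and_true] at hr hs
      have key : ∀ l, l ≠ a → l ≠ b → (c⁻¹ : GL (Fin n) F).1 m l = 0 := fun l hla hlb => by
        obtain ⟨v, hv⟩ : ∃ v, v = ((c⁻¹ : GL (Fin n) F) : Matrix (Fin n) (Fin n) F) *ᵥ 𝕖 l := ⟨_, rfl⟩
        have htv : (t : Matrix (Fin n) (Fin n) F) *ᵥ v = v := by
          rw [hv, ← mul_mulVec, show t * c⁻¹ = c⁻¹ * D by
            rw [eq_inv_mul_iff_mul_eq, ← mul_assoc, hcD, mul_inv_cancel_right], mul_mulVec, hDk,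
            if_neg (by simp [hla, hlb])]
        have h1 := congrFun htv m
        conv_lhs at h1 =>
          rw [ht, show m = Equiv.swap i j m from (Equiv.swap_apply_of_ne_of_ne hi.symm hj.symm).symm, mono_mulVec]
        rw [hdv, if_pos rfl] at h1
        rw [← col_eq, ← hv]
        exact (mul_eq_zero.mp (by linear_combination -h1 : (2 : F) * v m = 0)).resolve_left h2
      exact hspread (M.inv_mem hcM) hcm hrs m ⟨key r hr.2 hr.1, key s hs.2 hs.1⟩
    obtain ⟨π, e, he⟩ := hcm.exists_mono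
    obtain ⟨r, hr⟩ := π.surjective i
    have h1 : t * c⁻¹ = c⁻¹ * D := by rw [eq_inv_mul_iff_mul_eq, ← mul_assoc, hcD, mul_inv_cancel_right]
    have h3 := congrArg (fun G : GL (Fin n) F => ((G : Matrix (Fin n) (Fin n) F) *ᵥ 𝕖 r) j) h1
    simp only [mul_mulVec, hDk] at h3
    rw [he, mono_mulVec_single, hr, mul_one, mono_mulVec_single, hr, show (Pi.single i (e r : F) : Fin n → F) =
      (e r : F) • 𝕖 i by rw [← Pi.single_smul, smul_eq_mul, mul_one], mulVec_smul, hte, if_neg hi,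
      Equiv.swap_apply_left, Pi.smul_apply, Pi.single_eq_same, Pi.single_eq_of_ne hij.symm] at h3
    simp at h3
  rw [Nat.not_odd_iff_even] at heven
  -- the common centraliser
  obtain ⟨z, hz1, hz2, hzt, hzu, hzH, hzR⟩ : ∃ z : GL (Fin n) F, z ≠ 1 ∧ z * z = 1 ∧ z * t = t * z ∧ z * u = u * z ∧
      z ∈ M ∧ ∀ y, (z : Matrix (Fin n) (Fin n) F) *ᵥ y - y ∈ Submodule.span F {𝕖 i - 𝕖 j, 𝕖 m, A, B} := by
    obtain ⟨R, hR⟩ : ∃ R, R = Submodule.span F ({𝕖 i - 𝕖 j, 𝕖 m, A, B} : Set (Fin n → F)) := ⟨_, rfl⟩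
    rw [← hR]
    let S : Subgroup (GL (Fin n) F) :=
      { carrier := {z | ∀ y, (z : Matrix (Fin n) (Fin n) F) *ᵥ y - y ∈ R}
        one_mem' := fun y => by rw [Units.val_one, one_mulVec, sub_self]; exact R.zero_mem
        mul_mem' := fun {x y} hx hy v => by
          have := R.add_mem (hx ((y : Matrix (Fin n) (Fin n) F) *ᵥ v)) (hy v)
          rwa [sub_add_sub_cancel, ← mul_mulVec] at this
        inv_mem' := fun {x} hx v => by
          have := R.neg_mem (hx (((x⁻¹ : GL (Fin n) F) : Matrix (Fin n) (Fin n) F) *ᵥ v))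
          rwa [mulVec_inv_cancel, neg_sub] at this }
    have hmem : ∀ v ∈ ({𝕖 i - 𝕖 j, 𝕖 m, A, B} : Set (Fin n → F)), v ∈ R := fun v hv => hR ▸ Submodule.subset_span hv
    have htS : t ∈ S := by
      intro y
      have hy : (t : Matrix (Fin n) (Fin n) F) *ᵥ y - y = (y j - y i) • (𝕖 i - 𝕖 j) + (-2 * y m) • 𝕖 m := by
        funext k
        obtain ⟨k', rfl⟩ := (Equiv.swap i j).surjective k
        rw [Pi.sub_apply, ht, mono_mulVec, hdv]
        by_cases h1 : k' = i
        · subst h1; simp [hi, hi.symm, hij, hij.symm, hj, hj.symm]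
        by_cases h3 : k' = j
        · subst h3; simp [hi, hi.symm, hij, hij.symm, hj, hj.symm]
        rw [Equiv.swap_apply_of_ne_of_ne h1 h3]
        by_cases h4 : k' = m
        · subst h4; simp [h1, h3]; ring
        simp [h1, h3, h4]
      rw [hy]
      exact R.add_mem (R.smul_mem _ (hmem _ (by simp))) (R.smul_mem _ (hmem _ (by simp)))
    have huS : u ∈ S := by
      intro y
      rw [huy, add_assoc, add_sub_cancel_left]
      exact R.add_mem (R.smul_mem _ (hmem _ (by simp))) (R.smul_mem _ (hmem _ (by simp)))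
    obtain ⟨z, hz1, hz2, hzt, hzu⟩ := CfsgLib.RankOneSetup.exists_commute_of_even_orderOf
      (G := ↥(M ⊓ S)) (s := ⟨t, htM, htS⟩) (u := ⟨u, huM, huS⟩) (Subtype.ext ht2) (Subtype.ext hu2)
      (by rw [← Subgroup.orderOf_coe]; exact heven)
    exact ⟨z, fun e => hz1 (Subtype.ext e), congrArg Subtype.val hz2, congrArg Subtype.val hzt,
      congrArg Subtype.val hzu, z.2.1, z.2.2⟩
  have hzmono : IsMono z := hcent t htiso htm hrs₁ (htfix r₁ hr₁.1 hr₁.2.1 hr₁.2.2) (htfix s₁ hs₁.1 hs₁.2.1 hs₁.2.2)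
    z hzH hzt.symm
  have hzi := (hH z hzH).1
  obtain ⟨π, e, hze⟩ := hzmono.exists_mono
  have hze' : ∀ k, (z : Matrix (Fin n) (Fin n) F) *ᵥ 𝕖 k = Pi.single (π k) (e k : F) := fun k => by
    rw [hze, mono_mulVec_single, mul_one]
  have hπm : π m = m := by
    by_contra hne
    have h1 := congrArg (fun G : GL (Fin n) F => ((G : Matrix (Fin n) (Fin n) F) *ᵥ 𝕖 m) (π m)) hzt
    simp only [mul_mulVec] at h1
    rw [htm, hze', show (Pi.single m (-1) : Fin n → F) = (-1 : F) • 𝕖 m by rw [← Pi.single_smul, smul_eq_mul, mul_one],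
      mulVec_smul, hze', Pi.smul_apply, Pi.single_eq_same, show (Pi.single (π m) (e m : F) : Fin n → F) =
      (e m : F) • 𝕖 (π m) by rw [← Pi.single_smul, smul_eq_mul, mul_one], mulVec_smul, hte, if_neg hne,
      Pi.smul_apply, smul_eq_mul, smul_eq_mul, Pi.single_apply] at h1
    split_ifs at h1
    · exact Units.ne_zero (e m) ((mul_eq_zero.mp (by linear_combination -h1 : (2 : F) * e m = 0)).resolve_left h2)
    · simp at h1
  have hππ : ∀ k, π (π k) = k ∧ (e (π k) : F) * e k = 1 := fun k => by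
    have h1 := congrArg (fun G : GL (Fin n) F => (G : Matrix (Fin n) (Fin n) F) *ᵥ 𝕖 k) hz2
    simp only [mul_mulVec, Units.val_one, one_mulVec] at h1
    rw [hze', hze, mono_mulVec_single] at h1
    have h3 : π (π k) = k := by
      by_contra hne
      have h4 := congrFun h1 (π (π k))
      rw [Pi.single_eq_same, Pi.single_eq_of_ne hne] at h4
      exact mul_ne_zero (Units.ne_zero _) (Units.ne_zero _) h4
    refine ⟨h3, ?_⟩
    have h4 := congrFun h1 k
    rwa [h3, Pi.single_eq_same, Pi.single_eq_same] at h4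
  have hem : (e m : F) = 1 ∨ (e m : F) = -1 := by
    have h1 := (hππ m).2
    rw [hπm] at h1
    exact mul_self_eq_one_iff.mp h1
  rcases hem with hem | hem
  swap
  · -- at least two coordinates are fixed
    obtain ⟨T, hT⟩ : ∃ T : Finset (Fin n), T = Finset.univ.filter fun k => (π k ≠ k ∨ (e k : F) ≠ 1) ∧ k ≤ π k :=
      ⟨_, rfl⟩
    have hT4 : T.card ≤ 4 ∧ (4 ≤ T.card → ∀ w ∈ Submodule.span F ({𝕖 i - 𝕖 j, 𝕖 m, A, B} : Set (Fin n → F)),
        (z : Matrix (Fin n) (Fin n) F) *ᵥ w = -w) := by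
      have hv : ∀ k ∈ T, ∀ k' ∈ T, ((z : Matrix (Fin n) (Fin n) F) *ᵥ 𝕖 k' - 𝕖 k') k = 0 ↔ k' ≠ k := by
        intro k hk k' hk'
        rw [hT, Finset.mem_filter] at hk hk'
        rw [hze', Pi.sub_apply]
        constructor
        · intro h0 he
          subst he
          by_cases hp : π k' = k'
          · rw [hp, Pi.single_eq_same, Pi.single_eq_same, sub_eq_zero] at h0
            exact hk.2.1.elim (fun h1 => h1 hp) (fun h1 => h1 h0)
          · rw [Pi.single_eq_of_ne (Ne.symm hp), Pi.single_eq_same] at h0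
            simp at h0
        · intro hne
          rw [Pi.single_eq_of_ne (Ne.symm hne), Pi.single_eq_of_ne, sub_zero]
          intro he
          have h1 := hk'.2.2
          have h3 := hk.2.2
          rw [← he] at h1
          rw [he, (hππ k').1] at h3
          exact hne (le_antisymm (h1.trans (le_of_eq he)) (h3.trans (le_refl _)) |> fun e => by omega)
      have hli : LinearIndependent F fun k : T => (z : Matrix (Fin n) (Fin n) F) *ᵥ 𝕖 (k : Fin n) - 𝕖 (k : Fin n) := by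
        rw [Fintype.linearIndependent_iff]
        intro c hc k
        have h1 := congrFun hc k
        rw [Finset.sum_apply, Finset.sum_eq_single k (fun k' _ hk' => by
          rw [Pi.smul_apply, (hv k k.2 k' k'.2).mpr fun e => hk' (Subtype.ext e), smul_zero])
          (fun hh => absurd (Finset.mem_univ k) hh), Pi.smul_apply, smul_eq_mul, Pi.zero_apply, mul_eq_zero] at h1
        exact h1.resolve_right fun h0 => (hv k k.2 k k.2).mp h0 rfl
      have h1 := finrank_span_eq_card hli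
      have h3 : Submodule.span F (Set.range fun k : T => (z : Matrix (Fin n) (Fin n) F) *ᵥ 𝕖 (k : Fin n) - 𝕖 (k : Fin n)) ≤
          Submodule.span F {𝕖 i - 𝕖 j, 𝕖 m, A, B} := by
        rw [Submodule.span_le]; rintro _ ⟨k, rfl⟩; exact hzR _
      have h4 := Submodule.finrank_mono h3
      have h5 : Module.finrank F (Submodule.span F ({𝕖 i - 𝕖 j, 𝕖 m, A, B} : Set (Fin n → F))) ≤ 4 := by
        refine le_trans (finrank_span_le_card _) ?_
        simp only [Set.toFinset_insert, Set.toFinset_singleton]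
        exact Finset.card_le_four
      rw [h1, Fintype.card_coe] at h4
      refine ⟨by omega, fun hT4' w hw => ?_⟩
      rw [← Submodule.eq_of_le_of_finrank_le h3 (by rw [h1, Fintype.card_coe]; omega)] at hw
      induction hw using Submodule.span_induction with
      | mem x hx =>
        obtain ⟨k, rfl⟩ := hx
        rw [mulVec_sub, ← mul_mulVec, hz2, Units.val_one, one_mulVec, neg_sub]
      | zero => rw [mulVec_zero, neg_zero]
      | add x y _ _ hx hy => rw [mulVec_add, hx, hy, neg_add]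
      | smul c x _ hx => rw [mulVec_smul, hx, smul_neg]
    have hmT : m ∈ T := by
      rw [hT, Finset.mem_filter]
      refine ⟨Finset.mem_univ m, Or.inr fun e1 => h2 ?_, le_of_eq hπm.symm⟩
      rw [hem] at e1; linear_combination -e1
    have hmoved : (T ∪ T.image π).card + 1 ≤ 2 * T.card := by
      have h1 := Finset.card_union_add_card_inter T (T.image π)
      have h3 : 0 < (T ∩ T.image π).card := Finset.card_pos.mpr
        ⟨m, Finset.mem_inter.mpr ⟨hmT, Finset.mem_image.mpr ⟨m, hmT, hπm⟩⟩⟩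
      have h4 := Finset.card_image_le (s := T) (f := π)
      omega
    obtain ⟨U, hU⟩ : ∃ U, U = Finset.univ.filter (fun k => π k = k ∧ (e k : F) = 1) := ⟨_, rfl⟩
    have hcount : n ≤ U.card + (T ∪ T.image π).card := by
      have hsub : (Finset.univ : Finset (Fin n)) ⊆ U ∪ (T ∪ T.image π) := fun k _ => by
        simp only [hU, hT, Finset.mem_union, Finset.mem_filter, Finset.mem_univ, true_and, Finset.mem_image]
        by_cases hk : π k = k ∧ (e k : F) = 1
        · exact Or.inl hk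
        have hk' : π k ≠ k ∨ (e k : F) ≠ 1 := not_and_or.mp hk
        rcases le_total k (π k) with hle | hle
        · exact Or.inr (Or.inl ⟨hk', hle⟩)
        · refine Or.inr (Or.inr ⟨π k, ⟨?_, by rw [(hππ k).1]; exact hle⟩, (hππ k).1⟩)
          by_cases hp : π k = k
          · rw [hp]; exact hk'
          · exact Or.inl fun e' => hp (π.injective e')
      have h1 := (Finset.card_le_card hsub).trans (Finset.card_union_le _ _)
      rwa [Finset.card_univ, Fintype.card_fin] at h1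
    by_cases hT3 : 4 ≤ T.card
    · -- the `-1` space is the whole plane, so both images vanish at a fixed coordinate
      obtain ⟨r, hr⟩ := Finset.card_pos.mp (show 0 < U.card by have := hT4.1; omega)
      rw [hU, Finset.mem_filter] at hr
      have hvanish : ∀ w ∈ Submodule.span F ({𝕖 i - 𝕖 j, 𝕖 m, A, B} : Set (Fin n → F)), w r = 0 := fun w hw => by
        have h1 := hzi w (𝕖 r)
        rw [hT4.2 hT3 w hw, hze', hr.2.1, hr.2.2, neg_left' h.unitary, h.form_single_right] at h1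
        exact (mul_eq_zero.mp (by linear_combination -h1 : (2 : F) * w r = 0)).resolve_left h2
      exact hfull r ⟨hvanish A (Submodule.subset_span (by simp)), hvanish B (Submodule.subset_span (by simp))⟩
    obtain ⟨r, hr, s, hs, hrs⟩ := Finset.one_lt_card.mp (show 1 < U.card by omega)
    rw [hU, Finset.mem_filter] at hr hs
    exact humono (hcent z hzi (by rw [hze', hπm, hem]) hrs (by rw [hze', hr.2.1, hr.2.2])
      (by rw [hze', hs.2.1, hs.2.2]) u huM hzu)
  -- the fixed case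
  obtain ⟨α, hα⟩ : ∃ α : F, (z : Matrix (Fin n) (Fin n) F) *ᵥ (𝕖 i - 𝕖 j) = α • (𝕖 i - 𝕖 j) := by
    obtain ⟨v, hv⟩ : ∃ v, v = (z : Matrix (Fin n) (Fin n) F) *ᵥ (𝕖 i - 𝕖 j) := ⟨_, rfl⟩
    refine ⟨v i, ?_⟩
    have htv : (t : Matrix (Fin n) (Fin n) F) *ᵥ v = -v := by
      rw [hv, ← mul_mulVec, ← hzt, mul_mulVec, mulVec_sub, hte, hte, if_neg hi, if_neg hj, Equiv.swap_apply_left,
        Equiv.swap_apply_right, ← mulVec_neg, neg_sub]
    have hvm : v m = 0 := by
      rw [← h.form_single_right v m, hv, show (Pi.single m 1 : Fin n → F) = (z : Matrix (Fin n) (Fin n) F) *ᵥ 𝕖 m by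
        rw [hze', hπm, hem], hzi, h.form_single_right]
      simp [hi.symm, hj.symm]
    have hval : ∀ k, (if k = m then -1 else (1 : F)) * v k = -v (Equiv.swap i j k) := fun k => by
      have h1 := congrFun htv (Equiv.swap i j k)
      rw [ht, mono_mulVec, hdv, Pi.neg_apply] at h1
      exact h1
    rw [← hv]
    funext k
    by_cases hki : k = i
    · subst hki; simp [hij]
    by_cases hkj : k = j
    · subst hkj
      have h1 := hval i
      rw [if_neg hi, one_mul, Equiv.swap_apply_left] at h1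
      simp [hij.symm]
      linear_combination h1
    by_cases hkm : k = m
    · subst hkm; simp [hki, hkj, hvm]
    have h1 := hval k
    rw [if_neg hkm, one_mul, Equiv.swap_apply_of_ne_of_ne hki hkj] at h1
    simp [hki, hkj]
    exact (mul_eq_zero.mp (by linear_combination h1 : (2 : F) * v k = 0)).resolve_left h2
  have hzW : ∀ w ∈ Submodule.span F ({A, B} : Set (Fin n → F)),
      (z : Matrix (Fin n) (Fin n) F) *ᵥ w ∈ Submodule.span F {A, B} := by
    intro w hw
    have huw : (u : Matrix (Fin n) (Fin n) F) *ᵥ w = -w := by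
      obtain ⟨p, r, rfl⟩ := Submodule.mem_span_pair.mp hw
      rw [mulVec_add, mulVec_smul, mulVec_smul, huy A, huy B, hAA, hBB, hAB, (eq_zero_comm h.unitary).mp hAB]
      module
    obtain ⟨v, hv⟩ : ∃ v, v = (z : Matrix (Fin n) (Fin n) F) *ᵥ w := ⟨_, rfl⟩
    have huv : (u : Matrix (Fin n) (Fin n) F) *ᵥ v = -v := by
      rw [hv, ← mul_mulVec, ← hzu, mul_mulVec, huw, mulVec_neg]
    rw [huy] at huv
    rw [← hv, Submodule.mem_span_pair]
    refine ⟨𝕗 v A, 𝕗 v B, smul_right_injective _ h2 ?_⟩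
    show (2 : F) • _ = (2 : F) • v
    calc (2 : F) • (𝕗 v A • A + 𝕗 v B • B) = v - (v + (-2 * 𝕗 v A) • A + (-2 * 𝕗 v B) • B) := by module
      _ = (2 : F) • v := by rw [huv]; module
  obtain ⟨r, hr⟩ : ∃ r, ∀ c : F, (z : Matrix (Fin n) (Fin n) F) *ᵥ 𝕖 r - 𝕖 r ≠ c • (𝕖 i - 𝕖 j) := by
    by_contra hc
    push Not at hc
    choose c hc using hc
    obtain ⟨c', -, -, haa, -⟩ := exists_uT_of_line h.unitary hzi (hH z hzH).2 (u := 𝕖 i - 𝕖 j)
      (fun e' => by simpa [hij] using congrFun e' i) (fun y => ⟨∑ r, y r * c r, by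
        have hy : y = ∑ r, y r • 𝕖 r := by funext k; simp [Finset.sum_apply, Pi.single_apply]
        have e1 : (z : Matrix (Fin n) (Fin n) F) *ᵥ y - y = (∑ r, y r * c r) • (𝕖 i - 𝕖 j) := by
          conv_lhs => rw [hy]
          rw [mulVec_sum, ← Finset.sum_sub_distrib, Finset.sum_smul]
          exact Finset.sum_congr rfl fun r _ => by rw [mulVec_smul, ← smul_sub, hc, smul_smul]
        rw [← e1]; abel⟩) hz1
    rw [Unitary.sub_left' h.unitary, Unitary.sub_right' h.unitary, Unitary.sub_right' h.unitary, h.form_unit,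
      h.form_unit, h.form_ne hij, h.form_ne hij.symm] at haa
    exact h2 (by linear_combination haa)
  obtain ⟨v, hv⟩ : ∃ v, v = (z : Matrix (Fin n) (Fin n) F) *ᵥ 𝕖 r - 𝕖 r := ⟨_, rfl⟩
  rw [← hv] at hr
  have hzv : (z : Matrix (Fin n) (Fin n) F) *ᵥ v = -v := by
    rw [hv, mulVec_sub, ← mul_mulVec, hz2, Units.val_one, one_mulVec, neg_sub]
  have hvR : v ∈ Submodule.span F ({𝕖 i - 𝕖 j, 𝕖 m, A, B} : Set (Fin n → F)) := hv ▸ hzR _
  obtain ⟨p, v₁, hv₁, hsum⟩ := Submodule.mem_span_insert.mp hvR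
  obtain ⟨p', w, hw, hsum'⟩ := Submodule.mem_span_insert.mp hv₁
  obtain ⟨w', hw', hdec⟩ : ∃ w', w' ∈ Submodule.span F ({A, B} : Set (Fin n → F)) ∧
      v = (-2 : F)⁻¹ • ((p * (α - 1)) • (𝕖 i - 𝕖 j) + w') := by
    refine ⟨(z : Matrix (Fin n) (Fin n) F) *ᵥ w - w, Submodule.sub_mem _ (hzW w hw) hw, ?_⟩
    rw [eq_inv_smul_iff₀ (neg_ne_zero.mpr h2)]
    calc (-2 : F) • v = (z : Matrix (Fin n) (Fin n) F) *ᵥ v - v := by rw [hzv]; module
      _ = _ := by
        rw [hsum, hsum', mulVec_add, mulVec_add, mulVec_smul, mulVec_smul, hα, hze', hπm, hem]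
        module
  rw [eq_inv_smul_iff₀ (neg_ne_zero.mpr h2)] at hdec
  have hw'0 : w' ≠ 0 := fun h0 => hr ((-2 : F)⁻¹ * (p * (α - 1))) (by
    rw [h0, add_zero] at hdec
    rw [← smul_smul, ← hdec, inv_smul_smul₀ (neg_ne_zero.mpr h2)])
  have hvm : v m = 0 := by
    have hrm : r ≠ m := fun e' => hr 0 (by rw [hv, e', hze', hπm, hem, sub_self, zero_smul])
    rw [hv, Pi.sub_apply, hze', Pi.single_eq_of_ne fun e' => hrm (π.injective (e'.symm.trans hπm.symm)),
      Pi.single_eq_of_ne hrm.symm, sub_zero]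
  have hw'e : w' = (-2 : F) • v - (p * (α - 1)) • (𝕖 i - 𝕖 j) := by rw [hdec]; abel
  have hsupp : csupp w' ⊆ {π r, r, i, j} := fun k hk => by
    rw [mem_csupp] at hk
    simp only [Finset.mem_insert, Finset.mem_singleton]
    by_contra hc
    push Not at hc
    exact hk (by rw [hw'e, hv, hze']; simp [hc.1, hc.2.1, hc.2.2.1, hc.2.2.2])
  have hw'm : w' m = 0 := by
    rw [hw'e, Pi.sub_apply, Pi.smul_apply, Pi.smul_apply, hvm]
    simp [hi.symm, hj.symm]
  obtain ⟨hwi, hw4⟩ := hm w' hw' ((Finset.card_le_card hsupp).trans Finset.card_le_four) hw'm hw'0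
  have h3 : csupp w' ⊆ {π r, r, j} := fun k hk => by
    have h1 := hsupp hk
    simp only [Finset.mem_insert, Finset.mem_singleton] at h1 ⊢
    rcases h1 with h1 | h1 | h1 | h1
    · exact Or.inl h1
    · exact Or.inr (Or.inl h1)
    · exact absurd (h1 ▸ mem_csupp.mp hk) (not_not.mpr hwi)
    · exact Or.inr (Or.inr h1)
  have := (Finset.card_le_card h3).trans Finset.card_le_three
  omega

end Frame

end CfsgLib.Classical22.UDecomp
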