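/-
Monomial overgroups in odd characteristic and dimension six: no element lies outside when none outside fixes a
coordinate line.
-/
import Cfsg.Agent.Lib.Classical22.UDecomp.OneOdd

set_option autoImplicit false

namespace CfsgLib.Classical22.UDecomp

open Matrix CfsgLib.Transvec CfsgLib.Transvec.Unitary CfsgLib.Classical22.Monomial
open scoped MatrixGroups

variable {F : Type*} [Field F] {n : ℕ}

local notation:max "𝕖" i:max => (Pi.single i 1 : Fin n → F)

lemma gl_ext_unit {x y : GL (Fin n) F}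
    (h : ∀ k, (x : Matrix (Fin n) (Fin n) F) *ᵥ 𝕖 k = (y : Matrix (Fin n) (Fin n) F) *ᵥ 𝕖 k) : x = y :=
  Units.ext (Matrix.ext fun r k => by rw [← col_eq, ← col_eq, h k])

lemma mono_values {π τ : Equiv.Perm (Fin n)} {d e : Fin n → Fˣ} (h : mono π d = mono τ e) (k : Fin n) :
    (d k : F) = e k := by
  have h1 := mono_inj h
  subst h1
  have h2 := congrArg (fun g : GL (Fin n) F => (g : Matrix (Fin n) (Fin n) F) (π k) k) h
  simpa [mono_apply] using h2

lemma mono_sq {π : Equiv.Perm (Fin n)} {e : Fin n → Fˣ} (h : mono π e * mono π e = 1) (k : Fin n) :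
    π (π k) = k ∧ (e (π k) : F) * e k = 1 := by
  rw [mono_mul, ← mono_one] at h
  refine ⟨?_, ?_⟩
  · have h1 := DFunLike.congr_fun (mono_inj h) k
    simpa using h1
  · have h1 := mono_values h k
    simpa using h1

lemma trace_mono (π : Equiv.Perm (Fin n)) (d : Fin n → Fˣ) :
    Matrix.trace (mono π d : Matrix (Fin n) (Fin n) F) = ∑ k, if π k = k then (d k : F) else 0 := by
  simp only [Matrix.trace, Matrix.diag_apply, mono_apply, eq_comm]

lemma trace_conj_eq {w y y' : GL (Fin n) F} (h : w * y * w⁻¹ = y') :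
    Matrix.trace (y' : Matrix (Fin n) (Fin n) F) = Matrix.trace (y : Matrix (Fin n) (Fin n) F) := by
  rw [← h, Units.val_mul, Units.val_mul, Matrix.trace_units_conj]

lemma conj_pow_involutions {G : Type*} [Group G] {t x : G} (ht : t * t = 1) (hx : x * x = 1) (j : ℕ) :
    (t * x) ^ j * t * ((t * x) ^ j)⁻¹ = (t * x) ^ (2 * j) * t := by
  obtain ⟨w, hw⟩ : ∃ w, w = t * x := ⟨_, rfl⟩
  have h1 : t * w⁻¹ = w * t := by
    rw [hw, _root_.mul_inv_rev, inv_eq_of_mul_eq_one_right ht, inv_eq_of_mul_eq_one_right hx, mul_assoc]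
  rw [← hw]
  induction j with
  | zero => simp
  | succ j ih =>
    calc w ^ (j + 1) * t * (w ^ (j + 1))⁻¹ = w * (w ^ j * t * (w ^ j)⁻¹) * w⁻¹ := by
          rw [pow_succ', _root_.mul_inv_rev]; simp only [mul_assoc]
      _ = w * w ^ (2 * j) * (t * w⁻¹) := by rw [ih]; simp only [mul_assoc]
      _ = w ^ (2 * (j + 1)) * t := by
        rw [h1, ← mul_assoc, ← pow_succ', ← pow_succ, show 2 * (j + 1) = 2 * j + 1 + 1 by ring]

/-- Six distinct coordinates exhaust everything. -/
lemma exhaust_six (hn : n = 6) {i j k l m r : Fin n} (hd : ([i, j, k, l, m, r] : List (Fin n)).Nodup) (x : Fin n) :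
    x = i ∨ x = j ∨ x = k ∨ x = l ∨ x = m ∨ x = r := by
  have h1 : ([i, j, k, l, m, r] : List (Fin n)).toFinset = Finset.univ :=
    Finset.eq_univ_of_card _ (by rw [List.toFinset_card_of_nodup hd, Fintype.card_fin]; simp [hn])
  have h2 : x ∈ ([i, j, k, l, m, r] : List (Fin n)).toFinset := h1 ▸ Finset.mem_univ x
  simpa using h2

lemma sum_six {A : Type*} [AddCommMonoid A] (hn : n = 6) {i j k l m r : Fin n}
    (hd : ([i, j, k, l, m, r] : List (Fin n)).Nodup) (φ : Fin n → A) :
    ∑ x, φ x = φ i + φ j + φ k + φ l + φ m + φ r := by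
  have h1 : ([i, j, k, l, m, r] : List (Fin n)).toFinset = Finset.univ :=
    Finset.eq_univ_of_card _ (by rw [List.toFinset_card_of_nodup hd, Fintype.card_fin]; simp [hn])
  rw [← h1, List.sum_toFinset φ hd]
  simp [add_assoc]

lemma prod_six {A : Type*} [CommMonoid A] (hn : n = 6) {i j k l m r : Fin n}
    (hd : ([i, j, k, l, m, r] : List (Fin n)).Nodup) (φ : Fin n → A) :
    ∏ x, φ x = φ i * φ j * φ k * φ l * φ m * φ r := by
  have h1 : ([i, j, k, l, m, r] : List (Fin n)).toFinset = Finset.univ :=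
    Finset.eq_univ_of_card _ (by rw [List.toFinset_card_of_nodup hd, Fintype.card_fin]; simp [hn])
  rw [← h1, List.prod_toFinset φ hd]
  simp [mul_assoc]

/-- A monomial involution of determinant one with a fixed coordinate. -/
lemma classify_six (hn : n = 6) {π : Equiv.Perm (Fin n)} {e : Fin n → Fˣ} (hz : mono π e * mono π e = 1)
    (hdet : (mono π e : Matrix (Fin n) (Fin n) F).det = 1) {m : Fin n} (hm : π m = m) :
    π = 1 ∨ (∃ i j, i ≠ j ∧ π = Equiv.swap i j) ∨
      ∃ i j k l r, ([i, j, k, l, m, r] : List (Fin n)).Nodup ∧ π = Equiv.swap i j * Equiv.swap k l ∧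
        (e m : F) = e r := by
  classical
  have hππ := fun x => (mono_sq hz x).1
  by_cases h1 : π = 1
  · exact Or.inl h1
  refine Or.inr ?_
  obtain ⟨i, hi⟩ : ∃ i, π i ≠ i := by
    by_contra hc
    push Not at hc
    exact h1 (Equiv.ext hc)
  by_cases h2 : ∀ x, x ≠ i → x ≠ π i → π x = x
  · refine Or.inl ⟨i, π i, Ne.symm hi, Equiv.ext fun x => ?_⟩
    by_cases e1 : x = i
    · subst e1; rw [Equiv.swap_apply_left]
    by_cases e2 : x = π i
    · subst e2; rw [Equiv.swap_apply_right, hππ]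
    rw [Equiv.swap_apply_of_ne_of_ne e1 e2, h2 x e1 e2]
  push Not at h2
  obtain ⟨k, hk1, hk2, hk⟩ := h2
  have hinj : ∀ {x y}, π x = π y → x = y := fun h => π.injective h
  have d5 : ([i, π i, k, π k, m] : List (Fin n)).Nodup := by
    simp only [List.nodup_cons, List.mem_cons, List.not_mem_nil, or_false, not_or, List.nodup_nil, and_true,
      not_false_eq_true]
    refine ⟨⟨Ne.symm hi, Ne.symm hk1, fun h => hk2 (by rw [h, hππ]), fun h => hi (by rw [h, hm])⟩,
      ⟨Ne.symm hk2, fun h => hk1 (hinj h).symm, fun h => hi ?_⟩, ⟨Ne.symm hk, fun h => hk (by rw [h, hm])⟩,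
      fun h => hk ?_⟩
    · rw [hinj (h.trans hm.symm), hm]
    · rw [hinj (h.trans hm.symm), hm]
  obtain ⟨r, hr⟩ : ∃ r, r ∉ ([i, π i, k, π k, m] : List (Fin n)).toFinset := by
    by_contra hc
    push Not at hc
    have h3 := Finset.card_le_card (show (Finset.univ : Finset (Fin n)) ⊆ _ from fun x _ => hc x)
    rw [Finset.card_univ, Fintype.card_fin, List.toFinset_card_of_nodup d5] at h3
    simp at h3
    omega
  simp only [List.mem_toFinset, List.mem_cons, List.not_mem_nil, or_false, not_or] at hr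
  have hd : ([i, π i, k, π k, m, r] : List (Fin n)).Nodup := by
    simp only [List.nodup_cons, List.mem_cons, List.not_mem_nil, or_false, not_or, List.nodup_nil, and_true,
      not_false_eq_true] at d5 ⊢
    obtain ⟨⟨a1, a2, a3, a4⟩, ⟨b1, b2, b3⟩, ⟨c1, c2⟩, c3⟩ := d5
    obtain ⟨r1, r2, r3, r4, r5⟩ := hr
    exact ⟨⟨a1, a2, a3, a4, Ne.symm r1⟩, ⟨b1, b2, b3, Ne.symm r2⟩, ⟨c1, c2, Ne.symm r3⟩, ⟨c3, Ne.symm r4⟩,
      Ne.symm r5⟩
  obtain ⟨r1, r2, r3, r4, r5⟩ := hr
  have hr' : π r = r := by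
    rcases exhaust_six hn hd (π r) with h | h | h | h | h | h
    · exact absurd (by rw [← h, hππ]) r2
    · exact absurd (hinj h) r1
    · exact absurd (by rw [← h, hππ]) r4
    · exact absurd (hinj h) r3
    · exact absurd (hinj (h.trans hm.symm)) r5
    · exact h
  have hπ : π = Equiv.swap i (π i) * Equiv.swap k (π k) := by
    simp only [List.nodup_cons, List.mem_cons, List.not_mem_nil, or_false, not_or, List.nodup_nil, and_true,
      not_false_eq_true] at hd
    refine Equiv.ext fun x => ?_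
    rw [Equiv.Perm.mul_apply]
    by_cases e3 : x = k
    · subst e3
      rw [Equiv.swap_apply_left, Equiv.swap_apply_of_ne_of_ne (Ne.symm hd.1.2.2.1) (Ne.symm hd.2.1.2.1)]
    by_cases e4 : x = π k
    · subst e4
      rw [Equiv.swap_apply_right, Equiv.swap_apply_of_ne_of_ne (Ne.symm hd.1.2.1) (Ne.symm hd.2.1.1), hππ]
    rw [Equiv.swap_apply_of_ne_of_ne e3 e4]
    by_cases e1 : x = i
    · subst e1; rw [Equiv.swap_apply_left]
    by_cases e2 : x = π i
    · subst e2; rw [Equiv.swap_apply_right, hππ]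
    rw [Equiv.swap_apply_of_ne_of_ne e1 e2]
    rcases exhaust_six hn (by
      simp only [List.nodup_cons, List.mem_cons, List.not_mem_nil, or_false, not_or, List.nodup_nil, and_true,
        not_false_eq_true]
      exact hd : ([i, π i, k, π k, m, r] : List (Fin n)).Nodup) x with h | h | h | h | h | h
    · exact absurd h e1
    · exact absurd h e2
    · exact absurd h e3
    · exact absurd h e4
    · rw [h, hm]
    · rw [h, hr']
  refine Or.inr ⟨i, π i, k, π k, r, hd, hπ, ?_⟩
  have h4 := hdet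
  rw [det_mono, prod_six hn hd, hπ, map_mul, Equiv.Perm.sign_swap (Ne.symm hi), Equiv.Perm.sign_swap (Ne.symm hk)] at h4
  simp only [← hπ] at h4
  have hi' := (mono_sq hz i).2
  have hk' := (mono_sq hz k).2
  have hm' := (mono_sq hz m).2
  rw [hm] at hm'
  norm_num at h4
  linear_combination (e r : F) * hm' - (e m : F) * h4
    + ((e m : F) * e m * e r * e (π k) * e k) * hi' + ((e m : F) * e m * e r) * hk'

variable [Fintype F] {σ : F ≃+* F} {q : ℕ} {M : Subgroup (GL (Fin n) F)}

local notation "𝕗" => Cfsg.hermForm n F q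

/-- The diagonal sign change at two coordinates. -/
noncomputable def signPair (q : ℕ) (a b : Fin n) : GL (Fin n) F :=
  (qR (Cfsg.hermForm n F q) (Pi.single a 1 : Fin n → F) (-1) *
    qR (Cfsg.hermForm n F q) (Pi.single b 1 : Fin n → F) (-1) : GL (Fin n) F)

lemma norm_neg_one : (-1 : F) * σ (-1) = 1 := by rw [map_neg, map_one]; ring

lemma signPair_apply (h : QField σ q) {a b : Fin n} (hab : a ≠ b) (k : Fin n) :
    ((signPair q a b : GL (Fin n) F) : Matrix (Fin n) (Fin n) F) *ᵥ 𝕖 k = Pi.single k (if k = a ∨ k = b then -1 else 1) := by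
  funext r
  rw [signPair, h.torus_apply hab norm_neg_one norm_neg_one]
  by_cases hr : r = k
  · subst hr
    by_cases h1 : r = a
    · subst h1; simp
    by_cases h3 : r = b
    · subst h3; simp
    simp [h1, h3]
  · simp [hr]

lemma signPair_eq_mono (h : QField σ q) {a b : Fin n} (hab : a ≠ b) :
    (signPair q a b : GL (Fin n) F) = mono 1 (fun k => if k = a ∨ k = b then -1 else 1) :=
  gl_ext_unit fun k => by
    rw [signPair_apply h hab, mono_mulVec_single, mul_one, Equiv.Perm.one_apply]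
    split_ifs <;> simp

lemma signPair_sq (h : QField σ q) {a b : Fin n} (hab : a ≠ b) :
    (signPair q a b : GL (Fin n) F) * signPair q a b = 1 := by
  rw [signPair_eq_mono h hab, mono_mul, ← mono_one]
  congr 1
  funext k
  by_cases hk : k = a ∨ k = b <;> simp [hk]

section Frame

variable (hH : ∀ g ∈ M, Iso (Cfsg.hermForm n F q) g ∧ (g : Matrix (Fin n) (Fin n) F).det = 1)
variable (hM : ∀ g : GL (Fin n) F, Iso (Cfsg.hermForm n F q) g → (g : Matrix (Fin n) (Fin n) F).det = 1 →
  IsMono g → g ∈ M)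

include hM

lemma signPair_mem (h : QField σ q) {a b : Fin n} (hab : a ≠ b) : (signPair q a b : GL (Fin n) F) ∈ M := by
  obtain ⟨h1, h2, h3⟩ := h.torus_mem_mono hab (norm_neg_one (σ := σ))
  have e : ((-1 : F))⁻¹ = -1 := by norm_num
  rw [e] at h1 h2 h3
  exact hM _ h1 h2 h3

lemma swapSign_mem (h : QField σ q) {i j m : Fin n} (hij : i ≠ j) (him : i ≠ m) (hjm : j ≠ m) {d : Fin n → Fˣ}
    (hd : ∀ k, k ≠ i → k ≠ j → (d k : F) = if k = m then -1 else 1) (hdn : ∀ k, (d k : F) * σ (d k) = 1)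
    (hdij : (d i : F) * d j = 1) : mono (Equiv.swap i j) d ∈ M := by
  refine hM _ (h.iso_mono _ d hdn) ?_ (isMono_mono _ _)
  rw [det_mono, Equiv.Perm.sign_swap hij, ← Finset.mul_prod_erase _ _ (Finset.mem_univ i),
    ← Finset.mul_prod_erase _ _ (show j ∈ Finset.univ.erase i by simp [hij.symm]),
    Finset.prod_eq_single m (fun k hk hkm => by
      simp only [Finset.mem_erase] at hk
      rw [hd k hk.2.1 hk.1, if_neg hkm]) (fun hh => absurd (by simp [him.symm, hjm.symm]) hh),
    hd m him.symm hjm.symm, if_pos rfl]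
  norm_num
  linear_combination hdij

include hH

variable (hfix : ∀ g ∈ M, ∀ a k : Fin n, ∀ c : F,
  (g : Matrix (Fin n) (Fin n) F) *ᵥ Pi.single a 1 = Pi.single k c → IsMono g)

include hfix

/-- An element commuting with a non-scalar diagonal one is monomial. -/
lemma mono_of_comm_diag (h : QField σ q) (h2 : (2 : F) ≠ 0) (hq : 3 ≤ q) (hn : 5 ≤ n) {z c : GL (Fin n) F}
    (hc : c ∈ M) {μ : Fin n → Fˣ} (hz : z = mono 1 μ) {a b : Fin n} (hab : (μ a : F) ≠ μ b)
    (hcomm : z * c = c * z) : IsMono c := by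
  classical
  subst hz
  have hentry : ∀ r s, (μ r : F) ≠ μ s → (c : Matrix (Fin n) (Fin n) F) r s = 0 := by
    intro r s hrs
    have h1 := congrArg (fun G : GL (Fin n) F => ((G : Matrix (Fin n) (Fin n) F) *ᵥ 𝕖 s) r) hcomm
    simp only [mul_mulVec, mono_mulVec_single, Equiv.Perm.one_apply, mul_one] at h1
    rw [show ((mono 1 μ : GL (Fin n) F) : Matrix (Fin n) (Fin n) F) *ᵥ ((c : Matrix (Fin n) (Fin n) F) *ᵥ 𝕖 s) =
      (fun i => (μ i : F) * ((c : Matrix (Fin n) (Fin n) F) *ᵥ 𝕖 s) i) from diag_mulVec μ _] at h1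
    dsimp only at h1
    rw [show (Pi.single s (μ s : F) : Fin n → F) = (μ s : F) • 𝕖 s by rw [← Pi.single_smul, smul_eq_mul, mul_one],
      mulVec_smul, Pi.smul_apply, smul_eq_mul, col_eq] at h1
    exact (mul_eq_zero.mp (by linear_combination h1 :
      ((μ r : F) - μ s) * (c : Matrix (Fin n) (Fin n) F) r s = 0)).resolve_left (sub_ne_zero.mpr hrs)
  by_contra hcm
  obtain ⟨m, s, s', hss, hs, hs'⟩ : ∃ m s s' : Fin n, s ≠ s' ∧ (μ m : F) ≠ μ s ∧ (μ m : F) ≠ μ s' := by
    by_cases hbig : 1 < (Finset.univ.filter fun s => (μ a : F) ≠ μ s).card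
    · obtain ⟨s, hs, s', hs', hss⟩ := Finset.one_lt_card.mp hbig
      exact ⟨a, s, s', hss, (Finset.mem_filter.mp hs).2, (Finset.mem_filter.mp hs').2⟩
    · have hb : ∀ s, (μ a : F) ≠ μ s → s = b := fun s hs => by
        by_contra hsb
        exact hbig (Finset.one_lt_card.mpr ⟨s, by simp [hs], b, by simp [hab], hsb⟩)
      obtain ⟨s, hs, s', hs', hss⟩ : ∃ s ∈ Finset.univ.erase b, ∃ s' ∈ Finset.univ.erase b, s ≠ s' :=
        Finset.one_lt_card.mp (by
          rw [Finset.card_erase_of_mem (Finset.mem_univ _), Finset.card_univ, Fintype.card_fin]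
          omega)
      refine ⟨b, s, s', hss, ?_, ?_⟩ <;>
      · intro he
        first
        | exact Finset.ne_of_mem_erase hs (hb s (he ▸ hab))
        | exact Finset.ne_of_mem_erase hs' (hb s' (he ▸ hab))
  exact spread hH hM hfix h h2 hq hn hc hcm hss m ⟨hentry m s hs, hentry m s' hs'⟩

/-- A conjugate of a diagonal sign change by an element outside is not monomial. -/
lemma not_isMono_conj_signPair (h : QField σ q) (h2 : (2 : F) ≠ 0) (hq : 3 ≤ q) (hn : 5 ≤ n) {g : GL (Fin n) F}
    (hg : g ∈ M) (hgm : ¬ IsMono g) {a b : Fin n} (hab : a ≠ b) : ¬ IsMono (g * signPair q a b * g⁻¹) := by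
  classical
  intro hum
  obtain ⟨A, hA⟩ : ∃ A, A = (g : Matrix (Fin n) (Fin n) F) *ᵥ 𝕖 a := ⟨_, rfl⟩
  obtain ⟨B, hB⟩ : ∃ B, B = (g : Matrix (Fin n) (Fin n) F) *ᵥ 𝕖 b := ⟨_, rfl⟩
  have hAA : 𝕗 A A = 1 := by rw [hA, image_form hH h hg, if_pos rfl]
  have hBB : 𝕗 B B = 1 := by rw [hB, image_form hH h hg, if_pos rfl]
  have hAB : 𝕗 A B = 0 := by rw [hA, hB, image_form hH h hg, if_neg hab]
  have hfull : ∀ k, ¬ (A k = 0 ∧ B k = 0) := fun k => by
    rw [hA, hB, col_eq, col_eq]; exact spread hH hM hfix h h2 hq hn hg hgm hab k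
  obtain ⟨u, hu⟩ : ∃ u, u = g * signPair q a b * g⁻¹ := ⟨_, rfl⟩
  rw [← hu] at hum
  have huy : ∀ y, (u : Matrix (Fin n) (Fin n) F) *ᵥ y = y + (-2 * 𝕗 y A) • A + (-2 * 𝕗 y B) • B := fun y => by
    rw [hu, signPair, show g * (qR 𝕗 (𝕖 a) (-1) * qR 𝕗 (𝕖 b) (-1)) * g⁻¹ =
      (g * qR 𝕗 (𝕖 a) (-1) * g⁻¹) * (g * qR 𝕗 (𝕖 b) (-1) * g⁻¹) by group,
      conj_qR h.unitary (hH g hg).1 (h.form_unit a) norm_neg_one,
      conj_qR h.unitary (hH g hg).1 (h.form_unit b) norm_neg_one, ← hA, ← hB,
      torus_mulVec h.unitary hAA hBB hAB norm_neg_one norm_neg_one]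
    norm_num
  have hW : ∀ r, (u : Matrix (Fin n) (Fin n) F) *ᵥ 𝕖 r - 𝕖 r ∈ Submodule.span F {A, B} ∧
      (csupp ((u : Matrix (Fin n) (Fin n) F) *ᵥ 𝕖 r - 𝕖 r)).card ≤ 2 := fun r => by
    refine ⟨Submodule.mem_span_pair.mpr ⟨_, _, by rw [huy]; abel⟩, ?_⟩
    obtain ⟨k, c, -, hk⟩ := IsMonoImage hum r
    rw [hk]
    refine le_trans (Finset.card_le_card (t := {k, r}) fun s hs => ?_) Finset.card_le_two
    rw [mem_csupp] at hs
    rw [Finset.mem_insert, Finset.mem_singleton]
    by_contra hc; push Not at hc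
    exact hs (by simp [hc.1, hc.2])
  have hsmall : ∀ v w : Fin n → F, v ∈ Submodule.span F {A, B} → w ∈ Submodule.span F {A, B} → v ≠ 0 →
      (csupp v).card ≤ 2 → (csupp w).card ≤ 2 → ∃ c : F, w = c • v := by
    intro v w hv hw hv0 hv4 hw4
    by_contra hc
    push Not at hc
    obtain ⟨hAm, hBm⟩ := mem_span_of_pair hv hw hv0 hc
    obtain ⟨k, hk⟩ : ∃ k, k ∉ csupp v ∪ csupp w := by
      by_contra hh
      push Not at hh
      have h1 := (Finset.card_le_card (show (Finset.univ : Finset (Fin n)) ⊆ csupp v ∪ csupp w from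
        fun k _ => hh k)).trans (Finset.card_union_le _ _)
      rw [Finset.card_univ, Fintype.card_fin] at h1
      omega
    rw [Finset.mem_union, mem_csupp, mem_csupp, not_or, not_not, not_not] at hk
    exact hfull k ⟨zero_of_mem_span_pair hAm hk.1 hk.2, zero_of_mem_span_pair hBm hk.1 hk.2⟩
  obtain ⟨v, hv⟩ : ∃ v : Fin n → F, ∀ r, ∃ c : F, (u : Matrix (Fin n) (Fin n) F) *ᵥ 𝕖 r - 𝕖 r = c • v := by
    by_cases hz : ∀ r, (u : Matrix (Fin n) (Fin n) F) *ᵥ 𝕖 r - 𝕖 r = 0
    · exact ⟨0, fun r => ⟨0, by rw [hz r, zero_smul]⟩⟩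
    · push Not at hz
      obtain ⟨r₀, hr₀⟩ := hz
      exact ⟨_, fun r => hsmall _ _ (hW r₀).1 (hW r).1 hr₀ (hW r₀).2 (hW r).2⟩
  have hall : ∀ y, ∃ c : F, (u : Matrix (Fin n) (Fin n) F) *ᵥ y - y = c • v := fun y => by
    choose c hc using hv
    refine ⟨∑ r, y r * c r, ?_⟩
    have hy : y = ∑ r, y r • 𝕖 r := by
      funext k; simp [Finset.sum_apply, Pi.single_apply]
    conv_lhs => rw [hy]
    rw [mulVec_sum, ← Finset.sum_sub_distrib, Finset.sum_smul]
    exact Finset.sum_congr rfl fun r _ => by rw [mulVec_smul, ← smul_sub, hc, smul_smul]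
  obtain ⟨c₁, hc₁⟩ := hall A
  obtain ⟨c₂, hc₂⟩ := hall B
  rw [huy, hAA, hAB] at hc₁
  rw [huy, (eq_zero_comm h.unitary).mp hAB, hBB] at hc₂
  have e1 : c₁ • v = (-2 : F) • A := by rw [← hc₁]; module
  have e2 : c₂ • v = (-2 : F) • B := by rw [← hc₂]; module
  have e3 := congrArg (fun y => 𝕗 y A) (congrArg (c₂ • ·) e1)
  have e4 := congrArg (fun y => 𝕗 y A) (congrArg (c₁ • ·) e2)
  simp only [h.unitary.smul_left, hAA, (eq_zero_comm h.unitary).mp hAB, mul_one, mul_zero] at e3 e4
  rw [mul_left_comm, e4] at e3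
  have hc20 : c₂ = 0 := (mul_eq_zero.mp e3.symm).resolve_right (neg_ne_zero.mpr h2)
  rw [hc20, zero_smul, eq_comm, smul_eq_zero] at e2
  rcases e2 with e2 | e2
  · exact neg_ne_zero.mpr h2 e2
  · rw [e2, zero_left' h.unitary] at hBB; exact zero_ne_one hBB

/-- An element commuting with a monomial involution moving one pair is monomial. -/
lemma mono_of_comm_one_swap (h : QField σ q) (h2 : (2 : F) ≠ 0) (hq : 3 ≤ q) (hn : n = 6)
    {i j : Fin n} (hij : i ≠ j) {e : Fin n → Fˣ}
    (hz : mono (Equiv.swap i j) e * mono (Equiv.swap i j) e = 1)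
    (hzi : Iso 𝕗 (mono (Equiv.swap i j) e)) (hdet : (mono (Equiv.swap i j) e : Matrix (Fin n) (Fin n) F).det = 1)
    {c : GL (Fin n) F} (hc : c ∈ M) (hcomm : mono (Equiv.swap i j) e * c = c * mono (Equiv.swap i j) e) :
    IsMono c := by
  classical
  obtain ⟨R, hR⟩ : ∃ R : Finset (Fin n), R = (Finset.univ.erase i).erase j := ⟨_, rfl⟩
  have hR4 : R.card = 4 := by
    rw [hR, Finset.card_erase_of_mem (by simp [hij.symm]), Finset.card_erase_of_mem (Finset.mem_univ _),
      Finset.card_univ, Fintype.card_fin, hn]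
  have hfixk : ∀ k ∈ R, Equiv.swap i j k = k := fun k hk => by
    simp only [hR, Finset.mem_erase] at hk
    exact Equiv.swap_apply_of_ne_of_ne hk.2.1 hk.1
  have hsign : ∀ k ∈ R, (e k : F) = 1 ∨ (e k : F) = -1 := fun k hk => by
    have h1 := (mono_sq hz k).2
    rw [hfixk k hk] at h1
    exact mul_self_eq_one_iff.mp h1
  obtain ⟨ε, m, r, s, hrs, hm, hr, hs, hεm, hεr, hεs, hεn⟩ : ∃ (ε : F) (m r s : Fin n), r ≠ s ∧ m ∈ R ∧ r ∈ R ∧
      s ∈ R ∧ (e m : F) = -ε ∧ (e r : F) = ε ∧ (e s : F) = ε ∧ (ε = 1 ∨ ε = -1) := by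
    by_cases hP : ∀ k ∈ R, (e k : F) = 1
    · exfalso
      rw [det_mono, Equiv.Perm.sign_swap hij, ← Finset.mul_prod_erase _ _ (Finset.mem_univ i),
        ← Finset.mul_prod_erase _ _ (show j ∈ Finset.univ.erase i by simp [hij.symm]), ← hR,
        Finset.prod_eq_one hP] at hdet
      have h1 := (mono_sq hz i).2
      rw [Equiv.swap_apply_left] at h1
      norm_num at hdet
      exact h2 (by linear_combination -hdet - h1)
    by_cases hN : ∀ k ∈ R, (e k : F) = -1
    · exfalso
      rw [det_mono, Equiv.Perm.sign_swap hij, ← Finset.mul_prod_erase _ _ (Finset.mem_univ i),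
        ← Finset.mul_prod_erase _ _ (show j ∈ Finset.univ.erase i by simp [hij.symm]), ← hR,
        Finset.prod_congr rfl hN, Finset.prod_const, hR4] at hdet
      have h1 := (mono_sq hz i).2
      rw [Equiv.swap_apply_left] at h1
      norm_num at hdet
      exact h2 (by linear_combination -hdet - h1)
    push Not at hP hN
    obtain ⟨p, hp, hp1⟩ := hP
    obtain ⟨p', hp', hp'1⟩ := hN
    replace hp1 := (hsign p hp).resolve_left hp1
    replace hp'1 := (hsign p' hp').resolve_right hp'1
    have hcard := Finset.card_filter_add_card_filter_not (s := R) fun k => (e k : F) = 1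
    by_cases hbig : 1 < (R.filter fun k => (e k : F) = 1).card
    · obtain ⟨r, hr, s, hs, hrs⟩ := Finset.one_lt_card.mp hbig
      rw [Finset.mem_filter] at hr hs
      exact ⟨1, p, r, s, hrs, hp, hr.1, hs.1, hp1, hr.2, hs.2, Or.inl rfl⟩
    · obtain ⟨r, hr, s, hs, hrs⟩ := Finset.one_lt_card.mp (show 1 < (R.filter fun k => ¬ (e k : F) = 1).card by omega)
      rw [Finset.mem_filter] at hr hs
      exact ⟨-1, p', r, s, hrs, hp', hr.1, hs.1, by rw [neg_neg]; exact hp'1, (hsign r hr.1).resolve_left hr.2,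
        (hsign s hs.1).resolve_left hs.2, Or.inr rfl⟩
  by_contra hcm
  obtain ⟨v, hv⟩ : ∃ v, v = ((c⁻¹ : GL (Fin n) F) : Matrix (Fin n) (Fin n) F) *ᵥ 𝕖 m := ⟨_, rfl⟩
  have hzv : (mono (Equiv.swap i j) e : Matrix (Fin n) (Fin n) F) *ᵥ v = (-ε) • v := by
    rw [hv, ← mul_mulVec, show mono (Equiv.swap i j) e * c⁻¹ = c⁻¹ * mono (Equiv.swap i j) e from
      ((Commute.inv_right (show Commute (mono (Equiv.swap i j) e) c from hcomm))).eq, mul_mulVec, mono_mulVec_single,
      hfixk m hm, mul_one, hεm, show (Pi.single m (-ε) : Fin n → F) = (-ε) • 𝕖 m by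
        rw [← Pi.single_smul, smul_eq_mul, mul_one], mulVec_smul]
  have hvk : ∀ {k : Fin n}, k ∈ R → (e k : F) = ε → (c : Matrix (Fin n) (Fin n) F) m k = 0 := by
    intro k hk hek
    have h1 := hzi v (𝕖 k)
    rw [hzv, mono_mulVec_single, hfixk k hk, mul_one, hek,
      show (Pi.single k ε : Fin n → F) = ε • 𝕖 k by rw [← Pi.single_smul, smul_eq_mul, mul_one],
      smul_right' h.unitary, h.form_single_right, h.form_single_right, Pi.smul_apply, smul_eq_mul] at h1
    have h3 : v k = 0 := (mul_eq_zero.mp (by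
      rcases hεn with e' | e' <;> subst e' <;> simp only [map_neg, map_one] at h1 <;> linear_combination -h1 : (2 : F) * v k = 0)).resolve_left h2
    have h4 := (hH c hc).1 v (𝕖 k)
    rw [hv, mulVec_inv_cancel, hermForm_single h.pow, h.form_single_right, ← hv, h3,
      map_eq_zero_iff _ σ.injective, col_eq] at h4
    exact h4
  exact spread hH hM hfix h h2 hq (by omega) hc hcm hrs m ⟨hvk hr hεr, hvk hs hεs⟩

/-- An element commuting with a monomial involution moving two pairs is monomial. -/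
lemma mono_of_comm_two_swaps (h : QField σ q) (h2 : (2 : F) ≠ 0) (hq : 3 ≤ q) (hn : n = 6)
    {i j k l m r : Fin n} (hd6 : ([i, j, k, l, m, r] : List (Fin n)).Nodup) {e : Fin n → Fˣ}
    (hz : mono (Equiv.swap i j * Equiv.swap k l) e * mono (Equiv.swap i j * Equiv.swap k l) e = 1)
    (hem : (e m : F) = 1) (her : (e r : F) = 1) (hen : ∀ x, (e x : F) * σ (e x) = 1)
    {c : GL (Fin n) F} (hc : c ∈ M)
    (hcomm : mono (Equiv.swap i j * Equiv.swap k l) e * c = c * mono (Equiv.swap i j * Equiv.swap k l) e) :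
    IsMono c := by
  classical
  by_contra hcm
  have hn5 : 5 ≤ n := by omega
  have hne := hd6
  simp only [List.nodup_cons, List.mem_cons, List.not_mem_nil, or_false, not_or, List.nodup_nil, and_true,
    not_false_eq_true] at hne
  simp only [← ne_eq] at hne
  obtain ⟨⟨nij, nik, nil, nim, nir⟩, ⟨njk, njl, njm, njr⟩, ⟨nkl, nkm, nkr⟩, ⟨nlm, nlr⟩, nmr⟩ := hne
  obtain ⟨π, hπd⟩ : ∃ π, π = Equiv.swap i j * Equiv.swap k l := ⟨_, rfl⟩
  rw [← hπd] at hz hcomm
  have pi : π i = j := by simp [hπd, Equiv.swap_apply_def, nik, nil]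
  have pj : π j = i := by simp [hπd, Equiv.swap_apply_def, njk, njl, nij.symm]
  have pk : π k = l := by simp [hπd, Equiv.swap_apply_def, nil.symm, njl.symm]
  have pl : π l = k := by simp [hπd, Equiv.swap_apply_def, nkl.symm, nik.symm, njk.symm]
  have pm : π m = m := by simp [hπd, Equiv.swap_apply_def, nim.symm, njm.symm, nkm.symm, nlm.symm]
  have pr : π r = r := by simp [hπd, Equiv.swap_apply_def, nir.symm, njr.symm, nkr.symm, nlr.symm]
  have cases6 := exhaust_six hn hd6
  have eij : (e i : F) * e j = 1 := by have := (mono_sq hz i).2; rw [pi] at this; linear_combination this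
  have ekl : (e k : F) * e l = 1 := by have := (mono_sq hz k).2; rw [pk] at this; linear_combination this
  obtain ⟨z, hzd⟩ : ∃ z, z = mono π e := ⟨_, rfl⟩
  rw [← hzd] at hz hcomm
  -- the sign change on the fixed coordinates
  obtain ⟨D, hD⟩ : ∃ D, D = (signPair q m r : GL (Fin n) F) := ⟨_, rfl⟩
  obtain ⟨δ, hδ⟩ : ∃ δ : Fin n → Fˣ, δ = fun x => if x = m ∨ x = r then -1 else 1 := ⟨_, rfl⟩
  have hDm : D = mono 1 δ := by rw [hD, hδ]; exact signPair_eq_mono h nmr
  have hDM : D ∈ M := hD ▸ signPair_mem hM h nmr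
  have hDz : D * z = z * D := by
    rw [hDm, hzd, mono_mul, mono_mul]
    congr 1
    funext x
    rcases cases6 x with rfl | rfl | rfl | rfl | rfl | rfl <;>
      simp [hδ, pi, pj, pk, pl, pm, pr, nim, nir, njm, njr, nkm, nkr, nlm, nlr, mul_comm]
  obtain ⟨x, hx⟩ : ∃ x, x = c * D * c⁻¹ := ⟨_, rfl⟩
  have hxm : ¬ IsMono x := by rw [hx, hD]; exact not_isMono_conj_signPair hH hM hfix h h2 hq hn5 hc hcm nmr
  have hxM : x ∈ M := hx ▸ M.mul_mem (M.mul_mem hc hDM) (M.inv_mem hc)
  have hx2 : x * x = 1 := by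
    rw [hx, show c * D * c⁻¹ * (c * D * c⁻¹) = c * (D * D) * c⁻¹ by group, hD, signPair_sq h nmr]; group
  have hxz : x * z = z * x := by
    rw [hx]
    have h1 : c⁻¹ * z = z * c⁻¹ := ((Commute.inv_right (show Commute z c from hcomm))).eq.symm
    calc c * D * c⁻¹ * z = c * D * (z * c⁻¹) := by rw [mul_assoc (c * D), h1]
      _ = c * (D * z) * c⁻¹ := by group
      _ = c * (z * D) * c⁻¹ := by rw [hDz]
      _ = (c * z) * D * c⁻¹ := by group
      _ = z * (c * D * c⁻¹) := by rw [← hcomm]; group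
  -- the test involution
  obtain ⟨d, hd⟩ : ∃ d : Fin n → Fˣ, d = fun x => if x = i then e i else if x = j then e j else
      if x = m then -1 else 1 := ⟨_, rfl⟩
  obtain ⟨t, ht⟩ : ∃ t, t = mono (Equiv.swap i j) d := ⟨_, rfl⟩
  have di : (d i : F) = e i := by simp [hd]
  have dj : (d j : F) = e j := by simp [hd, nij.symm]
  have dk : (d k : F) = 1 := by simp [hd, nik.symm, njk.symm, nkm]
  have dl : (d l : F) = 1 := by simp [hd, nil.symm, njl.symm, nlm]
  have dm : (d m : F) = -1 := by simp [hd, nim.symm, njm.symm]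
  have dr : (d r : F) = 1 := by simp [hd, nir.symm, njr.symm, nmr.symm]
  have si : Equiv.swap i j i = j := Equiv.swap_apply_left i j
  have sj : Equiv.swap i j j = i := Equiv.swap_apply_right i j
  have sk : Equiv.swap i j k = k := Equiv.swap_apply_of_ne_of_ne nik.symm njk.symm
  have sl : Equiv.swap i j l = l := Equiv.swap_apply_of_ne_of_ne nil.symm njl.symm
  have sm : Equiv.swap i j m = m := Equiv.swap_apply_of_ne_of_ne nim.symm njm.symm
  have sr : Equiv.swap i j r = r := Equiv.swap_apply_of_ne_of_ne nir.symm njr.symm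
  have hdn : ∀ y, (d y : F) * σ (d y) = 1 := fun y => by
    rcases cases6 y with rfl | rfl | rfl | rfl | rfl | rfl <;>
      simp [di, dj, dk, dl, dm, dr, hen]
  have htM : t ∈ M := ht ▸ swapSign_mem hM h nij nim njm
    (fun y hy1 hy2 => by rw [hd]; simp only [hy1, hy2, if_false]; split_ifs <;> simp) hdn (by rw [di, dj, eij])
  have ht2 : t * t = 1 := by
    rw [ht, mono_mul, ← mono_one, Equiv.swap_mul_self]
    congr 1
    funext y
    apply Units.ext
    rcases cases6 y with rfl | rfl | rfl | rfl | rfl | rfl <;>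
      simp [si, sj, sk, sl, sm, sr, di, dj, dk, dl, dm, dr] <;> linear_combination eij
  have htz : t * z = z * t := by
    rw [ht, hzd, mono_mul, mono_mul]
    congr 1
    · refine Equiv.ext fun y => ?_
      rcases cases6 y with rfl | rfl | rfl | rfl | rfl | rfl <;>
        simp [si, sj, sk, sl, sm, sr, pi, pj, pk, pl, pm, pr]
    · funext y
      apply Units.ext
      rcases cases6 y with rfl | rfl | rfl | rfl | rfl | rfl <;>
        simp [si, sj, sk, sl, sm, sr, pi, pj, pk, pl, pm, pr, di, dj, dk, dl, dm, dr, hem, her] <;> ring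
  have hCt : ∀ y ∈ M, t * y = y * t → IsMono y := fun y hy hty =>
    mono_of_comm_one_swap hH hM hfix h h2 hq hn nij (ht ▸ ht2) (ht ▸ (hH t htM).1) (ht ▸ (hH t htM).2) hy (ht ▸ hty)
  -- traces
  have trt : Matrix.trace (t : Matrix (Fin n) (Fin n) F) = 2 := by
    rw [ht, trace_mono, sum_six hn hd6]
    simp [si, sj, sk, sl, sm, sr, dk, dl, dm, dr, nij, nij.symm]; ring
  have trtz : Matrix.trace ((t * z : GL (Fin n) F) : Matrix (Fin n) (Fin n) F) = 2 := by
    rw [ht, hzd, mono_mul, trace_mono, sum_six hn hd6]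
    simp [si, sj, sk, sl, sm, sr, pi, pj, pk, pl, pm, pr, di, dj, dm, dr, hem, her, nkl, nkl.symm]
    linear_combination 2 * eij
  have trx : Matrix.trace (x : Matrix (Fin n) (Fin n) F) = 2 := by
    rw [trace_conj_eq hx.symm, hDm, trace_mono, sum_six hn hd6]
    simp [hδ, nim, nir, njm, njr, nkm, nkr, nlm, nlr]; ring
  have trxz : Matrix.trace ((x * z : GL (Fin n) F) : Matrix (Fin n) (Fin n) F) = -2 := by
    have e' : c * (D * z) * c⁻¹ = x * z := by
      rw [hx]
      calc c * (D * z) * c⁻¹ = c * D * (z * c⁻¹) := by group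
        _ = c * D * (c⁻¹ * z) := by
          rw [((Commute.inv_right (show Commute z c from hcomm))).eq]
        _ = c * D * c⁻¹ * z := by group
    rw [trace_conj_eq e', hDm, hzd, mono_mul, trace_mono, sum_six hn hd6]
    simp [hδ, pi, pj, pk, pl, pm, pr, hem, her, nij, nij.symm, nkl, nkl.symm]; ring
  have h4 : (2 : F) ≠ -2 := fun e' => by
    rcases mul_eq_zero.mp (by linear_combination e' : (2 : F) * 2 = 0) with e'' | e'' <;> exact h2 e''
  have hcw : ∀ p : ℕ, Commute z ((t * x) ^ p) := fun p =>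
    (Commute.mul_right (show Commute z t from htz.symm) (show Commute z x from hxz.symm)).pow_right p
  by_cases hodd : Odd (orderOf (t * x))
  · obtain ⟨p, hp⟩ := CfsgLib.RankOneSetup.conj_of_odd_orderOf ht2 hx2 hodd
    have e' : (t * x) ^ p * (t * z) * ((t * x) ^ p)⁻¹ = x * z := by
      rw [← mul_assoc, mul_assoc ((t * x) ^ p * t) z, ((hcw p).inv_right).eq, ← mul_assoc, hp]
    exact h4 (trtz.symm.trans ((trace_conj_eq e').symm.trans trxz))
  rw [Nat.not_odd_iff_even] at hodd
  obtain ⟨k', hk'⟩ := hodd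
  have hpos := orderOf_pos (t * x)
  obtain ⟨z', hz'⟩ : ∃ z', z' = (t * x) ^ k' := ⟨_, rfl⟩
  have hz'1 : z' ≠ 1 := hz' ▸ pow_ne_one_of_lt_orderOf (by omega) (by omega)
  have hz'2 : z' * z' = 1 := by rw [hz', ← pow_add, ← hk', pow_orderOf_eq_one]
  have hz'M : z' ∈ M := hz' ▸ M.pow_mem (M.mul_mem htM hxM) _
  have hz't : t * z' = z' * t := by
    have h1 := conj_pow_involutions ht2 hx2 k'
    rw [two_mul, ← hk', pow_orderOf_eq_one, one_mul, ← hz'] at h1
    exact (mul_inv_eq_iff_eq_mul.mp h1).symm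
  have hz'x : z' * x = x * z' := by
    have h1 : Commute z' (t * x) := hz' ▸ (Commute.pow_self _ _)
    have h2' : Commute z' t := hz't.symm
    have h3 : Commute z' (t * (t * x)) := h2'.mul_right h1
    rw [← mul_assoc, ht2, one_mul] at h3
    exact h3.eq
  obtain ⟨π', e', hze⟩ := (hCt z' hz'M hz't).exists_mono
  have heq' : mono (Equiv.swap i j * π') (fun y => d (π' y) * e' y) =
      mono (π' * Equiv.swap i j) (fun y => e' (Equiv.swap i j y) * d y) := by
    rw [← mono_mul, ← mono_mul, ← ht, ← hze]; exact hz't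
  have h' := mono_inj heq'
  have hv' := fun y => mono_values heq' y
  have pm' : π' m = m := by
    have h1 := DFunLike.congr_fun h' m
    have h3 := hv' m
    rw [Equiv.Perm.mul_apply, Equiv.Perm.mul_apply, sm] at h1
    simp only [Units.val_mul, sm, dm] at h3
    have he : (e' m : F) ≠ 0 := Units.ne_zero _
    have h5 : (d (π' m) : F) = -1 := mul_right_cancel₀ he (by linear_combination h3)
    rcases cases6 (π' m) with e0 | e0 | e0 | e0 | e0 | e0
    · rw [e0, si] at h1; exact absurd h1.symm nij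
    · rw [e0, sj] at h1; exact absurd h1 nij
    · rw [e0, dk] at h5; exact absurd (by linear_combination h5) h2
    · rw [e0, dl] at h5; exact absurd (by linear_combination h5) h2
    · exact e0
    · rw [e0, dr] at h5; exact absurd (by linear_combination h5) h2
  have hz'z : z * z' = z' * z := hz' ▸ (hcw k').eq
  rcases classify_six hn (hze ▸ hz'2) (hze ▸ (hH z' hz'M).2) pm' with hp | ⟨a, b, hab, hp⟩ | ⟨a, b, a', b', r', hd', hp, -⟩
  · subst hp
    by_cases hsc : ∀ y, (e' y : F) = e' m
    · have hs : (e' m : F) = -1 := by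
        have h1 := (mono_sq (hze ▸ hz'2) m).2
        rw [Equiv.Perm.one_apply] at h1
        refine (mul_self_eq_one_iff.mp h1).resolve_left fun h1' => hz'1 ?_
        rw [hze, ← mono_one]
        congr 1
        funext y
        exact Units.ext (by rw [hsc, h1']; rfl)
      have hneg : z' = -1 := gl_ext_unit fun y => by
        rw [hze, mono_mulVec_single, Equiv.Perm.one_apply, mul_one, hsc, hs, Units.val_neg, neg_mulVec, Units.val_one,
          one_mulVec, Pi.single_neg]
      rcases Nat.even_or_odd' k' with ⟨p, hp | hp⟩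
      · have h1 := conj_pow_involutions ht2 hx2 p
        rw [← hp, ← hz', hneg] at h1
        have h3 := trace_conj_eq h1
        rw [neg_one_mul, Units.val_neg, Matrix.trace_neg, trt] at h3
        exact h4 h3.symm
      · have h1 := conj_pow_involutions ht2 hx2 p
        have h5 : (t * x) ^ (2 * p) * t = z' * x := by
          rw [hz', hp, pow_succ, mul_assoc, mul_assoc t, hx2, mul_one]
        rw [h5, hneg] at h1
        have h3 := trace_conj_eq h1
        rw [neg_one_mul, Units.val_neg, Matrix.trace_neg, trx, trt] at h3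
        exact h4 h3.symm
    · push Not at hsc
      obtain ⟨y, hy⟩ := hsc
      exact hxm (mono_of_comm_diag hH hM hfix h h2 hq hn5 hxM hze hy hz'x)
  · subst hp
    exact hxm (mono_of_comm_one_swap hH hM hfix h h2 hq hn hab (hze ▸ hz'2) (hze ▸ (hH z' hz'M).1)
      (hze ▸ (hH z' hz'M).2) hxM (hze ▸ hz'x))
  -- two pairs: the same permutation
  have hfp : ∀ y, π' y = y → y = m ∨ y = r' := by
    intro y hy
    have hne := hd'
    simp only [List.nodup_cons, List.mem_cons, List.not_mem_nil, or_false, not_or, List.nodup_nil, and_true,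
      not_false_eq_true] at hne
    simp only [← ne_eq] at hne
    obtain ⟨⟨mab, maa, mab', mam, mar⟩, ⟨mba, mbb, mbm, mbr⟩, ⟨maab, maam, maar⟩, ⟨mbbm, mbbr⟩, mmr⟩ := hne
    rw [hp] at hy
    rcases exhaust_six hn hd' y with rfl | rfl | rfl | rfl | rfl | rfl
    · simp [Equiv.swap_apply_def, maa, mab'] at hy; exact absurd hy mab.symm
    · simp [Equiv.swap_apply_def, mba, mbb, mab.symm] at hy; exact absurd hy mab
    · simp [Equiv.swap_apply_def, mab'.symm, mbb.symm] at hy; exact absurd hy maab.symm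
    · simp [Equiv.swap_apply_def, maa.symm, mba.symm, maab.symm] at hy; exact absurd hy maab
    · exact Or.inl rfl
    · exact Or.inr rfl
  have hcπ : ∀ y, π (π' y) = π' (π y) := fun y => by
    have h1 : mono (π * π') (fun w => e (π' w) * e' w) = mono (π' * π) (fun w => e' (π w) * e w) := by
      rw [← mono_mul, ← mono_mul, ← hzd, ← hze]; exact hz'z
    exact DFunLike.congr_fun (mono_inj h1) y
  have hπ'2 := fun y => (mono_sq (hze ▸ hz'2) y).1
  have hswap : ∀ y, Equiv.swap i j (π' y) = π' (Equiv.swap i j y) := fun y => DFunLike.congr_fun h' y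
  have pr' : π' r = r := by
    have h1 := hcπ r
    rw [pr] at h1
    rcases cases6 (π' r) with e0 | e0 | e0 | e0 | e0 | e0
    · rw [e0, pi] at h1; exact absurd h1.symm nij
    · rw [e0, pj] at h1; exact absurd h1 nij
    · rw [e0, pk] at h1; exact absurd h1.symm nkl
    · rw [e0, pl] at h1; exact absurd h1 nkl
    · have := congrArg π' e0; rw [hπ'2, pm'] at this; exact absurd this nmr.symm
    · exact e0
  have hr' : r' = r := ((hfp r pr').resolve_left nmr.symm).symm
  have hmove : ∀ y, y ≠ m → y ≠ r → π' y ≠ y := fun y h1 h3 hy =>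
    (hfp y hy).elim h1 (fun e0 => h3 (e0.trans hr'))
  have pi' : π' i = j := by
    have h1 := hswap i
    rw [si] at h1
    by_contra hne'
    have h3 : π' i ≠ i := hmove i nim nir
    rw [Equiv.swap_apply_of_ne_of_ne h3 hne'] at h1
    exact nij (π'.injective h1)
  have pj' : π' j = i := by rw [← pi', hπ'2]
  have pk' : π' k = l := by
    rcases cases6 (π' k) with e0 | e0 | e0 | e0 | e0 | e0
    · exact absurd (π'.injective (e0.trans pj'.symm)) njk.symm
    · exact absurd (π'.injective (e0.trans pi'.symm)) nik.symm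
    · exact absurd e0 (hmove k nkm nkr)
    · exact e0
    · exact absurd (π'.injective (e0.trans pm'.symm)) nkm
    · exact absurd (π'.injective (e0.trans pr'.symm)) nkr
  have pl' : π' l = k := by rw [← pk', hπ'2]
  have hππ : π' = π := Equiv.ext fun y => by
    rcases cases6 y with rfl | rfl | rfl | rfl | rfl | rfl <;>
      simp [pi, pj, pk, pl, pm, pr, pi', pj', pk', pl', pm', pr']
  rw [hππ] at hze
  obtain ⟨μ, hμ⟩ : ∃ μ : Fin n → Fˣ, μ = fun y => e' (π y) * e y := ⟨_, rfl⟩
  have hzz : z' * z = mono 1 μ := by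
    rw [hze, hzd, mono_mul, hμ, show π * π = 1 from Equiv.ext fun y => (mono_sq (hzd ▸ hz) y).1]
  by_cases hsc : ∀ y, (μ y : F) = μ m
  swap
  · push Not at hsc
    obtain ⟨y, hy⟩ := hsc
    refine hxm (mono_of_comm_diag hH hM hfix h h2 hq hn5 hxM hzz hy ?_)
    rw [mul_assoc, ← hxz, ← mul_assoc, hz'x, mul_assoc]
  have hμm : (μ m : F) = 1 ∨ (μ m : F) = -1 := by
    have h1 := (mono_sq (hze ▸ hz'2) m).2
    rw [pm] at h1
    rw [hμ]; simp only [pm, Units.val_mul, hem, mul_one]
    exact mul_self_eq_one_iff.mp h1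
  have hz'' : z' = (z' * z) * z := by rw [mul_assoc, hz, mul_one]
  rcases hμm with hμm | hμm
  · have hzeq : z' = z := by
      rw [hz'', hzz, show mono 1 μ = (1 : GL (Fin n) F) from gl_ext_unit fun y => by
        rw [mono_mulVec_single, Equiv.Perm.one_apply, mul_one, hsc, hμm, Units.val_one, one_mulVec], one_mul]
    rcases Nat.even_or_odd' k' with ⟨p, hp | hp⟩
    · -- the anti-fixed vector
      obtain ⟨v, hv⟩ : ∃ v : Fin n → F, v = 𝕖 i - Pi.single j (e i : F) := ⟨_, rfl⟩
      have hzv : (z : Matrix (Fin n) (Fin n) F) *ᵥ v = -v := by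
        rw [hv, hzd, mulVec_sub, mono_mulVec_single, mono_mulVec_single, pi, pj, mul_one,
          show (e j : F) * e i = 1 by linear_combination eij, neg_sub]
      have htv : (t : Matrix (Fin n) (Fin n) F) *ᵥ v = -v := by
        rw [hv, ht, mulVec_sub, mono_mulVec_single, mono_mulVec_single, si, sj, mul_one, di, dj,
          show (e j : F) * e i = 1 by linear_combination eij, neg_sub]
      have hxv : (x : Matrix (Fin n) (Fin n) F) *ᵥ v = v := by
        obtain ⟨v', hv'⟩ : ∃ v', v' = ((c⁻¹ : GL (Fin n) F) : Matrix (Fin n) (Fin n) F) *ᵥ v := ⟨_, rfl⟩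
        have hzv' : (z : Matrix (Fin n) (Fin n) F) *ᵥ v' = -v' := by
          rw [hv', ← mul_mulVec, show z * c⁻¹ = c⁻¹ * z from
            ((Commute.inv_right (show Commute z c from hcomm))).eq, mul_mulVec, hzv, mulVec_neg]
        have h0 : ∀ y, π y = y → (e y : F) = 1 → v' y = 0 := fun y hy1 hy2 => by
          have h1 := congrFun hzv' (π y)
          rw [hzd, mono_mulVec, hy1, hy2, Pi.neg_apply] at h1
          exact (mul_eq_zero.mp (by linear_combination h1 : (2 : F) * v' y = 0)).resolve_left h2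
        have hDv' : (D : Matrix (Fin n) (Fin n) F) *ᵥ v' = v' := by
          funext y
          rw [hDm]
          refine (congrFun (diag_mulVec δ v') y).trans ?_
          rcases cases6 y with rfl | rfl | rfl | rfl | rfl | rfl
          all_goals simp [hδ, h0 _ pm hem, h0 _ pr her, nim, nir, njm, njr, nkm, nkr, nlm, nlr]
        rw [hx, mul_mulVec, mul_mulVec, ← hv', hDv', hv', mulVec_inv_cancel]
      have hpw : ∀ p : ℕ, (((t * x) ^ p : GL (Fin n) F) : Matrix (Fin n) (Fin n) F) *ᵥ v = ((-1 : F) ^ p) • v := by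
        intro p
        induction p with
        | zero => simp
        | succ p ih => rw [pow_succ', mul_mulVec, ih, mulVec_smul, mul_mulVec, hxv, htv, pow_succ]; module
      have h1 := hpw k'
      rw [← hz', hzeq, hzv, hp, pow_mul, neg_one_sq, one_pow, one_smul] at h1
      have h5 := congrFun h1 i
      simp [hv, nij] at h5
      exact h2 (by linear_combination -h5)
    · have h1 := conj_pow_involutions ht2 hx2 p
      rw [show (t * x) ^ (2 * p) * t = z' * x by rw [hz', hp, pow_succ, mul_assoc, mul_assoc t, hx2, mul_one],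
        hzeq, ← hxz] at h1
      exact h4 (trt.symm.trans ((trace_conj_eq h1).symm.trans trxz))
  · have hzeq : z' = -z := by
      rw [hz'', hzz, show mono 1 μ = (-1 : GL (Fin n) F) from gl_ext_unit fun y => by
        rw [mono_mulVec_single, Equiv.Perm.one_apply, mul_one, hsc, hμm, Units.val_neg, neg_mulVec, Units.val_one,
          one_mulVec, Pi.single_neg], neg_one_mul]
    rcases Nat.even_or_odd' k' with ⟨p, hp | hp⟩
    · have h1 := conj_pow_involutions ht2 hx2 p
      rw [← hp, ← hz', hzeq, neg_mul, ← htz] at h1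
      have h3 := trace_conj_eq h1
      rw [Units.val_neg, Matrix.trace_neg, trtz, trt] at h3
      exact h4 h3.symm
    · have h1 := conj_pow_involutions ht2 hx2 p
      rw [show (t * x) ^ (2 * p) * t = z' * x by rw [hz', hp, pow_succ, mul_assoc, mul_assoc t, hx2, mul_one],
        hzeq] at h1
      have h5 : (t * x) ^ p * (t * z) * ((t * x) ^ p)⁻¹ = -x := by
        rw [← mul_assoc, mul_assoc ((t * x) ^ p * t) z, ((hcw p).inv_right).eq, ← mul_assoc, h1, neg_mul, neg_mul,
          mul_assoc, hxz, ← mul_assoc, hz, one_mul]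
      have h3 := trace_conj_eq h5
      rw [Units.val_neg, Matrix.trace_neg, trx, trtz] at h3
      exact h4 h3.symm

/-- No element lies outside when no element outside fixes a coordinate line. -/
theorem no_spread_six (h : QField σ q) (h2 : (2 : F) ≠ 0) (hq : 3 ≤ q) (hn : n = 6) {g : GL (Fin n) F} (hg : g ∈ M)
    (hgm : ¬ IsMono g) : False := by
  classical
  subst hn
  obtain ⟨i, j, m, a, b, hij, him, hjm, hab⟩ : ∃ i j m a b : Fin 6, i ≠ j ∧ i ≠ m ∧ j ≠ m ∧ a ≠ b :=
    ⟨0, 1, 2, 0, 1, by decide, by decide, by decide, by decide⟩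
  obtain ⟨D, hD⟩ : ∃ D, D = (signPair q a b : GL (Fin 6) F) := ⟨_, rfl⟩
  obtain ⟨u, hu⟩ : ∃ u, u = g * D * g⁻¹ := ⟨_, rfl⟩
  have hum : ¬ IsMono u := by rw [hu, hD]; exact not_isMono_conj_signPair hH hM hfix h h2 hq (by omega) hg hgm hab
  have huM : u ∈ M := hu ▸ M.mul_mem (M.mul_mem hg (hD ▸ signPair_mem hM h hab)) (M.inv_mem hg)
  have hu2 : u * u = 1 := by
    rw [hu, show g * D * g⁻¹ * (g * D * g⁻¹) = g * (D * D) * g⁻¹ by group, hD, signPair_sq h hab]; group
  obtain ⟨d, hd⟩ : ∃ d : Fin 6 → Fˣ, d = fun x => if x = m then -1 else 1 := ⟨_, rfl⟩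
  have hdv : ∀ y, (d y : F) = if y = m then -1 else 1 := fun y => by rw [hd]; dsimp only; split_ifs <;> simp
  obtain ⟨t, ht⟩ : ∃ t, t = mono (Equiv.swap i j) d := ⟨_, rfl⟩
  have htM : t ∈ M := ht ▸ swapSign_mem hM h hij him hjm (fun y _ _ => hdv y)
    (fun y => by rw [hdv]; split_ifs <;> simp) (by rw [hdv, hdv, if_neg him, if_neg hjm, one_mul])
  have hsm : Equiv.swap i j m = m := Equiv.swap_apply_of_ne_of_ne him.symm hjm.symm
  have ht2 : t * t = 1 := by
    rw [ht, mono_mul, ← mono_one, Equiv.swap_mul_self]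
    congr 1
    funext y
    apply Units.ext
    rw [Units.val_mul, hdv, hdv, Pi.one_apply, Units.val_one]
    by_cases hy : y = m
    · subst hy; simp [hsm]
    · rw [if_neg hy, mul_one, if_neg fun e => hy ((Equiv.swap i j).injective (e.trans hsm.symm))]
  have hCt : ∀ y ∈ M, t * y = y * t → IsMono y := fun y hy hty =>
    mono_of_comm_one_swap hH hM hfix h h2 hq rfl hij (ht ▸ ht2) (ht ▸ (hH t htM).1) (ht ▸ (hH t htM).2) hy (ht ▸ hty)
  obtain ⟨p₀, hp₀⟩ : ∃ p₀ : Fin 6, p₀ ∉ ({i, j, m} : Finset (Fin 6)) := by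
    by_contra hc
    push Not at hc
    have h1 := (Finset.card_le_card (show (Finset.univ : Finset (Fin 6)) ⊆ {i, j, m} from fun x _ => hc x)).trans
      Finset.card_le_three
    simp at h1
  simp only [Finset.mem_insert, Finset.mem_singleton, not_or] at hp₀
  have trt : Matrix.trace (t : Matrix (Fin 6) (Fin 6) F) = 2 := by
    rw [ht, trace_mono, ← Finset.add_sum_erase _ _ (Finset.mem_univ i),
      ← Finset.add_sum_erase _ _ (show j ∈ Finset.univ.erase i by simp [hij.symm]),
      ← Finset.add_sum_erase _ _ (show m ∈ (Finset.univ.erase i).erase j by simp [him.symm, hjm.symm])]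
    rw [Finset.sum_congr rfl (g := fun _ => (1 : F)) (fun y hy => by
      simp only [Finset.mem_erase] at hy
      rw [Equiv.swap_apply_of_ne_of_ne hy.2.2.1 hy.2.1, if_pos rfl, hdv, if_neg hy.1])]
    rw [Finset.sum_const, Finset.card_erase_of_mem (by simp [him.symm, hjm.symm]),
      Finset.card_erase_of_mem (by simp [hij.symm]), Finset.card_erase_of_mem (Finset.mem_univ _), Finset.card_univ,
      Fintype.card_fin, hsm, Equiv.swap_apply_left, Equiv.swap_apply_right, if_neg hij.symm, if_neg hij, if_pos rfl,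
      hdv, if_pos rfl]
    norm_num
  have tru : Matrix.trace (u : Matrix (Fin 6) (Fin 6) F) = 2 := by
    rw [trace_conj_eq hu.symm, hD, signPair_eq_mono h hab, trace_mono,
      ← Finset.add_sum_erase _ _ (Finset.mem_univ a),
      ← Finset.add_sum_erase _ _ (show b ∈ Finset.univ.erase a by simp [hab.symm])]
    rw [Finset.sum_congr rfl (g := fun _ => (1 : F)) (fun y hy => by
      simp only [Finset.mem_erase] at hy
      simp [hy.1, hy.2.1])]
    rw [Finset.sum_const, Finset.card_erase_of_mem (by simp [hab.symm]),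
      Finset.card_erase_of_mem (Finset.mem_univ _), Finset.card_univ, Fintype.card_fin]
    simp; ring
  have h4 : (2 : F) ≠ -2 := fun e' => by
    rcases mul_eq_zero.mp (by linear_combination e' : (2 : F) * 2 = 0) with e'' | e'' <;> exact h2 e''
  by_cases hodd : Odd (orderOf (t * u))
  · obtain ⟨p, hp⟩ := CfsgLib.RankOneSetup.conj_of_odd_orderOf ht2 hu2 hodd
    obtain ⟨c, hcd⟩ : ∃ c, c = g⁻¹ * (t * u) ^ p := ⟨_, rfl⟩
    have hc : c ∈ M := hcd ▸ M.mul_mem (M.inv_mem hg) (M.pow_mem (M.mul_mem htM huM) _)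
    have hct : c * t = D * c := by
      have e1 : (t * u) ^ p * t = u * (t * u) ^ p := mul_inv_eq_iff_eq_mul.mp hp
      rw [hcd, mul_assoc, e1, hu]; group
    have hcm : IsMono c := by
      by_contra hcm
      refine not_isMono_conj_signPair hH hM hfix h h2 hq (by omega) hc hcm (a := m) (b := p₀) (Ne.symm hp₀.2.2) ?_
      have hcomm : t * signPair q m p₀ = signPair q m p₀ * t := by
        rw [ht, signPair_eq_mono h (Ne.symm hp₀.2.2), mono_mul, mono_mul, mul_one, one_mul]
        congr 1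
        funext y
        rw [mul_comm]
        congr 1
        by_cases hy : y = i
        · subst hy; rw [Equiv.swap_apply_left]; simp [him, hjm, Ne.symm hp₀.1, Ne.symm hp₀.2.1]
        by_cases hy' : y = j
        · subst hy'; rw [Equiv.swap_apply_right]; simp [him, hjm, Ne.symm hp₀.1, Ne.symm hp₀.2.1]
        rw [Equiv.swap_apply_of_ne_of_ne hy hy']
      refine mono_of_comm_diag hH hM hfix h h2 hq (by omega)
        (M.mul_mem (M.mul_mem hc (signPair_mem hM h (Ne.symm hp₀.2.2))) (M.inv_mem hc))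
        (hD.trans (signPair_eq_mono h hab)) (a := a) ?_ ?_ (b := Classical.choose (show ∃ y, y ≠ a ∧ y ≠ b by
          obtain ⟨y, hy⟩ : ((Finset.univ : Finset (Fin 6)).erase a |>.erase b).Nonempty := Finset.card_pos.mp (by
            rw [Finset.card_erase_of_mem (by simp [hab.symm]), Finset.card_erase_of_mem (Finset.mem_univ _)]; simp)
          simp only [Finset.mem_erase] at hy
          exact ⟨y, hy.2.1, hy.1⟩))
      · have hy := Classical.choose_spec (show ∃ y, y ≠ a ∧ y ≠ b by
          obtain ⟨y, hy⟩ : ((Finset.univ : Finset (Fin 6)).erase a |>.erase b).Nonempty := Finset.card_pos.mp (by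
            rw [Finset.card_erase_of_mem (by simp [hab.symm]), Finset.card_erase_of_mem (Finset.mem_univ _)]; simp)
          simp only [Finset.mem_erase] at hy
          exact ⟨y, hy.2.1, hy.1⟩)
        simp only [true_or, if_true, hy.1, hy.2, or_self, if_false, Units.val_neg, Units.val_one]
        intro e
        exact h2 (by linear_combination -e)
      · calc D * (c * signPair q m p₀ * c⁻¹) = (D * c) * signPair q m p₀ * c⁻¹ := by group
          _ = c * (t * signPair q m p₀) * c⁻¹ := by rw [← hct]; group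
          _ = c * signPair q m p₀ * (t * c⁻¹) := by rw [hcomm]; group
          _ = c * signPair q m p₀ * (c⁻¹ * D) := by
            rw [show t * c⁻¹ = c⁻¹ * D by rw [eq_inv_mul_iff_mul_eq, ← mul_assoc, hct, mul_inv_cancel_right]]
          _ = c * signPair q m p₀ * c⁻¹ * D := by group
    obtain ⟨ρ, f', hf'⟩ := hcm.exists_mono
    have h1 := congrArg (fun G : GL (Fin 6) F => (G : Matrix (Fin 6) (Fin 6) F) *ᵥ Pi.single i (1 : F)) hct
    simp only [mul_mulVec] at h1
    rw [ht, hf', mono_mulVec_single, mono_mulVec_single, mono_mulVec_single, Equiv.swap_apply_left, hD,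
      signPair_eq_mono h hab, mono_mulVec_single, Equiv.Perm.one_apply] at h1
    have h3 := congrFun h1 (ρ j)
    rw [Pi.single_eq_same, Pi.single_eq_of_ne (fun e => hij (ρ.injective e).symm)] at h3
    simp [hdv, him] at h3
  rw [Nat.not_odd_iff_even] at hodd
  obtain ⟨k', hk'⟩ := hodd
  have hpos := orderOf_pos (t * u)
  obtain ⟨z, hz⟩ : ∃ z, z = (t * u) ^ k' := ⟨_, rfl⟩
  have hz1 : z ≠ 1 := hz ▸ pow_ne_one_of_lt_orderOf (by omega) (by omega)
  have hz2 : z * z = 1 := by rw [hz, ← pow_add, ← hk', pow_orderOf_eq_one]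
  have hzM : z ∈ M := hz ▸ M.pow_mem (M.mul_mem htM huM) _
  have hzt : t * z = z * t := by
    have h1 := conj_pow_involutions ht2 hu2 k'
    rw [two_mul, ← hk', pow_orderOf_eq_one, one_mul, ← hz] at h1
    exact (mul_inv_eq_iff_eq_mul.mp h1).symm
  have hzu : z * u = u * z := by
    have h1 : Commute z (t * u) := hz ▸ (Commute.pow_self _ _)
    have h2' : Commute z t := hzt.symm
    have h3 : Commute z (t * (t * u)) := h2'.mul_right h1
    rw [← mul_assoc, ht2, one_mul] at h3
    exact h3.eq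
  obtain ⟨π, e, hze⟩ := (hCt z hzM hzt).exists_mono
  have heq : mono (Equiv.swap i j * π) (fun y => d (π y) * e y) =
      mono (π * Equiv.swap i j) (fun y => e (Equiv.swap i j y) * d y) := by
    rw [← mono_mul, ← mono_mul, ← ht, ← hze]; exact hzt
  have pm : π m = m := by
    have h1 := mono_values heq m
    simp only [Units.val_mul, hsm, hdv, if_true] at h1
    by_contra hne
    rw [if_neg hne] at h1
    exact mul_ne_zero h2 (Units.ne_zero (e m)) (by linear_combination h1)
  rcases classify_six rfl (hze ▸ hz2) (hze ▸ (hH z hzM).2) pm with hp | ⟨x, y, hxy, hp⟩ |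
    ⟨x, y, x', y', r, hd6, hp, her⟩
  · subst hp
    by_cases hsc : ∀ y, (e y : F) = e m
    · have hs : (e m : F) = -1 := by
        have h1 := (mono_sq (hze ▸ hz2) m).2
        rw [Equiv.Perm.one_apply] at h1
        refine (mul_self_eq_one_iff.mp h1).resolve_left fun h1' => hz1 ?_
        rw [hze, ← mono_one]
        congr 1
        funext y
        exact Units.ext (by rw [hsc, h1']; rfl)
      have hneg : z = -1 := gl_ext_unit fun y => by
        rw [hze, mono_mulVec_single, Equiv.Perm.one_apply, mul_one, hsc, hs, Units.val_neg, neg_mulVec, Units.val_one,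
          one_mulVec, Pi.single_neg]
      rcases Nat.even_or_odd' k' with ⟨p, hp | hp⟩
      · have h1 := conj_pow_involutions ht2 hu2 p
        rw [← hp, ← hz, hneg] at h1
        have h3 := trace_conj_eq h1
        rw [neg_one_mul, Units.val_neg, Matrix.trace_neg, trt] at h3
        exact h4 h3.symm
      · have h1 := conj_pow_involutions ht2 hu2 p
        rw [show (t * u) ^ (2 * p) * t = z * u by rw [hz, hp, pow_succ, mul_assoc, mul_assoc t, hu2, mul_one],
          hneg] at h1
        have h3 := trace_conj_eq h1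
        rw [neg_one_mul, Units.val_neg, Matrix.trace_neg, tru, trt] at h3
        exact h4 h3.symm
    · push Not at hsc
      obtain ⟨y, hy⟩ := hsc
      exact hum (mono_of_comm_diag hH hM hfix h h2 hq (by omega) huM hze hy hzu)
  · subst hp
    exact hum (mono_of_comm_one_swap hH hM hfix h h2 hq rfl hxy (hze ▸ hz2) (hze ▸ (hH z hzM).1)
      (hze ▸ (hH z hzM).2) huM (hze ▸ hzu))
  subst hp
  have hen : ∀ w, (e w : F) * σ (e w) = 1 := fun w => by
    have h1 := image_form hH h hzM w w
    rwa [hze, mono_mulVec_single, mul_one, if_pos rfl,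
      show (Pi.single ((Equiv.swap x y * Equiv.swap x' y') w) (e w : F) : Fin 6 → F) =
        (e w : F) • Pi.single ((Equiv.swap x y * Equiv.swap x' y') w) (1 : F) by rw [← Pi.single_smul, smul_eq_mul, mul_one],
      h.unitary.smul_left, smul_right' h.unitary, h.form_single_right, Pi.single_eq_same, mul_one] at h1
  have hem : (e m : F) = 1 ∨ (e m : F) = -1 := by
    have h1 := (mono_sq (hze ▸ hz2) m).2
    rw [pm] at h1
    exact mul_self_eq_one_iff.mp h1
  rcases hem with hem | hem
  · exact hum (mono_of_comm_two_swaps hH hM hfix h h2 hq rfl hd6 (hze ▸ hz2) hem (her ▸ hem) hen huM (hze ▸ hzu))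
  · have hneg : -z = mono (Equiv.swap x y * Equiv.swap x' y') (fun w => -e w) := gl_ext_unit fun w => by
      rw [Units.val_neg, neg_mulVec, hze, mono_mulVec_single, mono_mulVec_single, mul_one, mul_one, Units.val_neg,
        Pi.single_neg]
    refine hum (mono_of_comm_two_swaps hH hM hfix h h2 hq rfl hd6 (e := fun w => -e w) ?_ ?_ ?_ (fun w => ?_) huM ?_)
    · rw [← hneg, neg_mul_neg, hz2]
    · rw [Units.val_neg, hem, neg_neg]
    · rw [Units.val_neg, ← her, hem, neg_neg]
    · rw [Units.val_neg, map_neg, neg_mul_neg, hen]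
    · rw [← hneg, neg_mul, mul_neg, hzu]

end Frame

end CfsgLib.Classical22.UDecomp
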