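/-
Monomial overgroups in odd characteristic: an element outside fixing a coordinate line.
-/
import Cfsg.Agent.Lib.Classical22.UDecomp.OneOdd
import Cfsg.Agent.Lib.Classical22.UDecomp.OneOddSix

set_option autoImplicit false

namespace CfsgLib.Classical22.UDecomp

open Matrix CfsgLib.Transvec CfsgLib.Transvec.Unitary CfsgLib.Classical22.Monomial
open scoped MatrixGroups

variable {F : Type*} [Field F] [Fintype F] {σ : F ≃+* F} {q n : ℕ} {M : Subgroup (GL (Fin n) F)}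

local notation "𝕗" => Cfsg.hermForm n F q
local notation:max "𝕖" i:max => (Pi.single i 1 : Fin n → F)

lemma QField.pow_succ_eq_one (h : QField σ q) {l : F} (hl : l * σ l = 1) : l ^ (q + 1) = 1 := by
  rw [pow_succ', ← h.pow, hl]

/-- Two pseudo-reflection tori with non-orthogonal, independent centres sharing a third axis give a transvection. -/
theorem exists_full_of_tori (h : QField σ q) (h2 : (2 : F) ≠ 0) (hq : 3 ≤ q)
    (hH : ∀ g ∈ M, Iso (Cfsg.hermForm n F q) g ∧ (g : Matrix (Fin n) (Fin n) F).det = 1)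
    (hM : ∀ g : GL (Fin n) F, Iso (Cfsg.hermForm n F q) g → (g : Matrix (Fin n) (Fin n) F).det = 1 →
      IsMono g → g ∈ M)
    {v w : Fin n → F} {k : Fin n} (hvv : 𝕗 v v = 1) (hww : 𝕗 w w = 1) (hvk : v k = 0) (hwk : w k = 0)
    (hvm : ∀ l, l * σ l = 1 → qR 𝕗 v l * qR 𝕗 (𝕖 k) l⁻¹ ∈ M)
    (hwm : ∀ l, l * σ l = 1 → qR 𝕗 w l * qR 𝕗 (𝕖 k) l⁻¹ ∈ M)
    (ht0 : 𝕗 v w ≠ 0) (ht1 : 𝕗 v w * σ (𝕗 v w) ≠ 1) :
    ∃ u, UFull σ 𝕗 M u ∧ u ≠ 0 ∧ u k = 0 := by
  classical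
  obtain ⟨φ, hφ⟩ : ∃ φ, φ = 𝕗 v w := ⟨_, rfl⟩
  rw [← hφ] at ht0 ht1
  have hψ : 𝕗 w v = σ φ := by rw [hφ, ← h.unitary.herm]
  obtain ⟨t, ht⟩ : ∃ t, t = φ * σ φ := ⟨_, rfl⟩
  rw [← ht] at ht1
  have ht00 : t ≠ 0 := ht ▸ mul_ne_zero ht0 ((map_ne_zero_iff _ σ.injective).mpr ht0)
  have hσt : σ t = t := by rw [ht, map_mul, h.inv, mul_comm]
  obtain ⟨γ, δ, hγ, hδ, hγ1, -, hskew, -⟩ := h.exists_two_phases hq (t := 1 - t) (s := t)
    (by rw [map_sub, map_one, hσt]) hσt (sub_ne_zero.mpr (Ne.symm ht1)) ht00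
  simp only [map_add, map_sub, map_mul, map_one, hσt, h.inv] at hskew
  have hδ0 := ne_zero_of_norm_one hδ
  have hγ0 := ne_zero_of_norm_one hγ
  obtain ⟨α, hα⟩ : ∃ α, α = δ * γ := ⟨_, rfl⟩
  obtain ⟨β, hβ⟩ : ∃ β, β = δ * σ γ := ⟨_, rfl⟩
  have hαn : α * σ α = 1 := hα ▸ norm_mul hδ hγ
  have hβn : β * σ β = 1 := hβ ▸ norm_mul hδ (by rw [h.inv, mul_comm]; exact hγ)
  have hαβ : α * β = δ * δ := by rw [hα, hβ]; linear_combination (δ * δ) * hγ
  have htr : α + β + (α - 1) * (β - 1) * t = 2 * δ := by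
    rw [hα, hβ]
    linear_combination δ * hskew + (δ * δ * t) * hγ - t * hδ
  have hδβ : δ - β ≠ 0 := fun h0 => hγ1 (by
    have h1 : σ γ = 1 := mul_left_cancel₀ hδ0 (by rw [← hβ, mul_one]; linear_combination -h0)
    rw [← h.inv γ, h1, map_one])
  obtain ⟨G, hG⟩ : ∃ G, G = (qR 𝕗 v α * qR 𝕗 (𝕖 k) α⁻¹) * (qR 𝕗 w β * qR 𝕗 (𝕖 k) β⁻¹) := ⟨_, rfl⟩
  have hGM : G ∈ M := hG ▸ M.mul_mem (hvm α hαn) (hwm β hβn)
  have hvk' : 𝕗 v (𝕖 k) = 0 := by rw [h.form_single_right, hvk]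
  have hwk' : 𝕗 w (𝕖 k) = 0 := by rw [h.form_single_right, hwk]
  have hkv : 𝕗 (𝕖 k) v = 0 := (eq_zero_comm h.unitary).mp hvk'
  have hkw : 𝕗 (𝕖 k) w = 0 := (eq_zero_comm h.unitary).mp hwk'
  have hGy : ∀ y, (G : Matrix (Fin n) (Fin n) F) *ᵥ y =
      y + ((α - 1) * (𝕗 y v + (β - 1) * 𝕗 y w * σ φ)) • v + ((β - 1) * 𝕗 y w) • w
        + ((α * β)⁻¹ - 1) • (𝕗 y (𝕖 k)) • 𝕖 k := fun y => by
    rw [hG, mul_mulVec, torus_mulVec h.unitary hww (h.form_unit k) hwk' hβn (norm_inv hβn),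
      torus_mulVec h.unitary hvv (h.form_unit k) hvk' hαn (norm_inv hαn)]
    simp only [h.unitary.add_left, h.unitary.smul_left, hkv, hwk', h.form_unit, hψ, smul_smul, mul_inv]
    match_scalars <;> ring
  obtain ⟨u, hu⟩ : ∃ u, u = (δ - β) • v + ((β - 1) * φ) • w := ⟨_, rfl⟩
  have hGv : (G : Matrix (Fin n) (Fin n) F) *ᵥ v = δ • v + (1 : F) • u := by
    rw [hGy, hvv, ← hφ, hvk', hu]
    match_scalars
    · linear_combination htr + (α - 1) * (β - 1) * (-ht)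
    · ring
    · ring
  obtain ⟨c, hc⟩ : ∃ c, c = β * (α - 1) * σ φ / (δ - β) := ⟨_, rfl⟩
  have hcw : c * (δ - β) = β * (α - 1) * σ φ := by rw [hc, div_mul_cancel₀ _ hδβ]
  have hcw2 : c * ((β - 1) * φ) = β - δ := by
    apply mul_left_cancel₀ hδβ
    linear_combination ((β - 1) * φ) * hcw + β * htr + β * (α - 1) * (β - 1) * (-ht) - hαβ
  have hGw : (G : Matrix (Fin n) (Fin n) F) *ᵥ w = δ • w + c • u := by
    rw [hGy, hww, hψ, hwk', hu]
    match_scalars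
    · linear_combination -hcw2
    · linear_combination -hcw
    · ring
  have hGu : (G : Matrix (Fin n) (Fin n) F) *ᵥ u = δ • u := by
    rw [hu, mulVec_add, mulVec_smul, mulVec_smul, hGv, hGw, hu]
    match_scalars
    · linear_combination (δ - β) * hcw2
    · linear_combination ((β - 1) * φ) * hcw2
  have hu0 : u ≠ 0 := by
    intro h0
    have e1 := congrArg (fun y => 𝕗 y v) h0
    have e2 := congrArg (fun y => 𝕗 y w) h0
    simp only [hu, h.unitary.add_left, h.unitary.smul_left, hvv, hψ, ← hφ, hww, zero_left' h.unitary] at e1 e2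
    exact hδβ ((mul_eq_zero.mp (by linear_combination e1 - σ φ * e2 - (δ - β) * ht :
      (δ - β) * (1 - t) = 0)).resolve_right (sub_ne_zero.mpr (Ne.symm ht1)))
  have hpow : ∀ (m : ℕ) (y : Fin n → F) (c : F), (G : Matrix (Fin n) (Fin n) F) *ᵥ y = δ • y + c • u →
      ((G ^ (m + 1) : GL (Fin n) F) : Matrix (Fin n) (Fin n) F) *ᵥ y =
        δ ^ (m + 1) • y + (((m : F) + 1) * δ ^ m * c) • u := by
    intro m y c hy
    induction m with
    | zero => simpa using hy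
    | succ m ih =>
      rw [pow_succ' G, mul_mulVec, ih, mulVec_add, mulVec_smul, mulVec_smul, hy, hGu, Nat.cast_succ]
      module
  obtain ⟨T, hT⟩ : ∃ T, T = G ^ (q + 1) := ⟨_, rfl⟩
  have hTc : ∀ (y : Fin n → F) (c : F), (G : Matrix (Fin n) (Fin n) F) *ᵥ y = δ • y + c • u →
      (T : Matrix (Fin n) (Fin n) F) *ᵥ y = y + (δ ^ q * c) • u := fun y c hy => by
    rw [hT, hpow q y c hy, h.pow_succ_eq_one hδ, h.natCast_q', zero_add, one_mul, one_smul]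
  have hfix : ∀ y, (G : Matrix (Fin n) (Fin n) F) *ᵥ y = y → (T : Matrix (Fin n) (Fin n) F) *ᵥ y = y := by
    intro y hy
    rw [hT]
    induction q + 1 with
    | zero => simp
    | succ m ih => rw [pow_succ', mul_mulVec, ih, hy]
  have hTk : (T : Matrix (Fin n) (Fin n) F) *ᵥ 𝕖 k = 𝕖 k := by
    have hGk : (G : Matrix (Fin n) (Fin n) F) *ᵥ 𝕖 k = (α * β)⁻¹ • 𝕖 k := by
      rw [hGy, hkv, hkw, h.form_unit]; module
    have hk : ∀ m : ℕ, ((G ^ m : GL (Fin n) F) : Matrix (Fin n) (Fin n) F) *ᵥ 𝕖 k = ((α * β)⁻¹) ^ m • 𝕖 k := by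
      intro m
      induction m with
      | zero => rw [pow_zero, Units.val_one, one_mulVec, pow_zero, one_smul]
      | succ m ih => rw [pow_succ' G, mul_mulVec, ih, mulVec_smul, hGk, smul_smul, pow_succ]
    rw [hT, hk, h.pow_succ_eq_one (norm_inv (norm_mul hαn hβn)), one_smul]
  have hline : ∀ x, ∃ e : F, (T : Matrix (Fin n) (Fin n) F) *ᵥ x = x + e • u := fun x => by
    obtain ⟨r, hr⟩ : ∃ r, r = (𝕗 x w - φ * 𝕗 x v) / (1 - t) := ⟨_, rfl⟩
    rw [eq_div_iff (sub_ne_zero.mpr (Ne.symm ht1))] at hr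
    obtain ⟨p, hp⟩ : ∃ p, p = 𝕗 x v - r * σ φ := ⟨_, rfl⟩
    obtain ⟨y, hy⟩ : ∃ y, y = x - p • v - r • w - (𝕗 x (𝕖 k)) • 𝕖 k := ⟨_, rfl⟩
    have hyv : 𝕗 y v = 0 := by
      simp only [hy, Unitary.sub_left' h.unitary, h.unitary.smul_left, hvv, hψ, hkv]
      linear_combination -hp
    have hyw : 𝕗 y w = 0 := by
      simp only [hy, Unitary.sub_left' h.unitary, h.unitary.smul_left, ← hφ, hww, hkw]
      linear_combination (-φ) * hp - hr - r * ht
    have hyk : 𝕗 y (𝕖 k) = 0 := by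
      simp only [hy, Unitary.sub_left' h.unitary, h.unitary.smul_left, hvk', hwk', h.form_unit]
      ring
    have hGyy : (G : Matrix (Fin n) (Fin n) F) *ᵥ y = y := by rw [hGy, hyv, hyw, hyk]; module
    refine ⟨δ ^ q * p + δ ^ q * c * r, ?_⟩
    have hx : x = y + p • v + r • w + (𝕗 x (𝕖 k)) • 𝕖 k := by rw [hy]; abel
    conv_lhs => rw [hx]
    rw [mulVec_add, mulVec_add, mulVec_add, mulVec_smul, mulVec_smul, mulVec_smul, hfix y hGyy, hTc v 1 hGv,
      hTc w c hGw, hTk]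
    conv_rhs => rw [hx]
    module
  have hTM : T ∈ M := hT ▸ M.pow_mem hGM _
  have hT1 : T ≠ 1 := fun h1 => by
    have := hTc v 1 hGv
    rw [h1, Units.val_one, one_mulVec, mul_one, left_eq_add, smul_eq_zero] at this
    exact this.elim (fun h0 => pow_ne_zero q hδ0 h0) hu0
  obtain ⟨a, ha0, ha, huu, hTu⟩ := exists_uT_of_line h.unitary (hH T hTM).1 (hH T hTM).2 hu0 hline hT1
  have huk : u k = 0 := by rw [hu]; simp [hvk, hwk]
  obtain ⟨i, hi⟩ := Function.ne_iff.mp hu0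
  have hik : i ≠ k := fun e => hi (e ▸ huk)
  refine ⟨u, full_of_single h h.unitary huu (h.form_unit i) (h.form_unit k) (h.form_ne hik)
    (by rwa [h.form_single_right]) (by rw [h.form_single_right, huk]) (fun l hl => ?_) ha ha0 (hTu ▸ hTM)
    (Or.inl h2), hu0, huk⟩
  obtain ⟨h1, h3, h4⟩ := h.torus_mem_mono hik hl
  exact hM _ h1 h3 h4

/-- An element outside fixing a coordinate line gives a full centre. -/
theorem exists_full_fix (h : QField σ q) (h2 : (2 : F) ≠ 0) (hq : 3 ≤ q)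
    (hH : ∀ g ∈ M, Iso (Cfsg.hermForm n F q) g ∧ (g : Matrix (Fin n) (Fin n) F).det = 1)
    (hM : ∀ g : GL (Fin n) F, Iso (Cfsg.hermForm n F q) g → (g : Matrix (Fin n) (Fin n) F).det = 1 →
      IsMono g → g ∈ M)
    {g : GL (Fin n) F} (hg : g ∈ M) (hgm : ¬ IsMono g) {a k : Fin n} {c : F}
    (hak : (g : Matrix (Fin n) (Fin n) F) *ᵥ 𝕖 a = Pi.single k c) :
    ∃ u, UFull σ 𝕗 M u ∧ u ≠ 0 ∧ u k = 0 := by
  classical
  have hak' : (g : Matrix (Fin n) (Fin n) F) *ᵥ 𝕖 a = c • 𝕖 k := by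
    rw [hak, ← Pi.single_smul, smul_eq_mul, mul_one]
  have hc : c * σ c = 1 := by
    have := image_form hH h hg a a
    rwa [hak', h.unitary.smul_left, Unitary.smul_right' h.unitary, h.form_unit, mul_one, if_pos rfl] at this
  obtain ⟨i, hi⟩ : ∃ i, ∀ r, ∃ l, l ≠ r ∧ (g : Matrix (Fin n) (Fin n) F) l i ≠ 0 := by
    by_contra hcon
    push Not at hcon
    exact hgm hcon
  have hia : i ≠ a := by
    rintro rfl
    obtain ⟨l, hlk, hl⟩ := hi k
    exact hl (by rw [← col_eq, hak, Pi.single_eq_of_ne hlk])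
  obtain ⟨w, hw⟩ : ∃ w, w = (g : Matrix (Fin n) (Fin n) F) *ᵥ 𝕖 i := ⟨_, rfl⟩
  have hww : 𝕗 w w = 1 := by rw [hw, image_form hH h hg, if_pos rfl]
  have hwk : w k = 0 := by
    have := image_form hH h hg i a
    rw [if_neg hia, hak', Unitary.smul_right' h.unitary, h.form_single_right, ← hw] at this
    exact (mul_eq_zero.mp this).resolve_left ((map_ne_zero_iff _ σ.injective).mpr (ne_zero_of_norm_one hc))
  have hwm : ∀ l, l * σ l = 1 → qR 𝕗 w l * qR 𝕗 (𝕖 k) l⁻¹ ∈ M := fun l hl => by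
    have h1 := conj_torus_mem hH hM h hg hia hl
    rwa [hak', h.qR_smul (h.form_unit k) hc (norm_inv hl), ← hw] at h1
  have hwsupp : ∀ r, ∃ l, l ≠ r ∧ w l ≠ 0 := fun r => by
    obtain ⟨l, hl, hl0⟩ := hi r
    exact ⟨l, hl, by rwa [hw, col_eq]⟩
  by_cases hex : ∃ l, w l ≠ 0 ∧ w l * σ (w l) ≠ 1
  · obtain ⟨l, hl0, hl1⟩ := hex
    have hlk : l ≠ k := fun e => hl0 (e ▸ hwk)
    refine exists_full_of_tori h h2 hq hH hM hww (h.form_unit l) hwk (Pi.single_eq_of_ne hlk.symm _) hwm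
      (fun r hr => ?_) (by rwa [h.form_single_right]) (by rwa [h.form_single_right])
    obtain ⟨h1, h3, h4⟩ := h.torus_mem_mono hlk hr
    exact hM _ h1 h3 h4
  push Not at hex
  obtain ⟨l₁, -, hl₁⟩ := hwsupp k
  obtain ⟨l₂, hl12, hl₂⟩ := hwsupp l₁
  have h1k : l₁ ≠ k := fun e => hl₁ (e ▸ hwk)
  have h2k : l₂ ≠ k := fun e => hl₂ (e ▸ hwk)
  obtain ⟨l, hl, hlS⟩ := h.exists_norm_one_notMem (S := ({1, 2, 2⁻¹} : Finset F)) (Finset.card_le_three.trans hq)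
  simp only [Finset.mem_insert, Finset.mem_singleton, not_or] at hlS
  obtain ⟨d, hdi, hdd, hdm, cz, hcz, hd⟩ := h.exists_mono 1 (fun r => if r = l₁ then l else if r = l₂ then l else 1)
    (fun r => by split_ifs <;> simp [hl]) k
  obtain ⟨w', hw'⟩ : ∃ w', w' = (d : Matrix (Fin n) (Fin n) F) *ᵥ w := ⟨_, rfl⟩
  have hw'r : ∀ r, w' r = if r = l₁ then l * w r else if r = l₂ then l * w r else w r := fun r => by
    have := hd w r
    rw [Equiv.Perm.one_apply] at this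
    rw [hw', this]
    by_cases hr : r = k
    · subst hr; simp [hwk]
    · rw [if_neg hr]; split_ifs <;> simp
  have hdk : (d : Matrix (Fin n) (Fin n) F) *ᵥ 𝕖 k = cz • 𝕖 k := by
    funext r
    have := hd (𝕖 k) r
    rw [Equiv.Perm.one_apply] at this
    rw [this, Pi.smul_apply, smul_eq_mul]
    by_cases hr : r = k
    · subst hr; simp
    · simp [hr]
  have hw'w' : 𝕗 w' w' = 1 := by rw [hw', hdi, hww]
  have hdM := hM d hdi hdd hdm
  have hw'm : ∀ r, r * σ r = 1 → qR 𝕗 w' r * qR 𝕗 (𝕖 k) r⁻¹ ∈ M := fun r hr => by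
    have h1 := M.mul_mem (M.mul_mem hdM (hwm r hr)) (M.inv_mem hdM)
    rwa [show d * (qR 𝕗 w r * qR 𝕗 (𝕖 k) r⁻¹) * d⁻¹ = (d * qR 𝕗 w r * d⁻¹) * (d * qR 𝕗 (𝕖 k) r⁻¹ * d⁻¹) by group,
      conj_qR h.unitary hdi hww hr, conj_qR h.unitary hdi (h.form_unit k) (norm_inv hr), ← hw', hdk,
      h.qR_smul (h.form_unit k) hcz (norm_inv hr)] at h1
  have hform : 𝕗 w' w = 2 * l - 1 := by
    have h1 : 𝕗 (w' - w) w = 2 * l - 2 := by
      rw [h.form_pair hl12.symm (fun r hr1 hr2 => by rw [Pi.sub_apply, hw'r, if_neg hr1, if_neg hr2, sub_self]),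
        Pi.sub_apply, Pi.sub_apply, hw'r, hw'r, if_pos rfl, if_neg hl12, if_pos rfl]
      linear_combination (l - 1) * hex l₁ hl₁ + (l - 1) * hex l₂ hl₂
    rw [Unitary.sub_left' h.unitary, hww] at h1
    linear_combination h1
  refine exists_full_of_tori h h2 hq hH hM hw'w' hww (by rw [hw'r, if_neg h1k.symm, if_neg h2k.symm, hwk]) hwk
    hw'm hwm ?_ ?_
  · rw [hform]
    intro h0
    exact hlS.2.2 (eq_inv_of_mul_eq_one_left (by linear_combination h0))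
  · rw [hform, map_sub, map_mul, map_ofNat, map_one]
    intro h0
    have h1 : (2 : F) * ((l - 1) * (l - 1)) = 0 := by linear_combination (-l) * h0 + (4 * l - 2) * hl
    exact hlS.1 (sub_eq_zero.mp ((mul_eq_zero.mp ((mul_eq_zero.mp h1).resolve_left h2)).elim id id))

/-- Odd characteristic: an element outside gives a full centre with a zero coordinate. -/
theorem exists_full_odd (h : QField σ q) (h2 : (2 : F) ≠ 0) (hq : 3 ≤ q) (hn : 8 ≤ n ∨ n = 6)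
    (hH : ∀ g ∈ M, Iso (Cfsg.hermForm n F q) g ∧ (g : Matrix (Fin n) (Fin n) F).det = 1)
    (hM : ∀ g : GL (Fin n) F, Iso (Cfsg.hermForm n F q) g → (g : Matrix (Fin n) (Fin n) F).det = 1 →
      IsMono g → g ∈ M)
    {g : GL (Fin n) F} (hg : g ∈ M) (hgm : ¬ IsMono g) :
    ∃ u k, UFull σ 𝕗 M u ∧ u ≠ 0 ∧ u k = 0 := by
  by_cases hex : ∃ c ∈ M, ¬ IsMono c ∧ ∃ a k e, (c : Matrix (Fin n) (Fin n) F) *ᵥ 𝕖 a = Pi.single k e
  · obtain ⟨c, hc, hcm, a, k, e, hak⟩ := hex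
    obtain ⟨u, hu⟩ := exists_full_fix h h2 hq hH hM hc hcm hak
    exact ⟨u, k, hu⟩
  · push Not at hex
    have hfix := fun c hc a k e he => by_contra fun hcm => hex c hc hcm a k e he
    rcases hn with hn | hn
    · exact (no_spread hH hM hfix h h2 hq hn hg hgm).elim
    · exact (no_spread_six hH hM hfix h h2 hq hn hg hgm).elim

end CfsgLib.Classical22.UDecomp
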