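/-
Monomial overgroups: every centre.
-/
import Cfsg.Agent.Lib.Classical22.UDecomp.OneOddFix
import Cfsg.Agent.Lib.Classical22.UDecomp.OneEven

set_option autoImplicit false

namespace CfsgLib.Classical22.UDecomp

open Matrix CfsgLib.Transvec CfsgLib.Transvec.Unitary CfsgLib.Classical22.Monomial
open scoped MatrixGroups

variable {F : Type*} [Field F] [Fintype F] {σ : F ≃+* F} {q n : ℕ} {M : Subgroup (GL (Fin n) F)}

theorem all_full_of_not_mono (h : QField σ q) (hn : 8 ≤ n ∨ (n = 6 ∧ 3 ≤ q))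
    (hH : ∀ g ∈ M, Iso (Cfsg.hermForm n F q) g ∧ (g : Matrix (Fin n) (Fin n) F).det = 1)
    (hM : ∀ g : GL (Fin n) F, Iso (Cfsg.hermForm n F q) g → (g : Matrix (Fin n) (Fin n) F).det = 1 →
      IsMono g → g ∈ M)
    {g : GL (Fin n) F} (hg : g ∈ M) (hgm : ¬ IsMono g) :
    ∀ x, Cfsg.hermForm n F q x x = 0 → UFull σ (Cfsg.hermForm n F q) M x := by
  by_cases hq : q = 2
  · exact all_full_two hH hM h hq (by omega) hg hgm
  have hq3 : 3 ≤ q := by have := h.two_le; omega
  obtain ⟨u, k, hu, hu0, huk⟩ : ∃ u k, UFull σ (Cfsg.hermForm n F q) M u ∧ u ≠ 0 ∧ u k = 0 := by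
    by_cases h2 : (2 : F) = 0
    · refine exists_full_even hH hM h h2 ?_ (by omega) hg hgm
      by_contra h4
      have h3 : ((3 : ℕ) : F) = 0 := by rw [show (3 : ℕ) = q by omega]; exact h.natCast_q'
      push_cast at h3
      exact one_ne_zero (α := F) (by linear_combination h3 - h2)
    · exact exists_full_odd h h2 hq3 (hn.imp_right And.left) hH hM hg hgm
  exact one_all_full hM h hq3 (by omega) hu hu0 huk

end CfsgLib.Classical22.UDecomp
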